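import Cfsg.Agent.Lib.EMinDeg.PolyCert

/-!
The degrees just below the bound do not divide the class length of a root element times a power of the
field size (certificates generated).
-/

set_option autoImplicit false

namespace CfsgLib.EMinDeg

/-- The product. -/
def prodE6 : List ℤ :=
  [0, 0, 0, 0, 0, 0, 0, 0, 0, 0, 0, -1, 0, 0, -1, -1, 0, -1, -1, 0, 0, -1, 0, 1, 0, 0, 1, 1, 0, 1, 1, 0, 0, 1]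

/-- The certificates. -/
def facsE6 : List (List ℤ × List Fac) := [
  ([-1, 1, 0, 0, 1, 1, 0, 1, 1, 0, 0, 1], [
    ⟨[0, 1], 11, 0, 1, [-1], [1, 0, 0, 1, 1, 0, 1, 1, 0, 0, 1], [-1, 1, 0, 0, 1, 1, 0, 1, 1, 0, 0, 1]⟩,
    ⟨[-1, 1], 1, 0, 5, [1], [-6, -5, -5, -5, -4, -3, -3, -2, -1, -1, -1], [-1, 1, 0, 0, 1, 1, 0, 1, 1, 0, 0, 1]⟩,
    ⟨[1, 1], 1, 0, 3, [-1], [2, -1, 1, -1, 2, -1, 1, 0, 1, -1, 1], [-1, 1, 0, 0, 1, 1, 0, 1, 1, 0, 0, 1]⟩,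
    ⟨[1, 1, 1], 1, 0, 4, [-1], [3, -2, -1, 3, -1, -1, 2, 0, -1, 1], [-1, 1, 0, 0, 1, 1, 0, 1, 1, 0, 0, 1]⟩,
    ⟨[1, 0, 1], 1, 0, 1, [1], [2, -1, -2, 1, 1, -2, -1, 1, 0, -1], [-1, 1, 0, 0, 1, 1, 0, 1, 1, 0, 0, 1]⟩,
    ⟨[1, -1, 1], 1, 1, 4, [-1], [3, 3, 1, -1, -1, 1, 2, 1], [-1, 0, 1, 1, 1, 1, 0, 0, 1, 1]⟩,
    ⟨[1, 0, 0, 0, 1], 1, 0, 1, [-1], [0, 1, 0, 0, 1, 0, 0, 1], [-1, 1, 0, 0, 1, 1, 0, 1, 1, 0, 0, 1]⟩,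
    ⟨[1, 0, 0, 1, 0, 0, 1], 1, 0, 1, [-1], [0, 1, 0, 0, 0, 1], [-1, 1, 0, 0, 1, 1, 0, 1, 1, 0, 0, 1]⟩,
    ⟨[1, 0, -1, 0, 1], 1, 0, 2, [-1], [1, 1, 1, 1, 1, 1, 0, 1], [-1, 1, 0, 0, 1, 1, 0, 1, 1, 0, 0, 1]⟩]),
  ([-2, 1, 0, 0, 1, 1, 0, 1, 1, 0, 0, 1], [
    ⟨[0, 1], 11, 0, 2, [-1], [1, 0, 0, 1, 1, 0, 1, 1, 0, 0, 1], [-2, 1, 0, 0, 1, 1, 0, 1, 1, 0, 0, 1]⟩,
    ⟨[-1, 1], 1, 0, 4, [1], [-6, -5, -5, -5, -4, -3, -3, -2, -1, -1, -1], [-2, 1, 0, 0, 1, 1, 0, 1, 1, 0, 0, 1]⟩,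
    ⟨[1, 1], 1, 0, 4, [-1], [2, -1, 1, -1, 2, -1, 1, 0, 1, -1, 1], [-2, 1, 0, 0, 1, 1, 0, 1, 1, 0, 0, 1]⟩,
    ⟨[1, 1, 1], 1, 0, 5, [-1], [3, -2, -1, 3, -1, -1, 2, 0, -1, 1], [-2, 1, 0, 0, 1, 1, 0, 1, 1, 0, 0, 1]⟩,
    ⟨[1, 0, 1], 1, 1, 12, [-1, -1], [10, -1, -7, 2, 5, -1, -2, 1, 1], [-2, 1, 2, -1, -1, 2, 1, -1, 0, 1]⟩,
    ⟨[1, -1, 1], 1, 0, 1, [-1], [-1, 0, 1, 1, 1, 1, 0, 0, 1, 1], [-2, 1, 0, 0, 1, 1, 0, 1, 1, 0, 0, 1]⟩,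
    ⟨[1, 0, 0, 0, 1], 1, 0, 2, [-1], [0, 1, 0, 0, 1, 0, 0, 1], [-2, 1, 0, 0, 1, 1, 0, 1, 1, 0, 0, 1]⟩,
    ⟨[1, 0, 0, 1, 0, 0, 1], 1, 0, 2, [-1], [0, 1, 0, 0, 0, 1], [-2, 1, 0, 0, 1, 1, 0, 1, 1, 0, 0, 1]⟩,
    ⟨[1, 0, -1, 0, 1], 1, 0, 3, [-1], [1, 1, 1, 1, 1, 1, 0, 1], [-2, 1, 0, 0, 1, 1, 0, 1, 1, 0, 0, 1]⟩]),
  ([-3, 1, 0, 0, 1, 1, 0, 1, 1, 0, 0, 1], [
    ⟨[0, 1], 11, 0, 3, [-1], [1, 0, 0, 1, 1, 0, 1, 1, 0, 0, 1], [-3, 1, 0, 0, 1, 1, 0, 1, 1, 0, 0, 1]⟩,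
    ⟨[-1, 1], 1, 0, 3, [1], [-6, -5, -5, -5, -4, -3, -3, -2, -1, -1, -1], [-3, 1, 0, 0, 1, 1, 0, 1, 1, 0, 0, 1]⟩,
    ⟨[1, 1], 1, 0, 5, [-1], [2, -1, 1, -1, 2, -1, 1, 0, 1, -1, 1], [-3, 1, 0, 0, 1, 1, 0, 1, 1, 0, 0, 1]⟩,
    ⟨[1, 1, 1], 1, 0, 6, [-1], [3, -2, -1, 3, -1, -1, 2, 0, -1, 1], [-3, 1, 0, 0, 1, 1, 0, 1, 1, 0, 0, 1]⟩,
    ⟨[1, 0, 1], 1, 0, 1, [-1], [-2, 1, 2, -1, -1, 2, 1, -1, 0, 1], [-3, 1, 0, 0, 1, 1, 0, 1, 1, 0, 0, 1]⟩,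
    ⟨[1, -1, 1], 1, 0, 2, [-1], [-1, 0, 1, 1, 1, 1, 0, 0, 1, 1], [-3, 1, 0, 0, 1, 1, 0, 1, 1, 0, 0, 1]⟩,
    ⟨[1, 0, 0, 0, 1], 1, 0, 3, [-1], [0, 1, 0, 0, 1, 0, 0, 1], [-3, 1, 0, 0, 1, 1, 0, 1, 1, 0, 0, 1]⟩,
    ⟨[1, 0, 0, 1, 0, 0, 1], 1, 0, 3, [-1], [0, 1, 0, 0, 0, 1], [-3, 1, 0, 0, 1, 1, 0, 1, 1, 0, 0, 1]⟩,
    ⟨[1, 0, -1, 0, 1], 1, 0, 4, [-1], [1, 1, 1, 1, 1, 1, 0, 1], [-3, 1, 0, 0, 1, 1, 0, 1, 1, 0, 0, 1]⟩]),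
  ([-4, 1, 0, 0, 1, 1, 0, 1, 1, 0, 0, 1], [
    ⟨[0, 1], 11, 0, 4, [-1], [1, 0, 0, 1, 1, 0, 1, 1, 0, 0, 1], [-4, 1, 0, 0, 1, 1, 0, 1, 1, 0, 0, 1]⟩,
    ⟨[-1, 1], 1, 0, 2, [1], [-6, -5, -5, -5, -4, -3, -3, -2, -1, -1, -1], [-4, 1, 0, 0, 1, 1, 0, 1, 1, 0, 0, 1]⟩,
    ⟨[1, 1], 1, 0, 6, [-1], [2, -1, 1, -1, 2, -1, 1, 0, 1, -1, 1], [-4, 1, 0, 0, 1, 1, 0, 1, 1, 0, 0, 1]⟩,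
    ⟨[1, 1, 1], 1, 0, 7, [-1], [3, -2, -1, 3, -1, -1, 2, 0, -1, 1], [-4, 1, 0, 0, 1, 1, 0, 1, 1, 0, 0, 1]⟩,
    ⟨[1, 0, 1], 1, 0, 2, [-1], [-2, 1, 2, -1, -1, 2, 1, -1, 0, 1], [-4, 1, 0, 0, 1, 1, 0, 1, 1, 0, 0, 1]⟩,
    ⟨[1, -1, 1], 1, 0, 3, [-1], [-1, 0, 1, 1, 1, 1, 0, 0, 1, 1], [-4, 1, 0, 0, 1, 1, 0, 1, 1, 0, 0, 1]⟩,
    ⟨[1, 0, 0, 0, 1], 1, 0, 4, [-1], [0, 1, 0, 0, 1, 0, 0, 1], [-4, 1, 0, 0, 1, 1, 0, 1, 1, 0, 0, 1]⟩,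
    ⟨[1, 0, 0, 1, 0, 0, 1], 1, 0, 4, [-1], [0, 1, 0, 0, 0, 1], [-4, 1, 0, 0, 1, 1, 0, 1, 1, 0, 0, 1]⟩,
    ⟨[1, 0, -1, 0, 1], 1, 0, 5, [-1], [1, 1, 1, 1, 1, 1, 0, 1], [-4, 1, 0, 0, 1, 1, 0, 1, 1, 0, 0, 1]⟩]),
  ([-5, 1, 0, 0, 1, 1, 0, 1, 1, 0, 0, 1], [
    ⟨[0, 1], 11, 0, 5, [-1], [1, 0, 0, 1, 1, 0, 1, 1, 0, 0, 1], [-5, 1, 0, 0, 1, 1, 0, 1, 1, 0, 0, 1]⟩,
    ⟨[-1, 1], 1, 0, 1, [1], [-6, -5, -5, -5, -4, -3, -3, -2, -1, -1, -1], [-5, 1, 0, 0, 1, 1, 0, 1, 1, 0, 0, 1]⟩,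
    ⟨[1, 1], 1, 0, 7, [-1], [2, -1, 1, -1, 2, -1, 1, 0, 1, -1, 1], [-5, 1, 0, 0, 1, 1, 0, 1, 1, 0, 0, 1]⟩,
    ⟨[1, 1, 1], 1, 0, 8, [-1], [3, -2, -1, 3, -1, -1, 2, 0, -1, 1], [-5, 1, 0, 0, 1, 1, 0, 1, 1, 0, 0, 1]⟩,
    ⟨[1, 0, 1], 1, 0, 3, [-1], [-2, 1, 2, -1, -1, 2, 1, -1, 0, 1], [-5, 1, 0, 0, 1, 1, 0, 1, 1, 0, 0, 1]⟩,
    ⟨[1, -1, 1], 1, 0, 4, [-1], [-1, 0, 1, 1, 1, 1, 0, 0, 1, 1], [-5, 1, 0, 0, 1, 1, 0, 1, 1, 0, 0, 1]⟩,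
    ⟨[1, 0, 0, 0, 1], 1, 0, 5, [-1], [0, 1, 0, 0, 1, 0, 0, 1], [-5, 1, 0, 0, 1, 1, 0, 1, 1, 0, 0, 1]⟩,
    ⟨[1, 0, 0, 1, 0, 0, 1], 1, 0, 5, [-1], [0, 1, 0, 0, 0, 1], [-5, 1, 0, 0, 1, 1, 0, 1, 1, 0, 0, 1]⟩,
    ⟨[1, 0, -1, 0, 1], 1, 0, 6, [-1], [1, 1, 1, 1, 1, 1, 0, 1], [-5, 1, 0, 0, 1, 1, 0, 1, 1, 0, 0, 1]⟩]),
  ([-6, 1, 0, 0, 1, 1, 0, 1, 1, 0, 0, 1], [
    ⟨[0, 1], 11, 0, 6, [-1], [1, 0, 0, 1, 1, 0, 1, 1, 0, 0, 1], [-6, 1, 0, 0, 1, 1, 0, 1, 1, 0, 0, 1]⟩,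
    ⟨[-1, 1], 1, 1, 36, [1], [-30, -25, -20, -15, -11, -8, -5, -3, -2, -1], [6, 5, 5, 5, 4, 3, 3, 2, 1, 1, 1]⟩,
    ⟨[1, 1], 1, 0, 8, [-1], [2, -1, 1, -1, 2, -1, 1, 0, 1, -1, 1], [-6, 1, 0, 0, 1, 1, 0, 1, 1, 0, 0, 1]⟩,
    ⟨[1, 1, 1], 1, 0, 9, [-1], [3, -2, -1, 3, -1, -1, 2, 0, -1, 1], [-6, 1, 0, 0, 1, 1, 0, 1, 1, 0, 0, 1]⟩,
    ⟨[1, 0, 1], 1, 0, 4, [-1], [-2, 1, 2, -1, -1, 2, 1, -1, 0, 1], [-6, 1, 0, 0, 1, 1, 0, 1, 1, 0, 0, 1]⟩,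
    ⟨[1, -1, 1], 1, 0, 5, [-1], [-1, 0, 1, 1, 1, 1, 0, 0, 1, 1], [-6, 1, 0, 0, 1, 1, 0, 1, 1, 0, 0, 1]⟩,
    ⟨[1, 0, 0, 0, 1], 1, 0, 6, [-1], [0, 1, 0, 0, 1, 0, 0, 1], [-6, 1, 0, 0, 1, 1, 0, 1, 1, 0, 0, 1]⟩,
    ⟨[1, 0, 0, 1, 0, 0, 1], 1, 0, 6, [-1], [0, 1, 0, 0, 0, 1], [-6, 1, 0, 0, 1, 1, 0, 1, 1, 0, 0, 1]⟩,
    ⟨[1, 0, -1, 0, 1], 1, 0, 7, [-1], [1, 1, 1, 1, 1, 1, 0, 1], [-6, 1, 0, 0, 1, 1, 0, 1, 1, 0, 0, 1]⟩])]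

theorem chkFacsE6 : (facsE6.all fun p => chkFacs p.1 prodE6 p.2 && chkBound 64 11 2 p.2) = true := by
  decide +kernel

theorem chkCandE6 : ((List.range 6).all fun d => decide
    (addL [0, 1, 0, 0, 1, 1, 0, 1, 1, 0, 0, 1] [-((d : ℤ) + 1)] ∈ facsE6.map Prod.fst)) = true := by
  decide +kernel

theorem smallE6 : ((List.range 61).all fun a => (List.range 6).all fun d =>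
    decide (¬ (a + 3) * ((a + 3) ^ 6 + (a + 3) ^ 3 + 1) * ((a + 3) ^ 4 + 1) - (d + 1) ∣
      ((a + 3) ^ 12 - 1) * ((a + 3) ^ 6 + (a + 3) ^ 3 + 1) * ((a + 3) ^ 4 + 1) * (a + 3) ^ 11)) = true := by
  decide +kernel

theorem smallTwoE6 : ((List.range 32).all fun d =>
    decide (¬ (2482 - (d + 1)) ∣ (2 ^ 12 - 1) * (2 ^ 6 + 2 ^ 3 + 1) * (2 ^ 4 + 1) * 2 ^ 11)) = true := by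
  decide +kernel

/-- No degree just below the bound divides. -/
theorem not_dvd_E6 {q k : ℕ} (hq : 3 ≤ q) (hlo : q * (q ^ 6 + q ^ 3 + 1) * (q ^ 4 + 1) ≤ k + 6)
    (hhi : k < q * (q ^ 6 + q ^ 3 + 1) * (q ^ 4 + 1)) :
    ¬ k ∣ (q ^ 12 - 1) * (q ^ 6 + q ^ 3 + 1) * (q ^ 4 + 1) * q ^ 11 := by
  set T := q * (q ^ 6 + q ^ 3 + 1) * (q ^ 4 + 1) with hT
  obtain ⟨d, hd, rfl⟩ : ∃ d, d < 6 ∧ k = T - (d + 1) := ⟨T - k - 1, by omega, by omega⟩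
  rcases Nat.lt_or_ge q 64 with hq' | hq'
  · have := smallE6
    simp only [List.all_eq_true, List.mem_range, decide_eq_true_eq] at this
    have h := this (q - 3) (by omega) d hd
    rwa [Nat.sub_add_cancel hq] at h
  · intro hdvd
    have hc := chkCandE6
    simp only [List.all_eq_true, List.mem_range, decide_eq_true_eq] at hc
    obtain ⟨p, hp, he⟩ := List.mem_map.1 (hc d hd)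
    have hf := chkFacsE6
    simp only [List.all_eq_true, Bool.and_eq_true] at hf
    obtain ⟨hf1, hf2⟩ := hf p hp
    have h1 : 1 ≤ q ^ 12 := Nat.one_le_pow _ _ (by omega)
    have e : T = q ^ 11 + (q ^ 8 + q ^ 7 + q ^ 5 + q ^ 4 + q) := by rw [hT]; ring
    have hK : evalL (q : ℤ) p.1 = ((T - (d + 1) : ℕ) : ℤ) := by
      rw [he, evalL_addL, Nat.cast_sub (show d + 1 ≤ T by omega), hT]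
      simp only [evalL]
      push_cast
      ring
    have hW : evalL (q : ℤ) prodE6 =
        (((q ^ 12 - 1) * (q ^ 6 + q ^ 3 + 1) * (q ^ 4 + 1) * q ^ 11 : ℕ) : ℤ) := by
      push_cast [Nat.cast_sub h1]
      simp only [prodE6, evalL]
      ring
    refine not_dvd_of_chk (x := (q : ℤ)) hf1 hf2 (by exact_mod_cast hq') (by exact_mod_cast (by omega : 1 ≤ q)) ?_ ?_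
    · rw [hK]
      have h8 : 6 ≤ q ^ 8 + q ^ 7 + q ^ 5 + q ^ 4 + q := by omega
      exact_mod_cast (show q ^ 11 ≤ T - (d + 1) by omega)
    · rw [hK, hW]
      exact Int.natCast_dvd_natCast.2 hdvd

end CfsgLib.EMinDeg
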