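import Cfsg.Agent.Lib.EMinDeg.PolyCert

/-!
The degrees just below the bound of E8 do not divide the class length of a root element times a power of
the field size (certificates generated).
-/

set_option autoImplicit false

namespace CfsgLib.EMinDeg

/-- The certificates. -/
def facsE8 : List (List ℤ × List Fac) := [
  ([-1, 1, 0, 0, 0, 0, 0, 1, 0, 0, 0, 1, 0, 1, 0, 0, 0, 1, 0, 1, 0, 0, 0, 1, 0, 0, 0, 0, 0, 1], [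
    ⟨[0, 1], 29, 0, 1, [-1], [1, 0, 0, 0, 0, 0, 1, 0, 0, 0, 1, 0, 1, 0, 0, 0, 1, 0, 1, 0, 0, 0, 1, 0, 0, 0, 0, 0, 1], [-1, 1, 0, 0, 0, 0, 0, 1, 0, 0, 0, 1, 0, 1, 0, 0, 0, 1, 0, 1, 0, 0, 0, 1, 0, 0, 0, 0, 0, 1]⟩,
    ⟨[-1, 1], 8, 0, 7, [1], [-8, -7, -7, -7, -7, -7, -7, -6, -6, -6, -6, -5, -5, -4, -4, -4, -4, -3, -3, -2, -2, -2, -2, -1, -1, -1, -1, -1, -1], [-1, 1, 0, 0, 0, 0, 0, 1, 0, 0, 0, 1, 0, 1, 0, 0, 0, 1, 0, 1, 0, 0, 0, 1, 0, 0, 0, 0, 0, 1]⟩,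
    ⟨[1, 1], 8, 0, 9, [-1], [8, -7, 7, -7, 7, -7, 7, -6, 6, -6, 6, -5, 5, -4, 4, -4, 4, -3, 3, -2, 2, -2, 2, -1, 1, -1, 1, -1, 1], [-1, 1, 0, 0, 0, 0, 0, 1, 0, 0, 0, 1, 0, 1, 0, 0, 0, 1, 0, 1, 0, 0, 0, 1, 0, 0, 0, 0, 0, 1]⟩,
    ⟨[1, 1, 1], 4, 0, 5, [-1], [4, -3, -1, 4, -3, -1, 4, -2, -2, 4, -2, -1, 3, -1, -2, 3, -1, -1, 2, 0, -2, 2, 0, -1, 1, 0, -1, 1], [-1, 1, 0, 0, 0, 0, 0, 1, 0, 0, 0, 1, 0, 1, 0, 0, 0, 1, 0, 1, 0, 0, 0, 1, 0, 0, 0, 0, 0, 1]⟩,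
    ⟨[1, 0, 1], 4, 0, 1, [-1], [0, 1, 0, -1, 0, 1, 0, 0, 0, 0, 0, 1, 0, 0, 0, 0, 0, 1, 0, 0, 0, 0, 0, 1, 0, -1, 0, 1], [-1, 1, 0, 0, 0, 0, 0, 1, 0, 0, 0, 1, 0, 1, 0, 0, 0, 1, 0, 1, 0, 0, 0, 1, 0, 0, 0, 0, 0, 1]⟩,
    ⟨[1, 1, 1, 1, 1], 2, 0, 3, [-1], [2, -1, -1, 0, 0, 2, -1, 0, -1, 0, 2, 0, -1, 0, -1, 2, 0, 0, -1, 0, 1, 0, 0, 0, -1, 1], [-1, 1, 0, 0, 0, 0, 0, 1, 0, 0, 0, 1, 0, 1, 0, 0, 0, 1, 0, 1, 0, 0, 0, 1, 0, 0, 0, 0, 0, 1]⟩,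
    ⟨[1, -1, 1], 4, 0, 3, [1], [4, 3, -1, -4, -3, 1, 4, 2, -2, -4, -2, 1, 3, 1, -2, -3, -1, 1, 2, 0, -2, -2, 0, 1, 1, 0, -1, -1], [-1, 1, 0, 0, 0, 0, 0, 1, 0, 0, 0, 1, 0, 1, 0, 0, 0, 1, 0, 1, 0, 0, 0, 1, 0, 0, 0, 0, 0, 1]⟩,
    ⟨[1, 1, 1, 1, 1, 1, 1], 1, 0, 7, [-6, -5, -4, -3, -2, -1], [1, 0, 0, 0, 0, 0, 0, 6, -1, -1, -1, 5, -2, 4, 4, -3, -3, 3, 3, 2, 2, 2, -5, 1, 1, 1, 1, 1, 1], [-1, 1, 0, 0, 0, 0, 0, 1, 0, 0, 0, 1, 0, 1, 0, 0, 0, 1, 0, 1, 0, 0, 0, 1, 0, 0, 0, 0, 0, 1]⟩,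
    ⟨[1, 0, 0, 0, 1], 2, 0, 1, [-1], [0, 1, 0, 0, 0, -1, 0, 1, 0, 1, 0, 0, 0, 0, 0, 0, 0, 1, 0, 1, 0, -1, 0, 0, 0, 1], [-1, 1, 0, 0, 0, 0, 0, 1, 0, 0, 0, 1, 0, 1, 0, 0, 0, 1, 0, 1, 0, 0, 0, 1, 0, 0, 0, 0, 0, 1]⟩,
    ⟨[1, 0, 0, 1, 0, 0, 1], 1, 0, 19, [-8, -2, -10, -1, -5, -6], [11, 6, -8, -2, -10, 7, -3, 12, 3, 15, -1, 3, -4, 7, -3, 4, 1, 13, 8, 10, -7, 3, -4, 7, -3, 4, 1, 5, 6], [-1, 1, 0, 0, 0, 0, 0, 1, 0, 0, 0, 1, 0, 1, 0, 0, 0, 1, 0, 1, 0, 0, 0, 1, 0, 0, 0, 0, 0, 1]⟩,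
    ⟨[1, -1, 1, -1, 1], 2, 0, 1, [1], [2, 1, -1, 0, 0, -2, -1, 0, -1, 0, 2, 0, -1, 0, -1, -2, 0, 0, -1, 0, 1, 0, 0, 0, -1, -1], [-1, 1, 0, 0, 0, 0, 0, 1, 0, 0, 0, 1, 0, 1, 0, 0, 0, 1, 0, 1, 0, 0, 0, 1, 0, 0, 0, 0, 0, 1]⟩,
    ⟨[1, 0, -1, 0, 1], 2, 0, 1, [-1], [0, 1, 0, 1, 0, 0, 0, 0, 0, 0, 0, 1, 0, 2, 0, 1, 0, 0, 0, 0, 0, 0, 0, 1, 0, 1], [-1, 1, 0, 0, 0, 0, 0, 1, 0, 0, 0, 1, 0, 1, 0, 0, 0, 1, 0, 1, 0, 0, 0, 1, 0, 0, 0, 0, 0, 1]⟩,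
    ⟨[1, -1, 1, -1, 1, -1, 1], 1, 0, 1, [0, -1, 0, -1, 0, -1], [1, 0, 0, 0, 0, 0, 0, 0, 1, 1, 1, 1, 2, 2, 2, 1, 1, 1, 1, 0, 0, 0, 1, 1, 1, 1, 1, 1, 1], [-1, 1, 0, 0, 0, 0, 0, 1, 0, 0, 0, 1, 0, 1, 0, 0, 0, 1, 0, 1, 0, 0, 0, 1, 0, 0, 0, 0, 0, 1]⟩,
    ⟨[1, -1, 0, 1, -1, 1, 0, -1, 1], 1, 1, 30841, [-9496, 1089, 5904, -7309, 1476, -1239, -600, -129], [21345, 22434, 28338, 9180, 8478, -16418, -14074, -18378, 5886, 3684, 12836, 4660, 7932, -2046, 5730, 7106, 9403, 3060, 2826, 858, 129], [-1, 0, 0, 1, 0, 1, 0, 1, 0, 1, 0, 1, 0, 1, 0, 0, -1, 0, 0, 1, 1, 1]⟩,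
    ⟨[1, 0, 0, -1, 0, 0, 1], 1, 0, 3, [-2, -2, 0, 1, 1], [1, 0, 2, 2, 0, 1, 1, 2, 1, -1, 1, 1, 0, 1, 1, 0, -1, 1, 2, 0, 1, 1, 0, 1, 1, 0, -1, -1], [-1, 1, 0, 0, 0, 0, 0, 1, 0, 0, 0, 1, 0, 1, 0, 0, 0, 1, 0, 1, 0, 0, 0, 1, 0, 0, 0, 0, 0, 1]⟩,
    ⟨[1, 0, -1, 0, 1, 0, -1, 0, 1], 1, 0, 1, [-1], [0, 1, 0, 1, 0, 0, 0, 1, 0, 1, 0, 0, 0, 1, 0, 1, 0, 0, 0, 1, 0, 1], [-1, 1, 0, 0, 0, 0, 0, 1, 0, 0, 0, 1, 0, 1, 0, 0, 0, 1, 0, 1, 0, 0, 0, 1, 0, 0, 0, 0, 0, 1]⟩,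
    ⟨[1, 0, 0, 0, -1, 0, 0, 0, 1], 1, 0, 1, [-1], [0, 1, 0, 0, 0, 1, 0, 1, 0, 0, 0, 2, 0, 0, 0, 1, 0, 1, 0, 0, 0, 1], [-1, 1, 0, 0, 0, 0, 0, 1, 0, 0, 0, 1, 0, 1, 0, 0, 0, 1, 0, 1, 0, 0, 0, 1, 0, 0, 0, 0, 0, 1]⟩,
    ⟨[1, 1, 0, -1, -1, -1, 0, 1, 1], 1, 0, 2, [-1], [1, 0, 0, 1, 0, 1, 0, 1, 0, 1, 0, 1, 0, 1, 0, 0, 1, 0, 0, 1, -1, 1], [-1, 1, 0, 0, 0, 0, 0, 1, 0, 0, 0, 1, 0, 1, 0, 0, 0, 1, 0, 1, 0, 0, 0, 1, 0, 0, 0, 0, 0, 1]⟩]),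
  ([-2, 1, 0, 0, 0, 0, 0, 1, 0, 0, 0, 1, 0, 1, 0, 0, 0, 1, 0, 1, 0, 0, 0, 1, 0, 0, 0, 0, 0, 1], [
    ⟨[0, 1], 29, 0, 2, [-1], [1, 0, 0, 0, 0, 0, 1, 0, 0, 0, 1, 0, 1, 0, 0, 0, 1, 0, 1, 0, 0, 0, 1, 0, 0, 0, 0, 0, 1], [-2, 1, 0, 0, 0, 0, 0, 1, 0, 0, 0, 1, 0, 1, 0, 0, 0, 1, 0, 1, 0, 0, 0, 1, 0, 0, 0, 0, 0, 1]⟩,
    ⟨[-1, 1], 8, 0, 6, [1], [-8, -7, -7, -7, -7, -7, -7, -6, -6, -6, -6, -5, -5, -4, -4, -4, -4, -3, -3, -2, -2, -2, -2, -1, -1, -1, -1, -1, -1], [-2, 1, 0, 0, 0, 0, 0, 1, 0, 0, 0, 1, 0, 1, 0, 0, 0, 1, 0, 1, 0, 0, 0, 1, 0, 0, 0, 0, 0, 1]⟩,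
    ⟨[1, 1], 8, 0, 10, [-1], [8, -7, 7, -7, 7, -7, 7, -6, 6, -6, 6, -5, 5, -4, 4, -4, 4, -3, 3, -2, 2, -2, 2, -1, 1, -1, 1, -1, 1], [-2, 1, 0, 0, 0, 0, 0, 1, 0, 0, 0, 1, 0, 1, 0, 0, 0, 1, 0, 1, 0, 0, 0, 1, 0, 0, 0, 0, 0, 1]⟩,
    ⟨[1, 1, 1], 4, 0, 6, [-1], [4, -3, -1, 4, -3, -1, 4, -2, -2, 4, -2, -1, 3, -1, -2, 3, -1, -1, 2, 0, -2, 2, 0, -1, 1, 0, -1, 1], [-2, 1, 0, 0, 0, 0, 0, 1, 0, 0, 0, 1, 0, 1, 0, 0, 0, 1, 0, 1, 0, 0, 0, 1, 0, 0, 0, 0, 0, 1]⟩,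
    ⟨[1, 0, 1], 4, 0, 2, [-1], [0, 1, 0, -1, 0, 1, 0, 0, 0, 0, 0, 1, 0, 0, 0, 0, 0, 1, 0, 0, 0, 0, 0, 1, 0, -1, 0, 1], [-2, 1, 0, 0, 0, 0, 0, 1, 0, 0, 0, 1, 0, 1, 0, 0, 0, 1, 0, 1, 0, 0, 0, 1, 0, 0, 0, 0, 0, 1]⟩,
    ⟨[1, 1, 1, 1, 1], 2, 0, 4, [-1], [2, -1, -1, 0, 0, 2, -1, 0, -1, 0, 2, 0, -1, 0, -1, 2, 0, 0, -1, 0, 1, 0, 0, 0, -1, 1], [-2, 1, 0, 0, 0, 0, 0, 1, 0, 0, 0, 1, 0, 1, 0, 0, 0, 1, 0, 1, 0, 0, 0, 1, 0, 0, 0, 0, 0, 1]⟩,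
    ⟨[1, -1, 1], 4, 0, 2, [1], [4, 3, -1, -4, -3, 1, 4, 2, -2, -4, -2, 1, 3, 1, -2, -3, -1, 1, 2, 0, -2, -2, 0, 1, 1, 0, -1, -1], [-2, 1, 0, 0, 0, 0, 0, 1, 0, 0, 0, 1, 0, 1, 0, 0, 0, 1, 0, 1, 0, 0, 0, 1, 0, 0, 0, 0, 0, 1]⟩,
    ⟨[1, 1, 1, 1, 1, 1, 1], 1, 0, 127, [-63, -31, -15, -7, -3, -1], [1, 0, 0, 0, 0, 0, 0, 63, -32, -16, -8, 59, -34, 46, 23, -52, -26, 50, 25, 12, 6, 3, -62, 32, 16, 8, 4, 2, 1], [-2, 1, 0, 0, 0, 0, 0, 1, 0, 0, 0, 1, 0, 1, 0, 0, 0, 1, 0, 1, 0, 0, 0, 1, 0, 0, 0, 0, 0, 1]⟩,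
    ⟨[1, 0, 0, 0, 1], 2, 0, 2, [-1], [0, 1, 0, 0, 0, -1, 0, 1, 0, 1, 0, 0, 0, 0, 0, 0, 0, 1, 0, 1, 0, -1, 0, 0, 0, 1], [-2, 1, 0, 0, 0, 0, 0, 1, 0, 0, 0, 1, 0, 1, 0, 0, 0, 1, 0, 1, 0, 0, 0, 1, 0, 0, 0, 0, 0, 1]⟩,
    ⟨[1, 0, 0, 1, 0, 0, 1], 1, 0, 57, [-22, -8, -15, -5, -7, -6], [13, 6, -22, -8, -15, 17, 1, 31, 13, 22, -11, -1, -9, 17, 1, 9, 5, 29, 14, 15, -17, -1, -9, 17, 1, 9, 5, 7, 6], [-2, 1, 0, 0, 0, 0, 0, 1, 0, 0, 0, 1, 0, 1, 0, 0, 0, 1, 0, 1, 0, 0, 0, 1, 0, 0, 0, 0, 0, 1]⟩,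
    ⟨[1, -1, 1, -1, 1], 2, 1, 12, [-1], [10, 9, 0, 1, 0, -8, -6, 1, 0, 1, 6, 4, 0, 1, 0, -3, -2, 0, 0, 1, 2, 1], [-2, -1, 1, 0, 0, 2, 1, 0, 1, 0, -2, 0, 1, 0, 1, 2, 0, 0, 1, 0, -1, 0, 0, 0, 1, 1]⟩,
    ⟨[1, 0, -1, 0, 1], 2, 0, 2, [-1], [0, 1, 0, 1, 0, 0, 0, 0, 0, 0, 0, 1, 0, 2, 0, 1, 0, 0, 0, 0, 0, 0, 0, 1, 0, 1], [-2, 1, 0, 0, 0, 0, 0, 1, 0, 0, 0, 1, 0, 1, 0, 0, 0, 1, 0, 1, 0, 0, 0, 1, 0, 0, 0, 0, 0, 1]⟩,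
    ⟨[1, -1, 1, -1, 1, -1, 1], 1, 0, 43, [-21, -11, -5, -3, -1, -1], [1, 0, 0, 0, 0, 0, 0, 21, 32, 16, 8, 25, 34, 38, 19, -12, -6, 18, 9, 4, 2, 1, 22, 32, 16, 8, 4, 2, 1], [-2, 1, 0, 0, 0, 0, 0, 1, 0, 0, 0, 1, 0, 1, 0, 0, 0, 1, 0, 1, 0, 0, 0, 1, 0, 0, 0, 0, 0, 1]⟩,
    ⟨[1, -1, 0, 1, -1, 1, 0, -1, 1], 1, 0, 1, [-1], [-1, 0, 0, 1, 0, 1, 0, 1, 0, 1, 0, 1, 0, 1, 0, 0, -1, 0, 0, 1, 1, 1], [-2, 1, 0, 0, 0, 0, 0, 1, 0, 0, 0, 1, 0, 1, 0, 0, 0, 1, 0, 1, 0, 0, 0, 1, 0, 0, 0, 0, 0, 1]⟩,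
    ⟨[1, 0, 0, -1, 0, 0, 1], 1, 0, 127, [-58, -32, 13, 17, 5, -6], [11, -6, 58, 32, -13, 41, 27, 51, 15, -18, 47, 27, -7, 41, 27, -7, -17, 53, 38, -13, 41, 27, -7, 41, 27, -7, -17, -5, 6], [-2, 1, 0, 0, 0, 0, 0, 1, 0, 0, 0, 1, 0, 1, 0, 0, 0, 1, 0, 1, 0, 0, 0, 1, 0, 0, 0, 0, 0, 1]⟩,
    ⟨[1, 0, -1, 0, 1, 0, -1, 0, 1], 1, 0, 2, [-1], [0, 1, 0, 1, 0, 0, 0, 1, 0, 1, 0, 0, 0, 1, 0, 1, 0, 0, 0, 1, 0, 1], [-2, 1, 0, 0, 0, 0, 0, 1, 0, 0, 0, 1, 0, 1, 0, 0, 0, 1, 0, 1, 0, 0, 0, 1, 0, 0, 0, 0, 0, 1]⟩,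
    ⟨[1, 0, 0, 0, -1, 0, 0, 0, 1], 1, 0, 2, [-1], [0, 1, 0, 0, 0, 1, 0, 1, 0, 0, 0, 2, 0, 0, 0, 1, 0, 1, 0, 0, 0, 1], [-2, 1, 0, 0, 0, 0, 0, 1, 0, 0, 0, 1, 0, 1, 0, 0, 0, 1, 0, 1, 0, 0, 0, 1, 0, 0, 0, 0, 0, 1]⟩,
    ⟨[1, 1, 0, -1, -1, -1, 0, 1, 1], 1, 0, 3, [-1], [1, 0, 0, 1, 0, 1, 0, 1, 0, 1, 0, 1, 0, 1, 0, 0, 1, 0, 0, 1, -1, 1], [-2, 1, 0, 0, 0, 0, 0, 1, 0, 0, 0, 1, 0, 1, 0, 0, 0, 1, 0, 1, 0, 0, 0, 1, 0, 0, 0, 0, 0, 1]⟩]),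
  ([-3, 1, 0, 0, 0, 0, 0, 1, 0, 0, 0, 1, 0, 1, 0, 0, 0, 1, 0, 1, 0, 0, 0, 1, 0, 0, 0, 0, 0, 1], [
    ⟨[0, 1], 29, 0, 3, [-1], [1, 0, 0, 0, 0, 0, 1, 0, 0, 0, 1, 0, 1, 0, 0, 0, 1, 0, 1, 0, 0, 0, 1, 0, 0, 0, 0, 0, 1], [-3, 1, 0, 0, 0, 0, 0, 1, 0, 0, 0, 1, 0, 1, 0, 0, 0, 1, 0, 1, 0, 0, 0, 1, 0, 0, 0, 0, 0, 1]⟩,
    ⟨[-1, 1], 8, 0, 5, [1], [-8, -7, -7, -7, -7, -7, -7, -6, -6, -6, -6, -5, -5, -4, -4, -4, -4, -3, -3, -2, -2, -2, -2, -1, -1, -1, -1, -1, -1], [-3, 1, 0, 0, 0, 0, 0, 1, 0, 0, 0, 1, 0, 1, 0, 0, 0, 1, 0, 1, 0, 0, 0, 1, 0, 0, 0, 0, 0, 1]⟩,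
    ⟨[1, 1], 8, 0, 11, [-1], [8, -7, 7, -7, 7, -7, 7, -6, 6, -6, 6, -5, 5, -4, 4, -4, 4, -3, 3, -2, 2, -2, 2, -1, 1, -1, 1, -1, 1], [-3, 1, 0, 0, 0, 0, 0, 1, 0, 0, 0, 1, 0, 1, 0, 0, 0, 1, 0, 1, 0, 0, 0, 1, 0, 0, 0, 0, 0, 1]⟩,
    ⟨[1, 1, 1], 4, 0, 7, [-1], [4, -3, -1, 4, -3, -1, 4, -2, -2, 4, -2, -1, 3, -1, -2, 3, -1, -1, 2, 0, -2, 2, 0, -1, 1, 0, -1, 1], [-3, 1, 0, 0, 0, 0, 0, 1, 0, 0, 0, 1, 0, 1, 0, 0, 0, 1, 0, 1, 0, 0, 0, 1, 0, 0, 0, 0, 0, 1]⟩,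
    ⟨[1, 0, 1], 4, 0, 3, [-1], [0, 1, 0, -1, 0, 1, 0, 0, 0, 0, 0, 1, 0, 0, 0, 0, 0, 1, 0, 0, 0, 0, 0, 1, 0, -1, 0, 1], [-3, 1, 0, 0, 0, 0, 0, 1, 0, 0, 0, 1, 0, 1, 0, 0, 0, 1, 0, 1, 0, 0, 0, 1, 0, 0, 0, 0, 0, 1]⟩,
    ⟨[1, 1, 1, 1, 1], 2, 0, 5, [-1], [2, -1, -1, 0, 0, 2, -1, 0, -1, 0, 2, 0, -1, 0, -1, 2, 0, 0, -1, 0, 1, 0, 0, 0, -1, 1], [-3, 1, 0, 0, 0, 0, 0, 1, 0, 0, 0, 1, 0, 1, 0, 0, 0, 1, 0, 1, 0, 0, 0, 1, 0, 0, 0, 0, 0, 1]⟩,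
    ⟨[1, -1, 1], 4, 0, 1, [1], [4, 3, -1, -4, -3, 1, 4, 2, -2, -4, -2, 1, 3, 1, -2, -3, -1, 1, 2, 0, -2, -2, 0, 1, 1, 0, -1, -1], [-3, 1, 0, 0, 0, 0, 0, 1, 0, 0, 0, 1, 0, 1, 0, 0, 0, 1, 0, 1, 0, 0, 0, 1, 0, 0, 0, 0, 0, 1]⟩,
    ⟨[1, 1, 1, 1, 1, 1, 1], 1, 0, 1093, [-364, -121, -40, -13, -4, -1], [1, 0, 0, 0, 0, 0, 0, 364, -243, -81, -27, 355, -246, 282, 94, -333, -111, 327, 109, 36, 12, 4, -363, 243, 81, 27, 9, 3, 1], [-3, 1, 0, 0, 0, 0, 0, 1, 0, 0, 0, 1, 0, 1, 0, 0, 0, 1, 0, 1, 0, 0, 0, 1, 0, 0, 0, 0, 0, 1]⟩,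
    ⟨[1, 0, 0, 0, 1], 2, 0, 3, [-1], [0, 1, 0, 0, 0, -1, 0, 1, 0, 1, 0, 0, 0, 0, 0, 0, 0, 1, 0, 1, 0, -1, 0, 0, 0, 1], [-3, 1, 0, 0, 0, 0, 0, 1, 0, 0, 0, 1, 0, 1, 0, 0, 0, 1, 0, 1, 0, 0, 0, 1, 0, 0, 0, 0, 0, 1]⟩,
    ⟨[1, 0, 0, 1, 0, 0, 1], 1, 0, 1117, [-342, -102, -148, -53, -55, -36], [91, 36, -342, -102, -148, 289, 47, 454, 155, 203, -253, -47, -112, 289, 47, 112, 53, 397, 138, 148, -289, -47, -112, 289, 47, 112, 53, 55, 36], [-3, 1, 0, 0, 0, 0, 0, 1, 0, 0, 0, 1, 0, 1, 0, 0, 0, 1, 0, 1, 0, 0, 0, 1, 0, 0, 0, 0, 0, 1]⟩,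
    ⟨[1, -1, 1, -1, 1], 2, 0, 1, [-1], [-2, -1, 1, 0, 0, 2, 1, 0, 1, 0, -2, 0, 1, 0, 1, 2, 0, 0, 1, 0, -1, 0, 0, 0, 1, 1], [-3, 1, 0, 0, 0, 0, 0, 1, 0, 0, 0, 1, 0, 1, 0, 0, 0, 1, 0, 1, 0, 0, 0, 1, 0, 0, 0, 0, 0, 1]⟩,
    ⟨[1, 0, -1, 0, 1], 2, 0, 3, [-1], [0, 1, 0, 1, 0, 0, 0, 0, 0, 0, 0, 1, 0, 2, 0, 1, 0, 0, 0, 0, 0, 0, 0, 1, 0, 1], [-3, 1, 0, 0, 0, 0, 0, 1, 0, 0, 0, 1, 0, 1, 0, 0, 0, 1, 0, 1, 0, 0, 0, 1, 0, 0, 0, 0, 0, 1]⟩,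
    ⟨[1, -1, 1, -1, 1, -1, 1], 1, 0, 547, [-182, -61, -20, -7, -2, -1], [1, 0, 0, 0, 0, 0, 0, 182, 243, 81, 27, 191, 246, 264, 88, -153, -51, 165, 55, 18, 6, 2, 183, 243, 81, 27, 9, 3, 1], [-3, 1, 0, 0, 0, 0, 0, 1, 0, 0, 0, 1, 0, 1, 0, 0, 0, 1, 0, 1, 0, 0, 0, 1, 0, 0, 0, 0, 0, 1]⟩,
    ⟨[1, -1, 0, 1, -1, 1, 0, -1, 1], 1, 0, 2, [-1], [-1, 0, 0, 1, 0, 1, 0, 1, 0, 1, 0, 1, 0, 1, 0, 0, -1, 0, 0, 1, 1, 1], [-3, 1, 0, 0, 0, 0, 0, 1, 0, 0, 0, 1, 0, 1, 0, 0, 0, 1, 0, 1, 0, 0, 0, 1, 0, 0, 0, 0, 0, 1]⟩,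
    ⟨[1, 0, 0, -1, 0, 0, 1], 1, 0, 991, [-324, -114, 70, 55, 1, -18], [19, -18, 324, 114, -70, 269, 113, 272, 59, -71, 287, 113, -52, 269, 113, -52, -55, 323, 132, -70, 269, 113, -52, 269, 113, -52, -55, -1, 18], [-3, 1, 0, 0, 0, 0, 0, 1, 0, 0, 0, 1, 0, 1, 0, 0, 0, 1, 0, 1, 0, 0, 0, 1, 0, 0, 0, 0, 0, 1]⟩,
    ⟨[1, 0, -1, 0, 1, 0, -1, 0, 1], 1, 0, 3, [-1], [0, 1, 0, 1, 0, 0, 0, 1, 0, 1, 0, 0, 0, 1, 0, 1, 0, 0, 0, 1, 0, 1], [-3, 1, 0, 0, 0, 0, 0, 1, 0, 0, 0, 1, 0, 1, 0, 0, 0, 1, 0, 1, 0, 0, 0, 1, 0, 0, 0, 0, 0, 1]⟩,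
    ⟨[1, 0, 0, 0, -1, 0, 0, 0, 1], 1, 0, 3, [-1], [0, 1, 0, 0, 0, 1, 0, 1, 0, 0, 0, 2, 0, 0, 0, 1, 0, 1, 0, 0, 0, 1], [-3, 1, 0, 0, 0, 0, 0, 1, 0, 0, 0, 1, 0, 1, 0, 0, 0, 1, 0, 1, 0, 0, 0, 1, 0, 0, 0, 0, 0, 1]⟩,
    ⟨[1, 1, 0, -1, -1, -1, 0, 1, 1], 1, 0, 4, [-1], [1, 0, 0, 1, 0, 1, 0, 1, 0, 1, 0, 1, 0, 1, 0, 0, 1, 0, 0, 1, -1, 1], [-3, 1, 0, 0, 0, 0, 0, 1, 0, 0, 0, 1, 0, 1, 0, 0, 0, 1, 0, 1, 0, 0, 0, 1, 0, 0, 0, 0, 0, 1]⟩]),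
  ([-4, 1, 0, 0, 0, 0, 0, 1, 0, 0, 0, 1, 0, 1, 0, 0, 0, 1, 0, 1, 0, 0, 0, 1, 0, 0, 0, 0, 0, 1], [
    ⟨[0, 1], 29, 0, 4, [-1], [1, 0, 0, 0, 0, 0, 1, 0, 0, 0, 1, 0, 1, 0, 0, 0, 1, 0, 1, 0, 0, 0, 1, 0, 0, 0, 0, 0, 1], [-4, 1, 0, 0, 0, 0, 0, 1, 0, 0, 0, 1, 0, 1, 0, 0, 0, 1, 0, 1, 0, 0, 0, 1, 0, 0, 0, 0, 0, 1]⟩,
    ⟨[-1, 1], 8, 0, 4, [1], [-8, -7, -7, -7, -7, -7, -7, -6, -6, -6, -6, -5, -5, -4, -4, -4, -4, -3, -3, -2, -2, -2, -2, -1, -1, -1, -1, -1, -1], [-4, 1, 0, 0, 0, 0, 0, 1, 0, 0, 0, 1, 0, 1, 0, 0, 0, 1, 0, 1, 0, 0, 0, 1, 0, 0, 0, 0, 0, 1]⟩,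
    ⟨[1, 1], 8, 0, 12, [-1], [8, -7, 7, -7, 7, -7, 7, -6, 6, -6, 6, -5, 5, -4, 4, -4, 4, -3, 3, -2, 2, -2, 2, -1, 1, -1, 1, -1, 1], [-4, 1, 0, 0, 0, 0, 0, 1, 0, 0, 0, 1, 0, 1, 0, 0, 0, 1, 0, 1, 0, 0, 0, 1, 0, 0, 0, 0, 0, 1]⟩,
    ⟨[1, 1, 1], 4, 0, 8, [-1], [4, -3, -1, 4, -3, -1, 4, -2, -2, 4, -2, -1, 3, -1, -2, 3, -1, -1, 2, 0, -2, 2, 0, -1, 1, 0, -1, 1], [-4, 1, 0, 0, 0, 0, 0, 1, 0, 0, 0, 1, 0, 1, 0, 0, 0, 1, 0, 1, 0, 0, 0, 1, 0, 0, 0, 0, 0, 1]⟩,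
    ⟨[1, 0, 1], 4, 0, 4, [-1], [0, 1, 0, -1, 0, 1, 0, 0, 0, 0, 0, 1, 0, 0, 0, 0, 0, 1, 0, 0, 0, 0, 0, 1, 0, -1, 0, 1], [-4, 1, 0, 0, 0, 0, 0, 1, 0, 0, 0, 1, 0, 1, 0, 0, 0, 1, 0, 1, 0, 0, 0, 1, 0, 0, 0, 0, 0, 1]⟩,
    ⟨[1, 1, 1, 1, 1], 2, 0, 6, [-1], [2, -1, -1, 0, 0, 2, -1, 0, -1, 0, 2, 0, -1, 0, -1, 2, 0, 0, -1, 0, 1, 0, 0, 0, -1, 1], [-4, 1, 0, 0, 0, 0, 0, 1, 0, 0, 0, 1, 0, 1, 0, 0, 0, 1, 0, 1, 0, 0, 0, 1, 0, 0, 0, 0, 0, 1]⟩,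
    ⟨[1, -1, 1], 4, 1, 40, [-1], [36, 33, -2, -31, -26, 4, 26, 20, -4, -20, -14, 5, 16, 10, -4, -11, -6, 4, 8, 4, -2, -4, -2, 1, 2, 1], [-4, -3, 1, 4, 3, -1, -4, -2, 2, 4, 2, -1, -3, -1, 2, 3, 1, -1, -2, 0, 2, 2, 0, -1, -1, 0, 1, 1]⟩,
    ⟨[1, 1, 1, 1, 1, 1, 1], 1, 0, 5461, [-1365, -341, -85, -21, -5, -1], [1, 0, 0, 0, 0, 0, 0, 1365, -1024, -256, -64, 1349, -1028, 1108, 277, -1296, -324, 1284, 321, 80, 20, 5, -1364, 1024, 256, 64, 16, 4, 1], [-4, 1, 0, 0, 0, 0, 0, 1, 0, 0, 0, 1, 0, 1, 0, 0, 0, 1, 0, 1, 0, 0, 0, 1, 0, 0, 0, 0, 0, 1]⟩,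
    ⟨[1, 0, 0, 0, 1], 2, 0, 4, [-1], [0, 1, 0, 0, 0, -1, 0, 1, 0, 1, 0, 0, 0, 0, 0, 0, 0, 1, 0, 1, 0, -1, 0, 0, 0, 1], [-4, 1, 0, 0, 0, 0, 0, 1, 0, 0, 0, 1, 0, 1, 0, 0, 0, 1, 0, 1, 0, 0, 0, 1, 0, 0, 0, 0, 0, 1]⟩,
    ⟨[1, 0, 0, 1, 0, 0, 1], 1, 0, 5149, [-1244, -296, -385, -127, -113, -60], [173, 60, -1244, -296, -385, 1117, 183, 1569, 423, 498, -1057, -183, -325, 1117, 183, 325, 127, 1357, 356, 385, -1117, -183, -325, 1117, 183, 325, 127, 113, 60], [-4, 1, 0, 0, 0, 0, 0, 1, 0, 0, 0, 1, 0, 1, 0, 0, 0, 1, 0, 1, 0, 0, 0, 1, 0, 0, 0, 0, 0, 1]⟩,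
    ⟨[1, -1, 1, -1, 1], 2, 0, 2, [-1], [-2, -1, 1, 0, 0, 2, 1, 0, 1, 0, -2, 0, 1, 0, 1, 2, 0, 0, 1, 0, -1, 0, 0, 0, 1, 1], [-4, 1, 0, 0, 0, 0, 0, 1, 0, 0, 0, 1, 0, 1, 0, 0, 0, 1, 0, 1, 0, 0, 0, 1, 0, 0, 0, 0, 0, 1]⟩,
    ⟨[1, 0, -1, 0, 1], 2, 0, 4, [-1], [0, 1, 0, 1, 0, 0, 0, 0, 0, 0, 0, 1, 0, 2, 0, 1, 0, 0, 0, 0, 0, 0, 0, 1, 0, 1], [-4, 1, 0, 0, 0, 0, 0, 1, 0, 0, 0, 1, 0, 1, 0, 0, 0, 1, 0, 1, 0, 0, 0, 1, 0, 0, 0, 0, 0, 1]⟩,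
    ⟨[1, -1, 1, -1, 1, -1, 1], 1, 0, 3277, [-819, -205, -51, -13, -3, -1], [1, 0, 0, 0, 0, 0, 0, 819, 1024, 256, 64, 835, 1028, 1076, 269, -752, -188, 772, 193, 48, 12, 3, 820, 1024, 256, 64, 16, 4, 1], [-4, 1, 0, 0, 0, 0, 0, 1, 0, 0, 0, 1, 0, 1, 0, 0, 0, 1, 0, 1, 0, 0, 0, 1, 0, 0, 0, 0, 0, 1]⟩,
    ⟨[1, -1, 0, 1, -1, 1, 0, -1, 1], 1, 0, 3, [-1], [-1, 0, 0, 1, 0, 1, 0, 1, 0, 1, 0, 1, 0, 1, 0, 0, -1, 0, 0, 1, 1, 1], [-4, 1, 0, 0, 0, 0, 0, 1, 0, 0, 0, 1, 0, 1, 0, 0, 0, 1, 0, 1, 0, 0, 0, 1, 0, 0, 0, 0, 0, 1]⟩,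
    ⟨[1, 0, 0, -1, 0, 0, 1], 1, 0, 1623, [-404, -104, 75, 43, -5, -12], [7, -12, 404, 104, -75, 361, 109, 341, 61, -70, 373, 109, -63, 361, 109, -63, -43, 409, 116, -75, 361, 109, -63, 361, 109, -63, -43, 5, 12], [-4, 1, 0, 0, 0, 0, 0, 1, 0, 0, 0, 1, 0, 1, 0, 0, 0, 1, 0, 1, 0, 0, 0, 1, 0, 0, 0, 0, 0, 1]⟩,
    ⟨[1, 0, -1, 0, 1, 0, -1, 0, 1], 1, 0, 4, [-1], [0, 1, 0, 1, 0, 0, 0, 1, 0, 1, 0, 0, 0, 1, 0, 1, 0, 0, 0, 1, 0, 1], [-4, 1, 0, 0, 0, 0, 0, 1, 0, 0, 0, 1, 0, 1, 0, 0, 0, 1, 0, 1, 0, 0, 0, 1, 0, 0, 0, 0, 0, 1]⟩,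
    ⟨[1, 0, 0, 0, -1, 0, 0, 0, 1], 1, 0, 4, [-1], [0, 1, 0, 0, 0, 1, 0, 1, 0, 0, 0, 2, 0, 0, 0, 1, 0, 1, 0, 0, 0, 1], [-4, 1, 0, 0, 0, 0, 0, 1, 0, 0, 0, 1, 0, 1, 0, 0, 0, 1, 0, 1, 0, 0, 0, 1, 0, 0, 0, 0, 0, 1]⟩,
    ⟨[1, 1, 0, -1, -1, -1, 0, 1, 1], 1, 0, 5, [-1], [1, 0, 0, 1, 0, 1, 0, 1, 0, 1, 0, 1, 0, 1, 0, 0, 1, 0, 0, 1, -1, 1], [-4, 1, 0, 0, 0, 0, 0, 1, 0, 0, 0, 1, 0, 1, 0, 0, 0, 1, 0, 1, 0, 0, 0, 1, 0, 0, 0, 0, 0, 1]⟩]),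
  ([-5, 1, 0, 0, 0, 0, 0, 1, 0, 0, 0, 1, 0, 1, 0, 0, 0, 1, 0, 1, 0, 0, 0, 1, 0, 0, 0, 0, 0, 1], [
    ⟨[0, 1], 29, 0, 5, [-1], [1, 0, 0, 0, 0, 0, 1, 0, 0, 0, 1, 0, 1, 0, 0, 0, 1, 0, 1, 0, 0, 0, 1, 0, 0, 0, 0, 0, 1], [-5, 1, 0, 0, 0, 0, 0, 1, 0, 0, 0, 1, 0, 1, 0, 0, 0, 1, 0, 1, 0, 0, 0, 1, 0, 0, 0, 0, 0, 1]⟩,
    ⟨[-1, 1], 8, 0, 3, [1], [-8, -7, -7, -7, -7, -7, -7, -6, -6, -6, -6, -5, -5, -4, -4, -4, -4, -3, -3, -2, -2, -2, -2, -1, -1, -1, -1, -1, -1], [-5, 1, 0, 0, 0, 0, 0, 1, 0, 0, 0, 1, 0, 1, 0, 0, 0, 1, 0, 1, 0, 0, 0, 1, 0, 0, 0, 0, 0, 1]⟩,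
    ⟨[1, 1], 8, 0, 13, [-1], [8, -7, 7, -7, 7, -7, 7, -6, 6, -6, 6, -5, 5, -4, 4, -4, 4, -3, 3, -2, 2, -2, 2, -1, 1, -1, 1, -1, 1], [-5, 1, 0, 0, 0, 0, 0, 1, 0, 0, 0, 1, 0, 1, 0, 0, 0, 1, 0, 1, 0, 0, 0, 1, 0, 0, 0, 0, 0, 1]⟩,
    ⟨[1, 1, 1], 4, 0, 9, [-1], [4, -3, -1, 4, -3, -1, 4, -2, -2, 4, -2, -1, 3, -1, -2, 3, -1, -1, 2, 0, -2, 2, 0, -1, 1, 0, -1, 1], [-5, 1, 0, 0, 0, 0, 0, 1, 0, 0, 0, 1, 0, 1, 0, 0, 0, 1, 0, 1, 0, 0, 0, 1, 0, 0, 0, 0, 0, 1]⟩,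
    ⟨[1, 0, 1], 4, 0, 5, [-1], [0, 1, 0, -1, 0, 1, 0, 0, 0, 0, 0, 1, 0, 0, 0, 0, 0, 1, 0, 0, 0, 0, 0, 1, 0, -1, 0, 1], [-5, 1, 0, 0, 0, 0, 0, 1, 0, 0, 0, 1, 0, 1, 0, 0, 0, 1, 0, 1, 0, 0, 0, 1, 0, 0, 0, 0, 0, 1]⟩,
    ⟨[1, 1, 1, 1, 1], 2, 0, 7, [-1], [2, -1, -1, 0, 0, 2, -1, 0, -1, 0, 2, 0, -1, 0, -1, 2, 0, 0, -1, 0, 1, 0, 0, 0, -1, 1], [-5, 1, 0, 0, 0, 0, 0, 1, 0, 0, 0, 1, 0, 1, 0, 0, 0, 1, 0, 1, 0, 0, 0, 1, 0, 0, 0, 0, 0, 1]⟩,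
    ⟨[1, -1, 1], 4, 0, 1, [-1], [-4, -3, 1, 4, 3, -1, -4, -2, 2, 4, 2, -1, -3, -1, 2, 3, 1, -1, -2, 0, 2, 2, 0, -1, -1, 0, 1, 1], [-5, 1, 0, 0, 0, 0, 0, 1, 0, 0, 0, 1, 0, 1, 0, 0, 0, 1, 0, 1, 0, 0, 0, 1, 0, 0, 0, 0, 0, 1]⟩,
    ⟨[1, 1, 1, 1, 1, 1, 1], 1, 0, 19531, [-3906, -781, -156, -31, -6, -1], [1, 0, 0, 0, 0, 0, 0, 3906, -3125, -625, -125, 3881, -3130, 3280, 656, -3775, -755, 3755, 751, 150, 30, 6, -3905, 3125, 625, 125, 25, 5, 1], [-5, 1, 0, 0, 0, 0, 0, 1, 0, 0, 0, 1, 0, 1, 0, 0, 0, 1, 0, 1, 0, 0, 0, 1, 0, 0, 0, 0, 0, 1]⟩,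
    ⟨[1, 0, 0, 0, 1], 2, 0, 5, [-1], [0, 1, 0, 0, 0, -1, 0, 1, 0, 1, 0, 0, 0, 0, 0, 0, 0, 1, 0, 1, 0, -1, 0, 0, 0, 1], [-5, 1, 0, 0, 0, 0, 0, 1, 0, 0, 0, 1, 0, 1, 0, 0, 0, 1, 0, 1, 0, 0, 0, 1, 0, 0, 0, 0, 0, 1]⟩,
    ⟨[1, 0, 0, 1, 0, 0, 1], 1, 0, 5997, [-1180, -230, -282, -83, -67, -30], [97, 30, -1180, -230, -282, 1097, 163, 1432, 313, 349, -1067, -163, -252, 1097, 163, 252, 83, 1247, 260, 282, -1097, -163, -252, 1097, 163, 252, 83, 67, 30], [-5, 1, 0, 0, 0, 0, 0, 1, 0, 0, 0, 1, 0, 1, 0, 0, 0, 1, 0, 1, 0, 0, 0, 1, 0, 0, 0, 0, 0, 1]⟩,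
    ⟨[1, -1, 1, -1, 1], 2, 0, 3, [-1], [-2, -1, 1, 0, 0, 2, 1, 0, 1, 0, -2, 0, 1, 0, 1, 2, 0, 0, 1, 0, -1, 0, 0, 0, 1, 1], [-5, 1, 0, 0, 0, 0, 0, 1, 0, 0, 0, 1, 0, 1, 0, 0, 0, 1, 0, 1, 0, 0, 0, 1, 0, 0, 0, 0, 0, 1]⟩,
    ⟨[1, 0, -1, 0, 1], 2, 0, 5, [-1], [0, 1, 0, 1, 0, 0, 0, 0, 0, 0, 0, 1, 0, 2, 0, 1, 0, 0, 0, 0, 0, 0, 0, 1, 0, 1], [-5, 1, 0, 0, 0, 0, 0, 1, 0, 0, 0, 1, 0, 1, 0, 0, 0, 1, 0, 1, 0, 0, 0, 1, 0, 0, 0, 0, 0, 1]⟩,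
    ⟨[1, -1, 1, -1, 1, -1, 1], 1, 0, 13021, [-2604, -521, -104, -21, -4, -1], [1, 0, 0, 0, 0, 0, 0, 2604, 3125, 625, 125, 2629, 3130, 3230, 646, -2475, -495, 2505, 501, 100, 20, 4, 2605, 3125, 625, 125, 25, 5, 1], [-5, 1, 0, 0, 0, 0, 0, 1, 0, 0, 0, 1, 0, 1, 0, 0, 0, 1, 0, 1, 0, 0, 0, 1, 0, 0, 0, 0, 0, 1]⟩,
    ⟨[1, -1, 0, 1, -1, 1, 0, -1, 1], 1, 0, 4, [-1], [-1, 0, 0, 1, 0, 1, 0, 1, 0, 1, 0, 1, 0, 1, 0, 0, -1, 0, 0, 1, 1, 1], [-5, 1, 0, 0, 0, 0, 0, 1, 0, 0, 0, 1, 0, 1, 0, 0, 0, 1, 0, 1, 0, 0, 0, 1, 0, 0, 0, 0, 0, 1]⟩,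
    ⟨[1, 0, 0, -1, 0, 0, 1], 1, 0, 17461, [-3490, -710, 556, 251, -49, -60], [11, -60, 3490, 710, -556, 3239, 759, 2994, 459, -507, 3299, 759, -496, 3239, 759, -496, -251, 3539, 770, -556, 3239, 759, -496, 3239, 759, -496, -251, 49, 60], [-5, 1, 0, 0, 0, 0, 0, 1, 0, 0, 0, 1, 0, 1, 0, 0, 0, 1, 0, 1, 0, 0, 0, 1, 0, 0, 0, 0, 0, 1]⟩,
    ⟨[1, 0, -1, 0, 1, 0, -1, 0, 1], 1, 0, 5, [-1], [0, 1, 0, 1, 0, 0, 0, 1, 0, 1, 0, 0, 0, 1, 0, 1, 0, 0, 0, 1, 0, 1], [-5, 1, 0, 0, 0, 0, 0, 1, 0, 0, 0, 1, 0, 1, 0, 0, 0, 1, 0, 1, 0, 0, 0, 1, 0, 0, 0, 0, 0, 1]⟩,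
    ⟨[1, 0, 0, 0, -1, 0, 0, 0, 1], 1, 0, 5, [-1], [0, 1, 0, 0, 0, 1, 0, 1, 0, 0, 0, 2, 0, 0, 0, 1, 0, 1, 0, 0, 0, 1], [-5, 1, 0, 0, 0, 0, 0, 1, 0, 0, 0, 1, 0, 1, 0, 0, 0, 1, 0, 1, 0, 0, 0, 1, 0, 0, 0, 0, 0, 1]⟩,
    ⟨[1, 1, 0, -1, -1, -1, 0, 1, 1], 1, 0, 6, [-1], [1, 0, 0, 1, 0, 1, 0, 1, 0, 1, 0, 1, 0, 1, 0, 0, 1, 0, 0, 1, -1, 1], [-5, 1, 0, 0, 0, 0, 0, 1, 0, 0, 0, 1, 0, 1, 0, 0, 0, 1, 0, 1, 0, 0, 0, 1, 0, 0, 0, 0, 0, 1]⟩]),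
  ([-6, 1, 0, 0, 0, 0, 0, 1, 0, 0, 0, 1, 0, 1, 0, 0, 0, 1, 0, 1, 0, 0, 0, 1, 0, 0, 0, 0, 0, 1], [
    ⟨[0, 1], 29, 0, 6, [-1], [1, 0, 0, 0, 0, 0, 1, 0, 0, 0, 1, 0, 1, 0, 0, 0, 1, 0, 1, 0, 0, 0, 1, 0, 0, 0, 0, 0, 1], [-6, 1, 0, 0, 0, 0, 0, 1, 0, 0, 0, 1, 0, 1, 0, 0, 0, 1, 0, 1, 0, 0, 0, 1, 0, 0, 0, 0, 0, 1]⟩,
    ⟨[-1, 1], 8, 0, 2, [1], [-8, -7, -7, -7, -7, -7, -7, -6, -6, -6, -6, -5, -5, -4, -4, -4, -4, -3, -3, -2, -2, -2, -2, -1, -1, -1, -1, -1, -1], [-6, 1, 0, 0, 0, 0, 0, 1, 0, 0, 0, 1, 0, 1, 0, 0, 0, 1, 0, 1, 0, 0, 0, 1, 0, 0, 0, 0, 0, 1]⟩,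
    ⟨[1, 1], 8, 0, 14, [-1], [8, -7, 7, -7, 7, -7, 7, -6, 6, -6, 6, -5, 5, -4, 4, -4, 4, -3, 3, -2, 2, -2, 2, -1, 1, -1, 1, -1, 1], [-6, 1, 0, 0, 0, 0, 0, 1, 0, 0, 0, 1, 0, 1, 0, 0, 0, 1, 0, 1, 0, 0, 0, 1, 0, 0, 0, 0, 0, 1]⟩,
    ⟨[1, 1, 1], 4, 0, 10, [-1], [4, -3, -1, 4, -3, -1, 4, -2, -2, 4, -2, -1, 3, -1, -2, 3, -1, -1, 2, 0, -2, 2, 0, -1, 1, 0, -1, 1], [-6, 1, 0, 0, 0, 0, 0, 1, 0, 0, 0, 1, 0, 1, 0, 0, 0, 1, 0, 1, 0, 0, 0, 1, 0, 0, 0, 0, 0, 1]⟩,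
    ⟨[1, 0, 1], 4, 0, 6, [-1], [0, 1, 0, -1, 0, 1, 0, 0, 0, 0, 0, 1, 0, 0, 0, 0, 0, 1, 0, 0, 0, 0, 0, 1, 0, -1, 0, 1], [-6, 1, 0, 0, 0, 0, 0, 1, 0, 0, 0, 1, 0, 1, 0, 0, 0, 1, 0, 1, 0, 0, 0, 1, 0, 0, 0, 0, 0, 1]⟩,
    ⟨[1, 1, 1, 1, 1], 2, 0, 8, [-1], [2, -1, -1, 0, 0, 2, -1, 0, -1, 0, 2, 0, -1, 0, -1, 2, 0, 0, -1, 0, 1, 0, 0, 0, -1, 1], [-6, 1, 0, 0, 0, 0, 0, 1, 0, 0, 0, 1, 0, 1, 0, 0, 0, 1, 0, 1, 0, 0, 0, 1, 0, 0, 0, 0, 0, 1]⟩,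
    ⟨[1, -1, 1], 4, 0, 2, [-1], [-4, -3, 1, 4, 3, -1, -4, -2, 2, 4, 2, -1, -3, -1, 2, 3, 1, -1, -2, 0, 2, 2, 0, -1, -1, 0, 1, 1], [-6, 1, 0, 0, 0, 0, 0, 1, 0, 0, 0, 1, 0, 1, 0, 0, 0, 1, 0, 1, 0, 0, 0, 1, 0, 0, 0, 0, 0, 1]⟩,
    ⟨[1, 1, 1, 1, 1, 1, 1], 1, 0, 55987, [-9331, -1555, -259, -43, -7, -1], [1, 0, 0, 0, 0, 0, 0, 9331, -7776, -1296, -216, 9295, -7782, 8034, 1339, -9108, -1518, 9078, 1513, 252, 42, 7, -9330, 7776, 1296, 216, 36, 6, 1], [-6, 1, 0, 0, 0, 0, 0, 1, 0, 0, 0, 1, 0, 1, 0, 0, 0, 1, 0, 1, 0, 0, 0, 1, 0, 0, 0, 0, 0, 1]⟩,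
    ⟨[1, 0, 0, 0, 1], 2, 0, 6, [-1], [0, 1, 0, 0, 0, -1, 0, 1, 0, 1, 0, 0, 0, 0, 0, 0, 0, 1, 0, 1, 0, -1, 0, 0, 0, 1], [-6, 1, 0, 0, 0, 0, 0, 1, 0, 0, 0, 1, 0, 1, 0, 0, 0, 1, 0, 1, 0, 0, 0, 1, 0, 0, 0, 0, 0, 1]⟩,
    ⟨[1, 0, 0, 1, 0, 0, 1], 1, 0, 51319, [-8478, -1392, -1645, -431, -325, -126], [451, 126, -8478, -1392, -1645, 8047, 1067, 9997, 1823, 1970, -7921, -1067, -1519, 8047, 1067, 1519, 431, 8803, 1518, 1645, -8047, -1067, -1519, 8047, 1067, 1519, 431, 325, 126], [-6, 1, 0, 0, 0, 0, 0, 1, 0, 0, 0, 1, 0, 1, 0, 0, 0, 1, 0, 1, 0, 0, 0, 1, 0, 0, 0, 0, 0, 1]⟩,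
    ⟨[1, -1, 1, -1, 1], 2, 0, 4, [-1], [-2, -1, 1, 0, 0, 2, 1, 0, 1, 0, -2, 0, 1, 0, 1, 2, 0, 0, 1, 0, -1, 0, 0, 0, 1, 1], [-6, 1, 0, 0, 0, 0, 0, 1, 0, 0, 0, 1, 0, 1, 0, 0, 0, 1, 0, 1, 0, 0, 0, 1, 0, 0, 0, 0, 0, 1]⟩,
    ⟨[1, 0, -1, 0, 1], 2, 0, 6, [-1], [0, 1, 0, 1, 0, 0, 0, 0, 0, 0, 0, 1, 0, 2, 0, 1, 0, 0, 0, 0, 0, 0, 0, 1, 0, 1], [-6, 1, 0, 0, 0, 0, 0, 1, 0, 0, 0, 1, 0, 1, 0, 0, 0, 1, 0, 1, 0, 0, 0, 1, 0, 0, 0, 0, 0, 1]⟩,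
    ⟨[1, -1, 1, -1, 1, -1, 1], 1, 0, 39991, [-6665, -1111, -185, -31, -5, -1], [1, 0, 0, 0, 0, 0, 0, 6665, 7776, 1296, 216, 6701, 7782, 7962, 1327, -6444, -1074, 6486, 1081, 180, 30, 5, 6666, 7776, 1296, 216, 36, 6, 1], [-6, 1, 0, 0, 0, 0, 0, 1, 0, 0, 0, 1, 0, 1, 0, 0, 0, 1, 0, 1, 0, 0, 0, 1, 0, 0, 0, 0, 0, 1]⟩,
    ⟨[1, -1, 0, 1, -1, 1, 0, -1, 1], 1, 0, 5, [-1], [-1, 0, 0, 1, 0, 1, 0, 1, 0, 1, 0, 1, 0, 1, 0, 0, -1, 0, 0, 1, 1, 1], [-6, 1, 0, 0, 0, 0, 0, 1, 0, 0, 0, 1, 0, 1, 0, 0, 0, 1, 0, 1, 0, 0, 0, 1, 0, 0, 0, 0, 0, 1]⟩,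
    ⟨[1, 0, 0, -1, 0, 0, 1], 1, 0, 50419, [-8406, -1416, 1165, 433, -107, -90], [-17, -90, 8406, 1416, -1165, 7973, 1523, 7331, 983, -1058, 8063, 1523, -1075, 7973, 1523, -1075, -433, 8513, 1506, -1165, 7973, 1523, -1075, 7973, 1523, -1075, -433, 107, 90], [-6, 1, 0, 0, 0, 0, 0, 1, 0, 0, 0, 1, 0, 1, 0, 0, 0, 1, 0, 1, 0, 0, 0, 1, 0, 0, 0, 0, 0, 1]⟩,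
    ⟨[1, 0, -1, 0, 1, 0, -1, 0, 1], 1, 0, 6, [-1], [0, 1, 0, 1, 0, 0, 0, 1, 0, 1, 0, 0, 0, 1, 0, 1, 0, 0, 0, 1, 0, 1], [-6, 1, 0, 0, 0, 0, 0, 1, 0, 0, 0, 1, 0, 1, 0, 0, 0, 1, 0, 1, 0, 0, 0, 1, 0, 0, 0, 0, 0, 1]⟩,
    ⟨[1, 0, 0, 0, -1, 0, 0, 0, 1], 1, 0, 6, [-1], [0, 1, 0, 0, 0, 1, 0, 1, 0, 0, 0, 2, 0, 0, 0, 1, 0, 1, 0, 0, 0, 1], [-6, 1, 0, 0, 0, 0, 0, 1, 0, 0, 0, 1, 0, 1, 0, 0, 0, 1, 0, 1, 0, 0, 0, 1, 0, 0, 0, 0, 0, 1]⟩,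
    ⟨[1, 1, 0, -1, -1, -1, 0, 1, 1], 1, 0, 7, [-1], [1, 0, 0, 1, 0, 1, 0, 1, 0, 1, 0, 1, 0, 1, 0, 0, 1, 0, 0, 1, -1, 1], [-6, 1, 0, 0, 0, 0, 0, 1, 0, 0, 0, 1, 0, 1, 0, 0, 0, 1, 0, 1, 0, 0, 0, 1, 0, 0, 0, 0, 0, 1]⟩]),
  ([-7, 1, 0, 0, 0, 0, 0, 1, 0, 0, 0, 1, 0, 1, 0, 0, 0, 1, 0, 1, 0, 0, 0, 1, 0, 0, 0, 0, 0, 1], [
    ⟨[0, 1], 29, 0, 7, [-1], [1, 0, 0, 0, 0, 0, 1, 0, 0, 0, 1, 0, 1, 0, 0, 0, 1, 0, 1, 0, 0, 0, 1, 0, 0, 0, 0, 0, 1], [-7, 1, 0, 0, 0, 0, 0, 1, 0, 0, 0, 1, 0, 1, 0, 0, 0, 1, 0, 1, 0, 0, 0, 1, 0, 0, 0, 0, 0, 1]⟩,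
    ⟨[-1, 1], 8, 0, 1, [1], [-8, -7, -7, -7, -7, -7, -7, -6, -6, -6, -6, -5, -5, -4, -4, -4, -4, -3, -3, -2, -2, -2, -2, -1, -1, -1, -1, -1, -1], [-7, 1, 0, 0, 0, 0, 0, 1, 0, 0, 0, 1, 0, 1, 0, 0, 0, 1, 0, 1, 0, 0, 0, 1, 0, 0, 0, 0, 0, 1]⟩,
    ⟨[1, 1], 8, 0, 15, [-1], [8, -7, 7, -7, 7, -7, 7, -6, 6, -6, 6, -5, 5, -4, 4, -4, 4, -3, 3, -2, 2, -2, 2, -1, 1, -1, 1, -1, 1], [-7, 1, 0, 0, 0, 0, 0, 1, 0, 0, 0, 1, 0, 1, 0, 0, 0, 1, 0, 1, 0, 0, 0, 1, 0, 0, 0, 0, 0, 1]⟩,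
    ⟨[1, 1, 1], 4, 0, 11, [-1], [4, -3, -1, 4, -3, -1, 4, -2, -2, 4, -2, -1, 3, -1, -2, 3, -1, -1, 2, 0, -2, 2, 0, -1, 1, 0, -1, 1], [-7, 1, 0, 0, 0, 0, 0, 1, 0, 0, 0, 1, 0, 1, 0, 0, 0, 1, 0, 1, 0, 0, 0, 1, 0, 0, 0, 0, 0, 1]⟩,
    ⟨[1, 0, 1], 4, 0, 7, [-1], [0, 1, 0, -1, 0, 1, 0, 0, 0, 0, 0, 1, 0, 0, 0, 0, 0, 1, 0, 0, 0, 0, 0, 1, 0, -1, 0, 1], [-7, 1, 0, 0, 0, 0, 0, 1, 0, 0, 0, 1, 0, 1, 0, 0, 0, 1, 0, 1, 0, 0, 0, 1, 0, 0, 0, 0, 0, 1]⟩,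
    ⟨[1, 1, 1, 1, 1], 2, 0, 9, [-1], [2, -1, -1, 0, 0, 2, -1, 0, -1, 0, 2, 0, -1, 0, -1, 2, 0, 0, -1, 0, 1, 0, 0, 0, -1, 1], [-7, 1, 0, 0, 0, 0, 0, 1, 0, 0, 0, 1, 0, 1, 0, 0, 0, 1, 0, 1, 0, 0, 0, 1, 0, 0, 0, 0, 0, 1]⟩,
    ⟨[1, -1, 1], 4, 0, 3, [-1], [-4, -3, 1, 4, 3, -1, -4, -2, 2, 4, 2, -1, -3, -1, 2, 3, 1, -1, -2, 0, 2, 2, 0, -1, -1, 0, 1, 1], [-7, 1, 0, 0, 0, 0, 0, 1, 0, 0, 0, 1, 0, 1, 0, 0, 0, 1, 0, 1, 0, 0, 0, 1, 0, 0, 0, 0, 0, 1]⟩,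
    ⟨[1, 1, 1, 1, 1, 1, 1], 1, 0, 137257, [-19608, -2801, -400, -57, -8, -1], [1, 0, 0, 0, 0, 0, 0, 19608, -16807, -2401, -343, 19559, -16814, 17206, 2458, -19257, -2751, 19215, 2745, 392, 56, 8, -19607, 16807, 2401, 343, 49, 7, 1], [-7, 1, 0, 0, 0, 0, 0, 1, 0, 0, 0, 1, 0, 1, 0, 0, 0, 1, 0, 1, 0, 0, 0, 1, 0, 0, 0, 0, 0, 1]⟩,
    ⟨[1, 0, 0, 0, 1], 2, 0, 7, [-1], [0, 1, 0, 0, 0, -1, 0, 1, 0, 1, 0, 0, 0, 0, 0, 0, 0, 1, 0, 1, 0, -1, 0, 0, 0, 1], [-7, 1, 0, 0, 0, 0, 0, 1, 0, 0, 0, 1, 0, 1, 0, 0, 0, 1, 0, 1, 0, 0, 0, 1, 0, 0, 0, 0, 0, 1]⟩,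
    ⟨[1, 0, 0, 1, 0, 0, 1], 1, 0, 126001, [-17906, -2534, -2920, -685, -491, -168], [659, 168, -17906, -2534, -2920, 17221, 2043, 20658, 3219, 3411, -17053, -2043, -2752, 17221, 2043, 2752, 685, 18397, 2702, 2920, -17221, -2043, -2752, 17221, 2043, 2752, 685, 491, 168], [-7, 1, 0, 0, 0, 0, 0, 1, 0, 0, 0, 1, 0, 1, 0, 0, 0, 1, 0, 1, 0, 0, 0, 1, 0, 0, 0, 0, 0, 1]⟩,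
    ⟨[1, -1, 1, -1, 1], 2, 0, 5, [-1], [-2, -1, 1, 0, 0, 2, 1, 0, 1, 0, -2, 0, 1, 0, 1, 2, 0, 0, 1, 0, -1, 0, 0, 0, 1, 1], [-7, 1, 0, 0, 0, 0, 0, 1, 0, 0, 0, 1, 0, 1, 0, 0, 0, 1, 0, 1, 0, 0, 0, 1, 0, 0, 0, 0, 0, 1]⟩,
    ⟨[1, 0, -1, 0, 1], 2, 0, 7, [-1], [0, 1, 0, 1, 0, 0, 0, 0, 0, 0, 0, 1, 0, 2, 0, 1, 0, 0, 0, 0, 0, 0, 0, 1, 0, 1], [-7, 1, 0, 0, 0, 0, 0, 1, 0, 0, 0, 1, 0, 1, 0, 0, 0, 1, 0, 1, 0, 0, 0, 1, 0, 0, 0, 0, 0, 1]⟩,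
    ⟨[1, -1, 1, -1, 1, -1, 1], 1, 0, 102943, [-14706, -2101, -300, -43, -6, -1], [1, 0, 0, 0, 0, 0, 0, 14706, 16807, 2401, 343, 14755, 16814, 17108, 2444, -14357, -2051, 14413, 2059, 294, 42, 6, 14707, 16807, 2401, 343, 49, 7, 1], [-7, 1, 0, 0, 0, 0, 0, 1, 0, 0, 0, 1, 0, 1, 0, 0, 0, 1, 0, 1, 0, 0, 0, 1, 0, 0, 0, 0, 0, 1]⟩,
    ⟨[1, -1, 0, 1, -1, 1, 0, -1, 1], 1, 0, 6, [-1], [-1, 0, 0, 1, 0, 1, 0, 1, 0, 1, 0, 1, 0, 1, 0, 0, -1, 0, 0, 1, 1, 1], [-7, 1, 0, 0, 0, 0, 0, 1, 0, 0, 0, 1, 0, 1, 0, 0, 0, 1, 0, 1, 0, 0, 0, 1, 0, 0, 0, 0, 0, 1]⟩,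
    ⟨[1, 0, 0, -1, 0, 0, 1], 1, 0, 41529, [-5936, -854, 726, 229, -65, -42], [-23, -42, 5936, 854, -726, 5707, 919, 5252, 625, -661, 5749, 919, -684, 5707, 919, -684, -229, 6001, 896, -726, 5707, 919, -684, 5707, 919, -684, -229, 65, 42], [-7, 1, 0, 0, 0, 0, 0, 1, 0, 0, 0, 1, 0, 1, 0, 0, 0, 1, 0, 1, 0, 0, 0, 1, 0, 0, 0, 0, 0, 1]⟩,
    ⟨[1, 0, -1, 0, 1, 0, -1, 0, 1], 1, 0, 7, [-1], [0, 1, 0, 1, 0, 0, 0, 1, 0, 1, 0, 0, 0, 1, 0, 1, 0, 0, 0, 1, 0, 1], [-7, 1, 0, 0, 0, 0, 0, 1, 0, 0, 0, 1, 0, 1, 0, 0, 0, 1, 0, 1, 0, 0, 0, 1, 0, 0, 0, 0, 0, 1]⟩,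
    ⟨[1, 0, 0, 0, -1, 0, 0, 0, 1], 1, 0, 7, [-1], [0, 1, 0, 0, 0, 1, 0, 1, 0, 0, 0, 2, 0, 0, 0, 1, 0, 1, 0, 0, 0, 1], [-7, 1, 0, 0, 0, 0, 0, 1, 0, 0, 0, 1, 0, 1, 0, 0, 0, 1, 0, 1, 0, 0, 0, 1, 0, 0, 0, 0, 0, 1]⟩,
    ⟨[1, 1, 0, -1, -1, -1, 0, 1, 1], 1, 0, 8, [-1], [1, 0, 0, 1, 0, 1, 0, 1, 0, 1, 0, 1, 0, 1, 0, 0, 1, 0, 0, 1, -1, 1], [-7, 1, 0, 0, 0, 0, 0, 1, 0, 0, 0, 1, 0, 1, 0, 0, 0, 1, 0, 1, 0, 0, 0, 1, 0, 0, 0, 0, 0, 1]⟩]),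
  ([-8, 1, 0, 0, 0, 0, 0, 1, 0, 0, 0, 1, 0, 1, 0, 0, 0, 1, 0, 1, 0, 0, 0, 1, 0, 0, 0, 0, 0, 1], [
    ⟨[0, 1], 29, 0, 8, [-1], [1, 0, 0, 0, 0, 0, 1, 0, 0, 0, 1, 0, 1, 0, 0, 0, 1, 0, 1, 0, 0, 0, 1, 0, 0, 0, 0, 0, 1], [-8, 1, 0, 0, 0, 0, 0, 1, 0, 0, 0, 1, 0, 1, 0, 0, 0, 1, 0, 1, 0, 0, 0, 1, 0, 0, 0, 0, 0, 1]⟩,
    ⟨[-1, 1], 8, 1, 120, [1], [-112, -105, -98, -91, -84, -77, -70, -64, -58, -52, -46, -41, -36, -32, -28, -24, -20, -17, -14, -12, -10, -8, -6, -5, -4, -3, -2, -1], [8, 7, 7, 7, 7, 7, 7, 6, 6, 6, 6, 5, 5, 4, 4, 4, 4, 3, 3, 2, 2, 2, 2, 1, 1, 1, 1, 1, 1]⟩,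
    ⟨[1, 1], 8, 0, 16, [-1], [8, -7, 7, -7, 7, -7, 7, -6, 6, -6, 6, -5, 5, -4, 4, -4, 4, -3, 3, -2, 2, -2, 2, -1, 1, -1, 1, -1, 1], [-8, 1, 0, 0, 0, 0, 0, 1, 0, 0, 0, 1, 0, 1, 0, 0, 0, 1, 0, 1, 0, 0, 0, 1, 0, 0, 0, 0, 0, 1]⟩,
    ⟨[1, 1, 1], 4, 0, 12, [-1], [4, -3, -1, 4, -3, -1, 4, -2, -2, 4, -2, -1, 3, -1, -2, 3, -1, -1, 2, 0, -2, 2, 0, -1, 1, 0, -1, 1], [-8, 1, 0, 0, 0, 0, 0, 1, 0, 0, 0, 1, 0, 1, 0, 0, 0, 1, 0, 1, 0, 0, 0, 1, 0, 0, 0, 0, 0, 1]⟩,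
    ⟨[1, 0, 1], 4, 0, 8, [-1], [0, 1, 0, -1, 0, 1, 0, 0, 0, 0, 0, 1, 0, 0, 0, 0, 0, 1, 0, 0, 0, 0, 0, 1, 0, -1, 0, 1], [-8, 1, 0, 0, 0, 0, 0, 1, 0, 0, 0, 1, 0, 1, 0, 0, 0, 1, 0, 1, 0, 0, 0, 1, 0, 0, 0, 0, 0, 1]⟩,
    ⟨[1, 1, 1, 1, 1], 2, 0, 10, [-1], [2, -1, -1, 0, 0, 2, -1, 0, -1, 0, 2, 0, -1, 0, -1, 2, 0, 0, -1, 0, 1, 0, 0, 0, -1, 1], [-8, 1, 0, 0, 0, 0, 0, 1, 0, 0, 0, 1, 0, 1, 0, 0, 0, 1, 0, 1, 0, 0, 0, 1, 0, 0, 0, 0, 0, 1]⟩,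
    ⟨[1, -1, 1], 4, 0, 4, [-1], [-4, -3, 1, 4, 3, -1, -4, -2, 2, 4, 2, -1, -3, -1, 2, 3, 1, -1, -2, 0, 2, 2, 0, -1, -1, 0, 1, 1], [-8, 1, 0, 0, 0, 0, 0, 1, 0, 0, 0, 1, 0, 1, 0, 0, 0, 1, 0, 1, 0, 0, 0, 1, 0, 0, 0, 0, 0, 1]⟩,
    ⟨[1, 1, 1, 1, 1, 1, 1], 1, 0, 299593, [-37449, -4681, -585, -73, -9, -1], [1, 0, 0, 0, 0, 0, 0, 37449, -32768, -4096, -512, 37385, -32776, 33352, 4169, -36928, -4616, 36872, 4609, 576, 72, 9, -37448, 32768, 4096, 512, 64, 8, 1], [-8, 1, 0, 0, 0, 0, 0, 1, 0, 0, 0, 1, 0, 1, 0, 0, 0, 1, 0, 1, 0, 0, 0, 1, 0, 0, 0, 0, 0, 1]⟩,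
    ⟨[1, 0, 0, 0, 1], 2, 0, 8, [-1], [0, 1, 0, 0, 0, -1, 0, 1, 0, 1, 0, 0, 0, 0, 0, 0, 0, 1, 0, 1, 0, -1, 0, 0, 0, 1], [-8, 1, 0, 0, 0, 0, 0, 1, 0, 0, 0, 1, 0, 1, 0, 0, 0, 1, 0, 1, 0, 0, 0, 1, 0, 0, 0, 0, 0, 1]⟩,
    ⟨[1, 0, 0, 1, 0, 0, 1], 1, 0, 92019, [-11464, -1424, -1611, -341, -235, -72], [307, 72, -11464, -1424, -1611, 11123, 1189, 13003, 1765, 1846, -11051, -1189, -1539, 11123, 1189, 1539, 341, 11699, 1496, 1611, -11123, -1189, -1539, 11123, 1189, 1539, 341, 235, 72], [-8, 1, 0, 0, 0, 0, 0, 1, 0, 0, 0, 1, 0, 1, 0, 0, 0, 1, 0, 1, 0, 0, 0, 1, 0, 0, 0, 0, 0, 1]⟩,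
    ⟨[1, -1, 1, -1, 1], 2, 0, 6, [-1], [-2, -1, 1, 0, 0, 2, 1, 0, 1, 0, -2, 0, 1, 0, 1, 2, 0, 0, 1, 0, -1, 0, 0, 0, 1, 1], [-8, 1, 0, 0, 0, 0, 0, 1, 0, 0, 0, 1, 0, 1, 0, 0, 0, 1, 0, 1, 0, 0, 0, 1, 0, 0, 0, 0, 0, 1]⟩,
    ⟨[1, 0, -1, 0, 1], 2, 0, 8, [-1], [0, 1, 0, 1, 0, 0, 0, 0, 0, 0, 0, 1, 0, 2, 0, 1, 0, 0, 0, 0, 0, 0, 0, 1, 0, 1], [-8, 1, 0, 0, 0, 0, 0, 1, 0, 0, 0, 1, 0, 1, 0, 0, 0, 1, 0, 1, 0, 0, 0, 1, 0, 0, 0, 0, 0, 1]⟩,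
    ⟨[1, -1, 1, -1, 1, -1, 1], 1, 0, 233017, [-29127, -3641, -455, -57, -7, -1], [1, 0, 0, 0, 0, 0, 0, 29127, 32768, 4096, 512, 29191, 32776, 33224, 4153, -28608, -3576, 28680, 3585, 448, 56, 7, 29128, 32768, 4096, 512, 64, 8, 1], [-8, 1, 0, 0, 0, 0, 0, 1, 0, 0, 0, 1, 0, 1, 0, 0, 0, 1, 0, 1, 0, 0, 0, 1, 0, 0, 0, 0, 0, 1]⟩,
    ⟨[1, -1, 0, 1, -1, 1, 0, -1, 1], 1, 0, 7, [-1], [-1, 0, 0, 1, 0, 1, 0, 1, 0, 1, 0, 1, 0, 1, 0, 0, -1, 0, 0, 1, 1, 1], [-8, 1, 0, 0, 0, 0, 0, 1, 0, 0, 0, 1, 0, 1, 0, 0, 0, 1, 0, 1, 0, 0, 0, 1, 0, 0, 0, 0, 0, 1]⟩,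
    ⟨[1, 0, 0, -1, 0, 0, 1], 1, 0, 273961, [-34264, -4304, 3745, 1025, -319, -168], [-151, -168, 34264, 4304, -3745, 33239, 4623, 30687, 3279, -3426, 33407, 4623, -3577, 33239, 4623, -3577, -1025, 34583, 4472, -3745, 33239, 4623, -3577, 33239, 4623, -3577, -1025, 319, 168], [-8, 1, 0, 0, 0, 0, 0, 1, 0, 0, 0, 1, 0, 1, 0, 0, 0, 1, 0, 1, 0, 0, 0, 1, 0, 0, 0, 0, 0, 1]⟩,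
    ⟨[1, 0, -1, 0, 1, 0, -1, 0, 1], 1, 0, 8, [-1], [0, 1, 0, 1, 0, 0, 0, 1, 0, 1, 0, 0, 0, 1, 0, 1, 0, 0, 0, 1, 0, 1], [-8, 1, 0, 0, 0, 0, 0, 1, 0, 0, 0, 1, 0, 1, 0, 0, 0, 1, 0, 1, 0, 0, 0, 1, 0, 0, 0, 0, 0, 1]⟩,
    ⟨[1, 0, 0, 0, -1, 0, 0, 0, 1], 1, 0, 8, [-1], [0, 1, 0, 0, 0, 1, 0, 1, 0, 0, 0, 2, 0, 0, 0, 1, 0, 1, 0, 0, 0, 1], [-8, 1, 0, 0, 0, 0, 0, 1, 0, 0, 0, 1, 0, 1, 0, 0, 0, 1, 0, 1, 0, 0, 0, 1, 0, 0, 0, 0, 0, 1]⟩,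
    ⟨[1, 1, 0, -1, -1, -1, 0, 1, 1], 1, 0, 9, [-1], [1, 0, 0, 1, 0, 1, 0, 1, 0, 1, 0, 1, 0, 1, 0, 0, 1, 0, 0, 1, -1, 1], [-8, 1, 0, 0, 0, 0, 0, 1, 0, 0, 0, 1, 0, 1, 0, 0, 0, 1, 0, 1, 0, 0, 0, 1, 0, 0, 0, 0, 0, 1]⟩])]

/-- `X ^ i - 1`. -/
def powSub (i : ℕ) : List ℤ := addL (powL [0, 1] i) [-1]

/-- The product. -/
def prodE8 : List ℤ :=
  mulL (powL [0, 1] 29) (([2, 8, 12, 14, 18, 20, 24, 30].map powSub).foldr mulL [1])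

/-- The bound as a coefficient list. -/
def topE8 : List ℤ :=
  [0, 1, 0, 0, 0, 0, 0, 1, 0, 0, 0, 1, 0, 1, 0, 0, 0, 1, 0, 1, 0, 0, 0, 1, 0, 0, 0, 0, 0, 1]

theorem chkFacsE8 : (facsE8.all fun p => chkFacs p.1 prodE8 p.2 &&
    chkBound 2560 29 ((boundL p.2).length - 1) p.2) = true := by
  decide +kernel

theorem chkCandE8 : ((List.range 8).all fun d => decide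
    (addL topE8 [-((d : ℤ) + 1)] ∈ facsE8.map Prod.fst)) = true := by
  decide +kernel

theorem smallE8 : ((List.range 2557).all fun a => (List.range 8).all fun d =>
    decide (¬ (a + 3) * ((a + 3) ^ 12 + 1) * ((a + 3) ^ 10 + 1) * ((a + 3) ^ 6 + 1) - (d + 1) ∣
      ((a + 3) ^ 2 - 1) * ((a + 3) ^ 8 - 1) * ((a + 3) ^ 12 - 1) * ((a + 3) ^ 14 - 1) *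
        ((a + 3) ^ 18 - 1) * ((a + 3) ^ 20 - 1) * ((a + 3) ^ 24 - 1) * ((a + 3) ^ 30 - 1) *
        (a + 3) ^ 29)) = true := by
  decide +kernel

theorem smallTwoE8 : ((List.range 200).all fun d =>
    decide (¬ (2 * (2 ^ 12 + 1) * (2 ^ 10 + 1) * (2 ^ 6 + 1) - (d + 1)) ∣
      (2 ^ 2 - 1) * (2 ^ 8 - 1) * (2 ^ 12 - 1) * (2 ^ 14 - 1) * (2 ^ 18 - 1) * (2 ^ 20 - 1) *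
        (2 ^ 24 - 1) * (2 ^ 30 - 1) * 2 ^ 29)) = true := by
  decide +kernel

/-- No degree just below the bound divides. -/
theorem not_dvd_E8 {q k : ℕ} (hq : 3 ≤ q)
    (hlo : q * (q ^ 12 + 1) * (q ^ 10 + 1) * (q ^ 6 + 1) ≤ k + 8)
    (hhi : k < q * (q ^ 12 + 1) * (q ^ 10 + 1) * (q ^ 6 + 1)) :
    ¬ k ∣ (q ^ 2 - 1) * (q ^ 8 - 1) * (q ^ 12 - 1) * (q ^ 14 - 1) * (q ^ 18 - 1) * (q ^ 20 - 1) *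
      (q ^ 24 - 1) * (q ^ 30 - 1) * q ^ 29 := by
  set T := q * (q ^ 12 + 1) * (q ^ 10 + 1) * (q ^ 6 + 1) with hT
  obtain ⟨d, hd, rfl⟩ : ∃ d, d < 8 ∧ k = T - (d + 1) := ⟨T - k - 1, by omega, by omega⟩
  rcases Nat.lt_or_ge q 2560 with hq' | hq'
  · have := smallE8
    simp only [List.all_eq_true, List.mem_range, decide_eq_true_eq] at this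
    have h := this (q - 3) (by omega) d hd
    rwa [Nat.sub_add_cancel hq] at h
  · intro hdvd
    have hc := chkCandE8
    simp only [List.all_eq_true, List.mem_range, decide_eq_true_eq] at hc
    obtain ⟨p, hp, he⟩ := List.mem_map.1 (hc d hd)
    have hf := chkFacsE8
    simp only [List.all_eq_true, Bool.and_eq_true] at hf
    obtain ⟨hf1, hf2⟩ := hf p hp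
    have h1 : ∀ i, 1 ≤ q ^ i := fun i => Nat.one_le_pow _ _ (by omega)
    have e : T = q ^ 29 + (q ^ 23 + q ^ 19 + q ^ 17 + q ^ 13 + q ^ 11 + q ^ 7 + q) := by rw [hT]; ring
    have h23 : 8 ≤ q ^ 23 := le_trans (by omega) (Nat.le_self_pow (by norm_num) q)
    have hK : evalL (q : ℤ) p.1 = ((T - (d + 1) : ℕ) : ℤ) := by
      rw [he, evalL_addL, Nat.cast_sub (show d + 1 ≤ T by omega), e]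
      simp only [topE8, evalL]
      push_cast
      ring
    have hW : evalL (q : ℤ) prodE8 =
        (((q ^ 2 - 1) * (q ^ 8 - 1) * (q ^ 12 - 1) * (q ^ 14 - 1) * (q ^ 18 - 1) * (q ^ 20 - 1) *
          (q ^ 24 - 1) * (q ^ 30 - 1) * q ^ 29 : ℕ) : ℤ) := by
      push_cast [Nat.cast_sub (h1 _)]
      simp only [prodE8, powSub, List.map_cons, List.map_nil, List.foldr_cons, List.foldr_nil, evalL_mulL,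
        evalL_addL, evalL_powL, evalL]
      ring
    refine not_dvd_of_chk (x := (q : ℤ)) hf1 hf2 (by exact_mod_cast hq')
      (by exact_mod_cast (by omega : 1 ≤ q)) ?_ ?_
    · rw [hK]
      exact_mod_cast (show q ^ 29 ≤ T - (d + 1) by omega)
    · rw [hK, hW]
      exact Int.natCast_dvd_natCast.2 hdvd

end CfsgLib.EMinDeg
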