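import Cfsg.Agent.Lib.EMinDeg.Step

/-!
The size of the orbit of a weight with a second coordinate.
-/

set_option autoImplicit false
set_option linter.unusedSectionVars false

namespace CfsgLib.EMinDeg

open Module Cfsg.Lie CfsgLib.Chev CfsgLib.GTwoMinDeg

/-- The data of the first bound: the representative of the second coordinates with words carrying it
to each of them, two cocharacters and the two sequences. -/
structure BigData where
  b0 : ℕ
  words : List (ℕ × List ℕ)
  v1 : List ℤ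
  v2 : List ℤ
  es1 : List (ℕ × ℕ)
  es2 : List (ℕ × ℕ)

/-- The check of one word of the first bound. -/
noncomputable def BigData.chkOne (T : Tab) (d : LevData) (s : BigData) (e : ℕ × List ℕ) : Bool :=
  chkWord T d.J d.psi e.2 && decide (rword T e.2.reverse d.z = d.z) &&
  decide (rword T e.2.reverse s.b0 = e.1) &&
  d.psi.all fun x => decide (x ∈ d.z :: d.psi2) || decide (rword T e.2.reverse x ∉ d.z :: d.psi2)

/-- The check of the first bound on some of the second coordinates. -/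
noncomputable def BigData.chkOn (T : Tab) (d : LevData) (S : List ℕ) (s : BigData) : Bool :=
  decide (s.b0 ∈ d.psi) &&
  (S.all fun b => s.words.any fun e => decide (e.1 = b) && s.chkOne T d e) &&
  decide (pairV T s.v1 d.z = 1) && decide (pairV T s.v1 s.b0 = 0) &&
  decide (pairV T s.v2 d.z = 0) && decide (pairV T s.v2 s.b0 = 1) &&
  chkRun T d.K d.psi d.psi [d.z] d.z s.es1 &&
  (s.es1.all fun p => decide (p.1 ∈ d.St) && decide (p.2 ∉ d.z :: d.psi2)) &&
  chkRun T d.K d.psi (d.z :: d.psi2) [d.z, s.b0] s.b0 s.es2 &&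
  s.es2.all fun p => decide (p.1 ∈ d.St)

/-- The check of the first bound. -/
noncomputable def BigData.chk (T : Tab) (d : LevData) (s : BigData) : Bool := s.chkOn T d d.psi2

/-- The check of a root moving the coordinate `k` into the others. -/
noncomputable def chkPre (T : Tab) (d : LevData) (S : List ℕ) (g k : ℕ) : Bool :=
  (d.psi2.all fun b => decide (b = k) || decide (b ∈ S)) && decide (g ∈ d.St) &&
  chkMove T d.K d.psi g && outside T d.psi [d.z, k] g d.z &&
  (d.psi.all fun x => decide (x ∈ d.z :: d.psi2) || outside T d.psi [d.z, k] g x) &&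
  S.any fun b => decide (b ∈ d.psi) && match tgt T d.psi g b with
    | some kc => decide (kc.1 = k) && decide (kc.2 * kc.2 = 1)
    | none => false

variable {D : ChevalleyDatum} {T : Tab} {C : Tab.Cover} (h : Cert D T C)
variable {F : Type*} [Field F] [Fintype F] [DecidableEq F]
variable {V : Type*} [AddCommGroup V] [Module ℂ V] [FiniteDimensional ℂ V]
variable {ρ : Representation ℂ (Gp D F) V} {d : LevData} {E : Module.End ℂ V} {ψ : AddChar F ℂ}
  (hd : d.chk T = true) (hE : On h ρ d.K d.St d.J E) (hψ : ψ.IsPrimitive)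

include hψ

/-- A family of weights of the same positive multiplicity bounds the dimension. -/
theorem card_le_dm {α : Type*} [Fintype α] (f : α → Ix d.psi → F) (hinj : Function.Injective f)
    {χ : Ix d.psi → F} (hreach : ∀ p, Reach (rad h hd hE) ψ χ (f p))
    (hm : 0 < mult (rad h hd hE) ψ χ) : Fintype.card α ≤ dm E := by
  classical
  have h1 : dm E = ∑ φ, mult (rad h hd hE) ψ φ := (rad h hd hE).dm_E hψ
  rw [h1]
  calc Fintype.card α = ∑ _p : α, 1 := by simp
    _ ≤ ∑ p : α, mult (rad h hd hE) ψ (f p) :=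
        Finset.sum_le_sum fun p _ => by rw [← (hreach p).mult_eq hψ]; exact hm
    _ = ∑ φ ∈ Finset.univ.image f, mult (rad h hd hE) ψ φ :=
        (Finset.sum_image fun p _ p' _ e => hinj e).symm
    _ ≤ ∑ φ, mult (rad h hd hE) ψ φ :=
        Finset.sum_le_sum_of_subset_of_nonneg (Finset.subset_univ _) (fun _ _ _ => Nat.zero_le _)

variable {sb : BigData} {S : List ℕ} (hsb : sb.chkOn T d S = true)

include hsb in
/-- The first bound on some of the second coordinates. -/
theorem big_of_chkOn (φ : Ix d.psi → F) (hsupp : Supp (d.z :: d.psi2) φ) (hz0 : co φ d.z ≠ 0)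
    (hex : ∃ b ∈ S, co φ b ≠ 0) (hm : 0 < mult (rad h hd hE) ψ φ) :
    (Fintype.card F - 1) ^ 2 * Fintype.card F ^ (sb.es1.length + sb.es2.length) ≤ dm E := by
  classical
  simp only [BigData.chkOn, BigData.chkOne, Bool.and_eq_true, Bool.or_eq_true, decide_eq_true_eq,
    List.all_eq_true, List.any_eq_true] at hsb
  obtain ⟨⟨⟨⟨⟨⟨⟨⟨⟨hb0, hwords⟩, hv1z⟩, hv1b⟩, hv2z⟩, hv2b⟩, hr1⟩, hs1⟩, hr2⟩, hs2⟩ := hsb
  obtain ⟨b, hb, hφb⟩ := hex
  obtain ⟨e, -, rfl, ⟨⟨hw, hwz⟩, hwb⟩, hwx⟩ := hwords b hb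
  obtain ⟨hok, hJ, hwp⟩ : WordOK T e.2 ∧ (∀ i ∈ e.2, i ∈ d.J) ∧
      ∀ x ∈ d.psi, rword T e.2.reverse x ∈ d.psi := by
    simp only [chkWord, Bool.and_eq_true, decide_eq_true_eq, List.all_eq_true] at hw
    exact ⟨fun i hi => (hw.1 i hi).1, fun i hi => (hw.1 i hi).2, hw.2⟩
  obtain ⟨-, -, -, hzm, -⟩ := LevData.chk_spec hd
  set R := rad h hd hE with hR
  have ht := ties h hd hE
  obtain ⟨c, hc0, hcj⟩ := cj_wel h hψ ht hok (hE.welC _ hok hJ) hwp
  obtain ⟨χ, hχ, hco⟩ := hcj φ
  have hχs : Supp (d.z :: d.psi2) χ := fun x hx hxn => by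
    rw [hco x hx, hsupp _ (hwp x hx) ((hwx x hx).resolve_left hxn), mul_zero]
  have hχz : co χ d.z ≠ 0 := by rw [hco _ hzm, hwz]; exact mul_ne_zero (hc0 _ hzm) hz0
  have hχb : co χ sb.b0 ≠ 0 := by rw [hco _ hb0, hwb]; exact mul_ne_zero (hc0 _ hb0) hφb
  have hreach : Reach R ψ φ χ := ⟨_, hχ⟩
  set τ : Fˣ × Fˣ → Ix d.psi → F := fun p x =>
    ((p.1 : F) ^ pairV T sb.v1 x)⁻¹ * (((p.2 : F) ^ pairV T sb.v2 x)⁻¹ * χ x) with hτ
  have hτco : ∀ p x, x ∈ d.psi → co (τ p) x =
      ((p.1 : F) ^ pairV T sb.v1 x)⁻¹ * (((p.2 : F) ^ pairV T sb.v2 x)⁻¹ * co χ x) := fun p x hx => by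
    rw [co_of_mem _ hx, co_of_mem χ hx]
  have hτs : ∀ p, Supp (d.z :: d.psi2) (τ p) := fun p x hx hxn => by
    rw [hτco p x hx, hχs x hx hxn, mul_zero, mul_zero]
  have hτr : ∀ p, Reach R ψ χ (τ p) := fun p =>
    (reach_tor h hψ ht sb.v2 p.2 (hE.torC _ _) χ).trans (reach_tor h hψ ht sb.v1 p.1 (hE.torC _ _) _)
  set f : (Fˣ × Fˣ) × Par F sb.es1 × Par F sb.es2 → Ix d.psi → F := fun p =>
    run T sb.es1 (ext0 p.2.1) (run T sb.es2 (ext0 p.2.2) (τ p.1)) with hf
  have hsA : ∀ φ : Ix d.psi → F, Supp d.psi φ := fun φ x hx hxn => absurd hx hxn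
  have hinj : Function.Injective f := by
    rintro ⟨p, s1, s2⟩ ⟨p', s1', s2'⟩ e
    have hi := fun (p : Fˣ × Fˣ) (s : Par F sb.es2) => supp_run hr2 (ext0 s) (hτs p)
    have hkz := fun (p : Fˣ × Fˣ) (s : Par F sb.es2) (x : ℕ) (hx : x ∈ [d.z, sb.b0]) =>
      run_keep hr2 (ext0 s) (hτs p) x hx
    have hz : ∀ p : Fˣ × Fˣ, co (τ p) d.z = (p.1 : F)⁻¹ * co χ d.z := fun p => by
      rw [hτco p _ hzm, hv1z, hv2z, zpow_one, zpow_zero, inv_one, one_mul]
    have hb : ∀ p : Fˣ × Fˣ, co (τ p) sb.b0 = (p.2 : F)⁻¹ * co χ sb.b0 := fun p => by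
      rw [hτco p _ hb0, hv1b, hv2b, zpow_one, zpow_zero, inv_one, one_mul]
    have e1z := congrArg (fun ω => co ω d.z) e
    simp only [hf, run_keep hr1 _ (hsA _) d.z List.mem_cons_self,
      hkz _ _ d.z List.mem_cons_self, hz] at e1z
    have hp1 : p.1 = p'.1 := Units.ext (inv_injective (mul_right_cancel₀ hχz e1z))
    obtain ⟨einner, es1⟩ := run_inj List.mem_cons_self hr1 (hsA _) (hsA _)
      (fun x hx => by
        rw [hi p s2 _ (chkRun_mem hr1 x hx) (hs1 x hx).2, hi p' s2' _ (chkRun_mem hr1 x hx) (hs1 x hx).2])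
      (by rw [hkz _ _ d.z List.mem_cons_self, hkz _ _ d.z List.mem_cons_self, hz, hz, hp1])
      (by rw [hkz _ _ d.z List.mem_cons_self, hz]; exact mul_ne_zero (inv_ne_zero p.1.ne_zero) hχz) e
    have e2b := congrArg (fun ω => co ω sb.b0) einner
    simp only [hkz _ _ sb.b0 (List.mem_cons_of_mem _ List.mem_cons_self), hb] at e2b
    have hp2 : p.2 = p'.2 := Units.ext (inv_injective (mul_right_cancel₀ hχb e2b))
    obtain rfl : p = p' := Prod.ext hp1 hp2
    obtain ⟨-, es2⟩ := run_inj (List.mem_cons_of_mem _ List.mem_cons_self) hr2 (hτs p) (hτs p)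
      (fun _ _ => rfl) rfl (by rw [hb]; exact mul_ne_zero (inv_ne_zero p.2.ne_zero) hχb) einner
    exact Prod.ext rfl (Prod.ext (ext0_inj es1) (ext0_inj es2))
  have key := card_le_dm h hd hE hψ f hinj (fun p => ((hτr p.1).trans
      (reach_run h hψ ht hr2 (fun x hx => hE.comm _ (hs2 x hx)) _ _)).trans
      (reach_run h hψ ht hr1 (fun x hx => hE.comm _ (hs1 x hx).1) _ _))
    (by rw [← hreach.mult_eq hψ]; exact hm)
  simp only [Fintype.card_prod, Fintype.card_units, card_par hr1, card_par hr2] at key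
  refine le_trans (le_of_eq ?_) key
  ring

omit hsb in
/-- The first bound. -/
theorem bigAt_of_chk (hsb : sb.chk T d = true) :
    BigAt h hd hE ψ ((Fintype.card F - 1) ^ 2 * Fintype.card F ^ (sb.es1.length + sb.es2.length)) :=
  fun φ hsupp hz0 hex hm => big_of_chkOn h hd hE hψ hsb φ hsupp hz0 hex hm

include hsb in
/-- The first bound when one coordinate first has to be moved. -/
theorem bigAt_of_pre {g k : ℕ} (hp : chkPre T d S g k = true) :
    BigAt h hd hE ψ ((Fintype.card F - 1) ^ 2 * Fintype.card F ^ (sb.es1.length + sb.es2.length)) := by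
  intro φ hsupp hz0 hex hm
  by_cases hS : ∃ b ∈ S, co φ b ≠ 0
  · exact big_of_chkOn h hd hE hψ hsb φ hsupp hz0 hS hm
  push Not at hS
  simp only [chkPre, Bool.and_eq_true, Bool.or_eq_true, decide_eq_true_eq, List.all_eq_true,
    List.any_eq_true] at hp
  obtain ⟨⟨⟨⟨⟨hcov, hg⟩, hmv⟩, hkeep⟩, hcl⟩, b, hbS, hb, hbt⟩ := hp
  obtain ⟨b', hb', hφb⟩ := hex
  obtain rfl : b' = k := (hcov b' hb').resolve_right fun e => hφb (hS b' e)
  cases et : tgt T d.psi g b with
  | none => rw [et] at hbt; exact absurd hbt (by simp)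
  | some kc =>
    obtain ⟨k', c⟩ := kc
    rw [et] at hbt
    simp only [Bool.and_eq_true, decide_eq_true_eq] at hbt
    obtain ⟨rfl, hcc⟩ := hbt
    have hs' : Supp [d.z, k'] φ := fun x hx hxn => by
      by_cases hin : x ∈ d.z :: d.psi2
      · rcases List.mem_cons.1 hin with e | e
        · exact absurd (e ▸ List.mem_cons_self) hxn
        · rcases hcov x e with e' | e'
          · exact absurd (e' ▸ List.mem_cons_of_mem _ List.mem_cons_self) hxn
          · exact hS x e'
      · exact hsupp x hx hin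
    refine big_of_chkOn h hd hE hψ hsb (mv T g 1 φ)
      (fun x hx hxn => by
        rw [co_mv_outside ((hcl x hx).resolve_left hxn) 1 hs']
        exact hsupp x hx hxn)
      (by rw [co_mv_outside hkeep 1 hs']; exact hz0) ⟨b, hbS, ?_⟩ ?_
    · rw [co_mv_some et hb, hS b hbS, zero_add]
      have hc0 : (c : F) ≠ 0 := fun h0 => by
        have h1 := congrArg (fun z : ℤ => (z : F)) hcc
        simp [h0] at h1
      exact mul_ne_zero (mul_ne_zero hc0 (by norm_num)) hφb
    · rw [← (reach_root h hψ (ties h hd hE) hmv (hE.comm g hg) 1 φ).mult_eq hψ]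
      exact hm

omit hψ in
/-- There is nothing to bound without a second coordinate. -/
theorem bigAt_nil (hnil : d.psi2 = []) (B : ℕ) : BigAt h hd hE ψ B := fun _ _ _ hex _ => by
  obtain ⟨b, hb, -⟩ := hex
  rw [hnil] at hb
  exact absurd hb List.not_mem_nil

end CfsgLib.EMinDeg
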