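import Cfsg.Agent.Lib.EMinDeg.Fix
import Cfsg.Agent.Lib.Chev.OrderData
import Cfsg.Agent.Lib.Chev.All

/-!
The index of the centralizer of a long root element in E6.
-/

set_option autoImplicit false

namespace CfsgLib.EMinDeg

open Cfsg.Lie CfsgLib.Chev

set_option maxRecDepth 100000

/-- The roots of the radical of the parabolic subgroup fixing the highest root. -/
def radE6 : List ℕ :=
  [71, 46, 47, 48, 49, 50, 51, 52, 53, 54, 55, 61, 62, 63, 64, 65, 66, 67, 68, 69, 70]

/-- The words fixing the highest root. -/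
noncomputable def stabE6 : List (List ℕ) :=
  fixWords tabE6 levelE6_6 (transversal levelsE6 5) 71

theorem chkStabE6 : (chkFix tabE6 71 radE6 stabE6 &&
    stabE6.all fun w => w.all fun i => decide (i ∈ [0, 2, 3, 4, 5])) = true := by decide +kernel

theorem negStabE6 : ((stabE6.map tabE6.negCount).isPerm
    (([1, 5, 14, 29, 49, 71, 90, 101, 101, 90, 71, 49, 29, 14, 5, 1] : List ℕ).zipIdx.flatMap
      fun p => List.replicate p.1 p.2)) = true := by decide +kernel

theorem chkRadE6 : ((List.range 72).all fun r => decide (r ∈ radE6 ↔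
    36 ≤ r ∧ ¬ ((List.range 6).all fun i : ℕ =>
      decide (i ∈ [0, 2, 3, 4, 5]) || decide ((chevE6.coroot.getD r #[]).getD i 0 = 0)) = true)) = true := by
  decide +kernel

theorem chkUE6 : ((List.range tabE6.n).all fun r => decide (r < tabE6.half) || chkTerms tabE6 [] r 71) = true := by
  decide +kernel

theorem chkJE6 : (([0, 2, 3, 4, 5] : List ℕ).all fun j => decide (tabE6.refl j 71 = 71)) = true := by
  decide +kernel

theorem radE6_iff (r : ℕ) : r ∈ radE6 ↔ r ∈ radSet chevE6 tabE6 {i | i ∈ [0, 2, 3, 4, 5]} := by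
  have hn : tabE6.n = 72 := by decide +kernel
  have hh : tabE6.half = 36 := by decide +kernel
  have h1 : chevE6.nroots = 72 := by decide +kernel
  have h2 : chevE6.rank = 6 := by decide +kernel
  have hl : ∀ a ∈ radE6, a < 72 := by decide +kernel
  have hc := chkRadE6
  simp only [List.all_eq_true, List.mem_range, decide_eq_true_eq] at hc
  show _ ↔ r ∈ posSet tabE6 ∧ ¬ chevE6.InRootSub {i | i ∈ [0, 2, 3, 4, 5]} r
  unfold posSet ChevalleyDatum.InRootSub
  simp only [Set.mem_ofPred_eq, hn, hh, h1, h2]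
  constructor
  · intro hr
    obtain ⟨ha, hb⟩ := (hc r (hl r hr)).1 hr
    exact ⟨⟨ha, hl r hr⟩, fun hh => hb (fun i hi => by
      by_cases hm : i ∈ [0, 2, 3, 4, 5]
      · rw [decide_eq_true hm, Bool.true_or]
      · rw [decide_eq_true (hh.2 i hi hm), Bool.or_true])⟩
  · rintro ⟨⟨ha, hb⟩, hne⟩
    exact (hc r hb).2 ⟨ha, fun hh => hne ⟨hb, fun i hi hm => by
      have := hh i hi
      simp only [Bool.or_eq_true, decide_eq_true_eq] at this
      exact this.resolve_left hm⟩⟩

variable {F : Type*} [Field F] [Fintype F]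

theorem index_root_E6 :
    (Subgroup.centralizer ({xr certE6 71 (1 : F)} : Set (Gp chevE6 F))).index ∣
      (Fintype.card F ^ 12 - 1) * (Fintype.card F ^ 6 + Fintype.card F ^ 3 + 1) *
        (Fintype.card F ^ 4 + 1) := by
  classical
  set q := Fintype.card F with hqdef
  have hn : 71 < tabE6.n := by decide +kernel
  have hJ := chkJE6
  simp only [List.all_eq_true, decide_eq_true_eq] at hJ
  have key := index_centralizer_dvd certE6 (F := F) hn (J := {i | i ∈ [0, 2, 3, 4, 5]}) chkUE6
    fun j hj _ => hJ j hj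
  have hst := chkStabE6
  simp only [Bool.and_eq_true, List.all_eq_true, decide_eq_true_eq] at hst
  have hl : tabE6.l = 6 := by decide +kernel
  have hS : tabE6.stabWords radE6 (transversal levelsE6 tabE6.l) = stabE6 :=
    stabWords_eq certE6 chkLevelsE6 (k := 5) (by rw [hl]) (by rfl) hst.1
  have hP := certE6.card_parabolic (F := F) chkLevelsE6 (J := {i | i ∈ [0, 2, 3, 4, 5]}) radE6_iff
    (by rw [hS]; exact hst.2)
  rw [hS] at hP
  have hsum : (stabE6.map fun w => q ^ tabE6.negCount w).sum =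
      1 + 5*q + 14*q^2 + 29*q^3 + 49*q^4 + 71*q^5 + 90*q^6 + 101*q^7 + 101*q^8 + 90*q^9 + 71*q^10 +
        49*q^11 + 29*q^12 + 14*q^13 + 5*q^14 + q^15 := by
    have hp := List.Perm.sum_eq ((List.isPerm_iff.1 negStabE6).map (fun e => q ^ e))
    rw [List.map_map] at hp
    refine hp.trans ?_
    simp only [List.zipIdx_cons, List.zipIdx_nil, List.flatMap_cons, List.flatMap_nil, List.map_append,
      List.map_replicate, List.sum_append, List.sum_replicate, smul_eq_mul, List.map_nil, List.sum_nil]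
    ring
  rw [hsum] at hP
  have hle : chevE6.parabolicSubgroup F {i | i ∈ [0, 2, 3, 4, 5]} ≤ chevE6.group F :=
    certE6.parabolic_le_group _
  have hG := Subgroup.card_mul_index ((chevE6.parabolicSubgroup F {i | i ∈ [0, 2, 3, 4, 5]}).subgroupOf
    (chevE6.group F))
  rw [Nat.card_congr (Subgroup.subgroupOfEquivOfLe hle).toEquiv, hP,
    certE6.card_group chkLevelsE6] at hG
  set idx := ((chevE6.parabolicSubgroup F {i | i ∈ [0, 2, 3, 4, 5]}).subgroupOf (chevE6.group F)).index
  set S5 := 1 + 5*q + 14*q^2 + 29*q^3 + 49*q^4 + 71*q^5 + 90*q^6 + 101*q^7 + 101*q^8 + 90*q^9 + 71*q^10 +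
        49*q^11 + 29*q^12 + 14*q^13 + 5*q^14 + q^15 with hS5
  set H := Nat.card (chevE6.diagonalSubgroup F)
  have hH : 0 < H := Nat.card_pos
  have h1 : S5 * idx = (levelsE6.map fun v => v.gpoly q).prod := by
    refine Nat.eq_of_mul_eq_mul_left (Nat.mul_pos (Nat.pow_pos (n := tabE6.half) (show 0 < q from Fintype.card_pos)) hH) ?_
    rw [← mul_assoc]
    exact hG
  have h2 : (q - 1) * (levelsE6.map fun v => v.gpoly q).prod =
      S5 * ((q ^ 12 - 1) * (q ^ 6 + q ^ 3 + 1) * (q ^ 4 + 1)) := by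
    have hq : 1 ≤ q := Fintype.card_pos
    have h12 : 1 ≤ q ^ 12 := Nat.one_le_pow _ _ hq
    apply Nat.cast_injective (R := ℤ)
    simp only [levelsE6, levelE6_1, levelE6_2, levelE6_3, levelE6_4, levelE6_5, levelE6_6,
      Level.gpoly, List.map_cons, List.map_nil, List.prod_cons, List.prod_nil, List.sum_cons, List.sum_nil,
      hS5]
    push_cast [Nat.cast_sub hq, Nat.cast_sub h12]
    ring
  refine key.trans (dvd_of_eq ?_)
  refine Nat.eq_of_mul_eq_mul_left (show 0 < S5 by rw [hS5]; omega) ?_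
  rw [mul_left_comm, h1, h2]

end CfsgLib.EMinDeg
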