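import Cfsg.Agent.Lib.GTwoMinDeg.Proj

/-!
Weight projections of a family of one-parameter subgroups that commute on the range of an idempotent.
-/

set_option autoImplicit false
set_option linter.unusedSectionVars false

namespace CfsgLib.EMinDeg

open Module CfsgLib.GTwoMinDeg

variable {G : Type*} [Group G] {V : Type*} [AddCommGroup V] [Module ℂ V] [FiniteDimensional ℂ V]
variable {F : Type*} [Field F] [Fintype F] {S : Type*} [Fintype S] [DecidableEq S]

/-- The pairing. -/
def dot (φ t : S → F) : F := ∑ a, φ a * t a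

theorem dot_add (φ t u : S → F) : dot φ (t + u) = dot φ t + dot φ u := by
  simp only [dot, Pi.add_apply, mul_add, Finset.sum_add_distrib]

theorem dot_single (φ : S → F) (a : S) (s : F) : dot φ (Pi.single a s) = φ a * s := by
  rw [dot, Finset.sum_eq_single a]
  · rw [Pi.single_eq_same]
  · exact fun b _ hb => by rw [Pi.single_eq_of_ne hb, mul_zero]
  · exact fun h => absurd (Finset.mem_univ a) h

/-- A family of one-parameter subgroups commuting on the range of an idempotent. -/
structure Rad (ρ : Representation ℂ G V) (S : Type*) (F : Type*) [Field F] where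
  x : S → AddChar F G
  E : Module.End ℂ V
  idem : IsIdempotentElem E
  fixes : ∀ a t, Commute (ρ (x a t)) E
  swap : ∀ a b t u, ρ (x a t) * (ρ (x b u) * E) = ρ (x b u) * (ρ (x a t) * E)

namespace Rad

variable {ρ : Representation ℂ G V} (R : Rad ρ S F) (ψ : AddChar F ℂ)

/-- The action on the range, extended by the identity. -/
noncomputable def act (a : S) : Multiplicative F →* Module.End ℂ V where
  toFun t := ρ (R.x a t.toAdd) * R.E + (1 - R.E)
  map_one' := by
    rw [toAdd_one, AddChar.map_zero_eq_one, map_one, one_mul]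
    abel
  map_mul' t u := by
    rw [toAdd_mul, AddChar.map_add_eq_mul, map_mul]
    have e := R.idem.eq
    have h1 := (R.fixes a t.toAdd).eq
    have h2 := (R.fixes a u.toAdd).eq
    set A := ρ (R.x a t.toAdd)
    set B := ρ (R.x a u.toAdd)
    set E := R.E
    have h3 : A * E * (B * E) = A * B * E := by
      rw [mul_assoc A E, ← mul_assoc E B, ← h2, mul_assoc B, e, ← mul_assoc]
    have h4 : (1 - E) * (B * E) = 0 := by
      rw [sub_mul, one_mul, ← mul_assoc E B, ← h2, mul_assoc B, e, sub_self]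
    have h5 : A * E * (1 - E) = 0 := by rw [mul_sub, mul_one, mul_assoc, e, sub_self]
    have h6 : (1 - E) * (1 - E) = 1 - E := by rw [mul_sub, mul_one, sub_mul, one_mul, e, sub_self, sub_zero]
    simp only [add_mul, mul_add, h3, h4, h5, h6, add_zero, zero_add]

theorem act_mul_E (a : S) (t : Multiplicative F) : R.act a t * R.E = ρ (R.x a t.toAdd) * R.E := by
  show (ρ (R.x a t.toAdd) * R.E + (1 - R.E)) * R.E = _
  rw [add_mul, mul_assoc, R.idem.eq, sub_mul, one_mul, R.idem.eq, sub_self, add_zero]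

theorem act_comm (a b : S) (t u : Multiplicative F) : Commute (R.act a t) (R.act b u) := by
  have e := R.idem.eq
  have h1 := (R.fixes a t.toAdd).eq
  have h2 := (R.fixes b u.toAdd).eq
  have hs := R.swap a b t.toAdd u.toAdd
  show (ρ (R.x a t.toAdd) * R.E + (1 - R.E)) * (ρ (R.x b u.toAdd) * R.E + (1 - R.E)) =
    (ρ (R.x b u.toAdd) * R.E + (1 - R.E)) * (ρ (R.x a t.toAdd) * R.E + (1 - R.E))
  set A := ρ (R.x a t.toAdd)
  set B := ρ (R.x b u.toAdd)
  set E := R.E
  have k : ∀ X : Module.End ℂ V, X * E = E * X → (1 - E) * (X * E) = 0 ∧ X * E * (1 - E) = 0 :=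
    fun X hX => ⟨by rw [sub_mul, one_mul, ← mul_assoc E, ← hX, mul_assoc, e, sub_self],
      by rw [mul_sub, mul_one, mul_assoc, e, sub_self]⟩
  simp only [add_mul, mul_add, (k A h1).1, (k A h1).2, (k B h2).1, (k B h2).2, add_zero, zero_add]
  congr 1
  calc A * E * (B * E) = A * (B * E) := by
        rw [mul_assoc A E, ← mul_assoc E B, ← h2, mul_assoc B, e]
    _ = B * (A * E) := hs
    _ = B * E * (A * E) := by rw [mul_assoc B E, ← mul_assoc E A, ← h1, mul_assoc A, e]

/-- The multiplicative action of the whole family. -/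
noncomputable def yHom : (S → Multiplicative F) →* Module.End ℂ V :=
  MonoidHom.noncommPiCoprod R.act (fun a b _ t u => R.act_comm a b t u)

/-- The additive action of the whole family. -/
noncomputable def y : AddChar (S → F) (Module.End ℂ V) where
  toFun t := R.yHom fun a => Multiplicative.ofAdd (t a)
  map_zero_eq_one' := map_one R.yHom
  map_add_eq_mul' t u := map_mul R.yHom (fun a => Multiplicative.ofAdd (t a)) fun a => Multiplicative.ofAdd (u a)

theorem y_single (a : S) (s : F) : R.y (Pi.single a s) = R.act a (Multiplicative.ofAdd s) := by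
  show R.yHom (fun b => Multiplicative.ofAdd ((Pi.single a s : S → F) b)) = _
  rw [show (fun b => Multiplicative.ofAdd ((Pi.single a s : S → F) b)) =
      Pi.mulSingle a (Multiplicative.ofAdd s) from funext fun b => by
    by_cases hb : b = a
    · subst hb; simp
    · simp [hb]]
  exact MonoidHom.noncommPiCoprod_mulSingle (ϕ := R.act) _ _

theorem y_commute (t : S → F) : Commute (R.y t) R.E := by
  suffices h : ∀ t : S → Multiplicative F, Commute (R.yHom t) R.E from h _
  intro t
  simp only [yHom, MonoidHom.noncommPiCoprod, MonoidHom.coe_mk, OneHom.coe_mk]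
  refine (Finset.noncommProd_commute _ _ _ _ fun a _ => ?_).symm
  refine Commute.symm ?_
  show Commute (ρ (R.x a (t a).toAdd) * R.E + (1 - R.E)) R.E
  exact ((R.fixes a _).mul_left (Commute.refl _)).add_left
    ((Commute.one_left _).sub_left (Commute.refl _))

/-- The weight projection. -/
noncomputable def Q (φ : S → F) : Module.End ℂ V :=
  ((Fintype.card (S → F) : ℂ)⁻¹ • ∑ t, ψ (-dot φ t) • R.y t) * R.E

theorem E_mul_Q (φ : S → F) : R.E * R.Q ψ φ = R.Q ψ φ := by
  have h : Commute ((Fintype.card (S → F) : ℂ)⁻¹ • ∑ t, ψ (-dot φ t) • R.y t) R.E :=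
    Commute.smul_left (Commute.sum_left _ _ _ fun t _ => Commute.smul_left (R.y_commute t) _) _
  rw [Q, ← mul_assoc, ← h.eq, mul_assoc, R.idem.eq]

theorem Q_mul_E (φ : S → F) : R.Q ψ φ * R.E = R.Q ψ φ := by rw [Q, mul_assoc, R.idem.eq]

theorem y_mul_Q (φ u : S → F) : R.y u * R.Q ψ φ = ψ (dot φ u) • R.Q ψ φ := by
  rw [Q, ← mul_assoc, mul_smul_comm, ← smul_mul_assoc (ψ (dot φ u)), smul_comm (ψ (dot φ u))]
  congr 1
  congr 1
  rw [Finset.mul_sum, Finset.smul_sum]
  refine Fintype.sum_equiv (Equiv.addLeft u) _ _ fun t => ?_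
  rw [mul_smul_comm, ← AddChar.map_add_eq_mul, smul_smul, Equiv.coe_addLeft, ← AddChar.map_add_eq_mul]
  congr 2
  rw [dot_add]
  ring

theorem Q_commute_y (φ u : S → F) : Commute (R.y u) (R.Q ψ φ) := by
  refine Commute.mul_right (Commute.smul_right (Commute.sum_right _ _ _ fun t _ => ?_) _)
    (R.y_commute u)
  refine Commute.smul_right ?_ _
  show R.y u * R.y t = R.y t * R.y u
  rw [← AddChar.map_add_eq_mul, ← AddChar.map_add_eq_mul, add_comm]

theorem rho_mul_Q (φ : S → F) (a : S) (s : F) : ρ (R.x a s) * R.Q ψ φ = ψ (φ a * s) • R.Q ψ φ := by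
  conv_lhs => rw [← R.E_mul_Q ψ φ, ← mul_assoc]
  rw [show ρ (R.x a s) * R.E = R.y (Pi.single a s) * R.E by rw [R.y_single, R.act_mul_E]; rfl,
    mul_assoc, R.E_mul_Q, R.y_mul_Q, dot_single]

theorem rho_commute_Q (φ : S → F) (a : S) (s : F) : Commute (ρ (R.x a s)) (R.Q ψ φ) := by
  show ρ (R.x a s) * R.Q ψ φ = R.Q ψ φ * ρ (R.x a s)
  have h1 : R.Q ψ φ * ρ (R.x a s) = R.Q ψ φ * R.y (Pi.single a s) := by
    conv_lhs => rw [← R.Q_mul_E ψ φ, mul_assoc, ← (R.fixes a s).eq]
    rw [show ρ (R.x a s) * R.E = R.y (Pi.single a s) * R.E by rw [R.y_single, R.act_mul_E]; rfl,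
      (R.y_commute _).eq, ← mul_assoc, R.Q_mul_E]
  rw [h1, ← (R.Q_commute_y ψ φ _).eq, R.y_mul_Q, dot_single, R.rho_mul_Q]

variable {ψ} (hψ : ψ.IsPrimitive)
include hψ

omit hψ in
theorem dot_eq_iff {φ χ : S → F} : (∀ a s, φ a * s = χ a * s) ↔ φ = χ :=
  ⟨fun h => funext fun a => by simpa using h a 1, fun h => by simp [h]⟩

/-- A projection fixes exactly the operators with its weight. -/
theorem Q_mul_of_eig {φ χ : S → F} {X : Module.End ℂ V} (hE : R.E * X = X)
    (h : ∀ a s, ρ (R.x a s) * X = ψ (χ a * s) • X) [Decidable (φ = χ)] :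
    R.Q ψ φ * X = if φ = χ then X else 0 := by
  classical
  have hy : ∀ t : S → F, R.y t * X = ψ (dot χ t) • X := by
    intro t
    have key : ∀ l : Finset S, ∀ u : S → F, (∀ a ∉ l, u a = 0) → R.y u * X = ψ (dot χ u) • X := by
      intro l
      induction l using Finset.induction_on with
      | empty =>
        intro u hu
        obtain rfl : u = 0 := funext fun a => hu a (Finset.notMem_empty a)
        simp [dot, AddChar.map_zero_eq_one]
      | insert a l ha ih =>
        intro u hu
        have e : u = Pi.single a (u a) + Function.update u a 0 := funext fun b => by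
          by_cases hb : b = a
          · subst hb; simp
          · simp [hb]
        rw [e, AddChar.map_add_eq_mul, mul_assoc, ih (Function.update u a 0) fun b hb => by
          by_cases hba : b = a
          · subst hba; simp
          · rw [Function.update_of_ne hba]; exact hu b (by simp [hba, hb]), mul_smul_comm]
        conv_lhs => rw [← hE, ← mul_assoc, R.y_single, R.act_mul_E, mul_assoc, hE, toAdd_ofAdd, h,
          smul_smul, ← AddChar.map_add_eq_mul]
        congr 2
        rw [dot_add, dot_single, add_comm]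
    exact key Finset.univ t fun a ha => absurd (Finset.mem_univ a) ha
  rw [Q, mul_assoc, hE, smul_mul_assoc, Finset.sum_mul]
  rw [Finset.sum_congr rfl fun t _ => show (ψ (-dot φ t) • R.y t) * X = ψ (dot (χ - φ) t) • X by
    rw [smul_mul_assoc, hy, smul_smul, ← AddChar.map_add_eq_mul]
    congr 2
    simp only [dot, Pi.sub_apply, sub_mul, Finset.sum_sub_distrib]
    ring, ← Finset.sum_smul, smul_smul]
  let T : AddChar (S → F) ℂ :=
    { toFun := fun t => ψ (dot (χ - φ) t)
      map_zero_eq_one' := by simp [dot, AddChar.map_zero_eq_one]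
      map_add_eq_mul' := fun t u => by rw [dot_add, AddChar.map_add_eq_mul] }
  rw [show ∑ t, ψ (dot (χ - φ) t) = ∑ t, T t from rfl]
  by_cases he : φ = χ
  · rw [if_pos he]
    subst he
    rw [show ∑ t, T t = (Fintype.card (S → F) : ℂ) by
      simp [T, dot, AddChar.map_zero_eq_one], inv_mul_cancel₀, one_smul]
    exact Nat.cast_ne_zero.mpr Fintype.card_ne_zero
  · rw [if_neg he]
    have hT : T ≠ 0 := by
      intro hT
      obtain ⟨a, ha⟩ : ∃ a, χ a - φ a ≠ 0 := by
        by_contra hc
        push Not at hc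
        exact he (funext fun a => (sub_eq_zero.1 (hc a)).symm)
      refine hψ ha (DFunLike.ext _ _ fun s => ?_)
      have := DFunLike.congr_fun hT (Pi.single a s)
      simpa [T, dot_single, AddChar.mulShift_apply] using this
    rw [AddChar.sum_eq_zero_iff_ne_zero.2 hT, mul_zero, zero_smul]

theorem idem_Q (φ : S → F) : IsIdempotentElem (R.Q ψ φ) := by
  classical
  rw [IsIdempotentElem, R.Q_mul_of_eig hψ (R.E_mul_Q ψ φ) (R.rho_mul_Q ψ φ), if_pos rfl]

theorem Q_orth {φ χ : S → F} (h : φ ≠ χ) : R.Q ψ φ * R.Q ψ χ = 0 := by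
  classical
  rw [R.Q_mul_of_eig hψ (R.E_mul_Q ψ χ) (R.rho_mul_Q ψ χ), if_neg h]

theorem sum_Q : ∑ φ, R.Q ψ φ = R.E := by
  classical
  simp only [Q]
  rw [← Finset.sum_mul, ← Finset.smul_sum, Finset.sum_comm]
  simp only [← Finset.sum_smul]
  rw [Finset.sum_eq_single (0 : S → F)]
  · simp only [dot, Pi.zero_apply, mul_zero, Finset.sum_const_zero, neg_zero, AddChar.map_zero_eq_one,
      Finset.sum_const, Finset.card_univ, nsmul_eq_mul, mul_one]
    rw [smul_smul, inv_mul_cancel₀ (Nat.cast_ne_zero.mpr Fintype.card_ne_zero), one_smul, one_mul]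
  · intro t _ ht
    obtain ⟨a, ha⟩ : ∃ a, t a ≠ 0 := by
      by_contra hc
      push Not at hc
      exact ht (funext hc)
    let T : AddChar (S → F) ℂ :=
      { toFun := fun φ => ψ (-dot φ t)
        map_zero_eq_one' := by simp [dot, AddChar.map_zero_eq_one]
        map_add_eq_mul' := fun φ χ => by
          rw [← AddChar.map_add_eq_mul]
          congr 1
          simp only [dot, Pi.add_apply, add_mul, Finset.sum_add_distrib]
          ring }
    have hT : T ≠ 0 := by
      intro hT
      refine hψ (neg_ne_zero.2 ha) (DFunLike.ext _ _ fun s => ?_)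
      have h1 : dot (Pi.single a s) t = s * t a := by
        rw [dot, Finset.sum_eq_single a]
        · rw [Pi.single_eq_same]
        · exact fun b _ hb => by rw [Pi.single_eq_of_ne hb, zero_mul]
        · exact fun h => absurd (Finset.mem_univ a) h
      have := DFunLike.congr_fun hT (Pi.single a s)
      simpa [T, h1, AddChar.mulShift_apply, mul_comm] using this
    rw [show ∑ φ : S → F, ψ (-dot φ t) = ∑ φ, T φ from rfl, AddChar.sum_eq_zero_iff_ne_zero.2 hT,
      zero_smul]
  · exact fun h => absurd (Finset.mem_univ _) h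

/-- An element permuting the weights permutes the projections. -/
theorem cj_Q {g : G} (hg : Commute (ρ g) R.E) {Φ : (S → F) → (S → F)} (hΦ : Function.Injective Φ)
    (h : ∀ φ b u, ρ (g⁻¹ * R.x b u * g) * R.Q ψ φ = ψ (Φ φ b * u) • R.Q ψ φ) (φ : S → F) :
    cj ρ g (R.Q ψ φ) = R.Q ψ (Φ φ) := by
  classical
  have hgE : cj ρ g R.E = R.E := cj_of_commute ρ hg
  have hX : ∀ φ, R.Q ψ (Φ φ) * cj ρ g (R.Q ψ φ) = cj ρ g (R.Q ψ φ) := by
    intro φ
    rw [R.Q_mul_of_eig hψ (χ := Φ φ) (by conv_lhs => rw [← hgE, ← cj_mul, R.E_mul_Q])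
      (fun b u => ?_), if_pos rfl]
    rw [show ρ (R.x b u) = cj ρ g (ρ (g⁻¹ * R.x b u * g)) by rw [cj_rho]; group, ← cj_mul, h, cj_smul]
  conv_rhs => rw [← R.Q_mul_E ψ (Φ φ), ← hgE, ← R.sum_Q hψ, cj_sum, Finset.mul_sum]
  rw [Finset.sum_eq_single φ, hX]
  · intro χ _ hne
    rw [← hX χ, ← mul_assoc, R.Q_orth hψ (fun e => hne (hΦ e).symm), zero_mul]
  · exact fun h => absurd (Finset.mem_univ _) h

/-- The projection of one of the subgroups collects the weights with that coordinate. -/
theorem proj_mul (a : S) (c : F) [DecidableEq F] :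
    proj ρ ψ (R.x a) c * R.E = ∑ φ ∈ Finset.univ.filter (fun φ : S → F => φ a = c), R.Q ψ φ := by
  classical
  rw [← R.sum_Q hψ, Finset.mul_sum, Finset.sum_filter]
  refine Finset.sum_congr rfl fun φ _ => ?_
  rw [proj_mul_of_eig ρ ψ hψ (fun s => R.rho_mul_Q ψ φ a s)]
  by_cases e : φ a = c
  · rw [if_pos e.symm, if_pos e]
  · rw [if_neg (Ne.symm e), if_neg e]

theorem dm_E : dm R.E = ∑ φ, dm (R.Q ψ φ) :=
  dm_sum _ R.idem (fun φ _ => R.idem_Q hψ φ) (R.sum_Q hψ)

theorem dm_proj_mul (a : S) (c : F) [DecidableEq F] :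
    dm (proj ρ ψ (R.x a) c * R.E) =
      ∑ φ ∈ Finset.univ.filter (fun φ : S → F => φ a = c), dm (R.Q ψ φ) := by
  refine dm_sum _ ?_ (fun φ _ => R.idem_Q hψ φ) (R.proj_mul hψ a c).symm
  exact (isIdempotentElem_proj ρ ψ hψ _ c).mul_of_commute
    (commute_proj_left ρ ψ (fun t => R.fixes a t) c) R.idem

end Rad

end CfsgLib.EMinDeg
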