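import Cfsg.Agent.Lib.EMinDeg.Big
import Cfsg.Agent.Lib.Chev.All

/-!
The chain of radicals of E6 (generated).
-/

set_option autoImplicit false

namespace CfsgLib.EMinDeg

/-- A level. -/
def levE60 : LevData where
  K := []
  psi := [56, 57, 58, 59, 60, 61, 62, 63, 64, 65, 66, 67, 68, 69, 70, 71]
  J := [0, 1, 2, 3, 4, 5]
  St := [0, 1, 2, 3, 4, 5, 6, 7, 8, 9, 10, 11, 12, 13, 14, 15, 16, 17, 18, 19, 20, 21, 22, 23, 24, 25, 26, 27, 28, 29, 30, 31, 32, 33, 34, 35, 36, 37, 38, 39, 40, 41, 42, 43, 44, 45, 46, 47, 48, 49, 50, 51, 52, 53, 54, 55, 56, 57, 58, 59, 60, 61, 62, 63, 64, 65, 66, 67, 68, 69, 70, 71]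
  z := 71
  v := [0, 1, 0, 0, 0, 0]
  cells := [
    (56, [1, 3, 2, 4, 3, 1, 5, 4, 3, 2], []),
    (57, [1, 3, 2, 4, 3, 1, 5, 4, 3], [(42, 56)]),
    (58, [1, 3, 2, 4, 3, 1, 5, 4], [(39, 57), (43, 56)]),
    (59, [1, 3, 2, 4, 3, 1, 5], [(37, 58), (40, 57), (44, 56)]),
    (60, [1, 3, 2, 4, 3, 1], [(36, 59), (38, 58), (41, 57), (45, 56)]),
    (61, [1, 3, 2, 4, 3, 5, 4], [(46, 58), (47, 57), (50, 56)]),
    (62, [1, 3, 2, 4, 3, 5], [(37, 61), (46, 59), (48, 57), (51, 56)]),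
    (63, [1, 3, 2, 4, 3], [(36, 62), (38, 61), (46, 60), (49, 57), (52, 56)]),
    (64, [1, 3, 2, 4, 5], [(39, 62), (40, 61), (47, 59), (48, 58), (53, 56)]),
    (65, [1, 3, 2, 4], [(36, 64), (39, 63), (41, 61), (47, 60), (49, 58), (54, 56)]),
    (66, [1, 3, 2], [(37, 65), (38, 64), (40, 63), (41, 62), (48, 60), (49, 59), (55, 56)]),
    (67, [1, 3, 4, 5], [(42, 64), (43, 62), (44, 61), (50, 59), (51, 58), (53, 57)]),
    (68, [1, 3, 4], [(36, 67), (42, 65), (43, 63), (45, 61), (50, 60), (52, 58), (54, 57)]),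
    (69, [1, 3], [(37, 68), (38, 67), (42, 66), (44, 63), (45, 62), (51, 60), (52, 59), (55, 57)]),
    (70, [1], [(39, 69), (40, 68), (41, 67), (43, 66), (44, 65), (45, 64), (53, 60), (54, 59), (55, 58)]),
    (71, [], [(46, 70), (47, 69), (48, 68), (49, 67), (50, 66), (51, 65), (52, 64), (53, 63), (54, 62), (55, 61)])]
  psi2 := [56, 57, 58, 59, 60]

/-- The first bound of a level. -/
def bigE60 : BigData where
  b0 := 60
  words := [(56, [5, 4, 3, 2]), (57, [5, 4, 3]), (58, [5, 4]), (59, [5]), (60, [])]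
  v1 := [0, 1, 0, 0, 0, 1]
  v2 := [0, 0, 0, 0, 0, 1]
  es1 := [(46, 70), (47, 69), (48, 68), (49, 67), (50, 66), (51, 65), (52, 64), (53, 63), (54, 62), (55, 61)]
  es2 := [(36, 59), (38, 58), (41, 57), (45, 56)]

/-- A descent. -/
def stepE60 : StepData where
  g := 55
  wg := [1, 3, 2, 0]
  St' := [16, 17, 18, 19, 20, 21, 22, 23, 24, 25, 26, 27, 28, 29, 30, 31, 32, 33, 34, 35, 36, 37, 38, 39, 40, 41, 42, 43, 44, 45, 46, 47, 48, 49, 50, 51, 52, 53, 54, 55]
  J' := [1, 2, 3, 4, 5]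
  cert := [
    (56, some (37, 54), []),
    (57, some (37, 54), []),
    (58, some (37, 54), []),
    (59, some (38, 53), []),
    (60, some (37, 54), []),
    (61, some (37, 54), []),
    (62, some (38, 53), []),
    (63, some (37, 54), []),
    (64, some (37, 54), []),
    (65, some (38, 53), []),
    (67, some (37, 54), []),
    (68, some (38, 53), [])]

/-- A level. -/
def levE61 : LevData where
  K := levE60.K ++ levE60.psi
  psi := [36, 38, 41, 45, 49, 52, 54, 55]
  J := [1, 2, 3, 4, 5]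
  St := [16, 17, 18, 19, 20, 21, 22, 23, 24, 25, 26, 27, 28, 29, 30, 31, 32, 33, 34, 35, 36, 37, 38, 39, 40, 41, 42, 43, 44, 45, 46, 47, 48, 49, 50, 51, 52, 53, 54, 55]
  z := 55
  v := [0, 0, 0, 0, 1, 0]
  cells := [
    (36, [4, 3, 1, 2, 3, 4], []),
    (38, [4, 3, 1, 2, 3], [(37, 36)]),
    (41, [4, 3, 1, 2], [(39, 38), (40, 36)]),
    (45, [4, 3, 1], [(42, 41), (43, 38), (44, 36)]),
    (49, [4, 3, 2], [(46, 41), (47, 38), (48, 36)]),
    (52, [4, 3], [(42, 49), (46, 45), (50, 38), (51, 36)]),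
    (54, [4], [(39, 52), (43, 49), (47, 45), (50, 41), (53, 36)]),
    (55, [], [(37, 54), (40, 52), (44, 49), (48, 45), (51, 41), (53, 38)])]
  psi2 := [36]

/-- The first bound of a level. -/
def bigE61 : BigData where
  b0 := 36
  words := [(36, [])]
  v1 := [-1, 0, 0, 0, 0, 0]
  v2 := [-1, 0, 0, 0, -1, 0]
  es1 := [(37, 54), (40, 52), (44, 49), (48, 45), (51, 41), (53, 38)]
  es2 := []

/-- A descent. -/
def stepE61 : StepData where
  g := 53
  wg := [4, 5]
  St' := [18, 20, 21, 23, 24, 25, 27, 28, 29, 31, 32, 34, 37, 39, 40, 42, 43, 44, 46, 47, 48, 50, 51, 53]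
  J' := [1, 2, 3, 4]
  cert := [
    (36, some (39, 51), []),
    (38, some (39, 51), []),
    (41, some (43, 48), []),
    (45, some (39, 51), []),
    (49, some (39, 51), []),
    (52, some (43, 48), [])]

/-- A level. -/
def levE62 : LevData where
  K := levE61.K ++ levE61.psi
  psi := [46, 47, 48, 50, 51, 53]
  J := [1, 2, 3, 4]
  St := [18, 20, 21, 23, 24, 25, 27, 28, 29, 31, 32, 34, 37, 39, 40, 42, 43, 44, 46, 47, 48, 50, 51, 53]
  z := 53
  v := [0, 0, 0, 0, 0, -1]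
  cells := [
    (46, [3, 2, 4, 3], []),
    (47, [3, 2, 4], [(39, 46)]),
    (48, [3, 2], [(37, 47), (40, 46)]),
    (50, [3, 4], [(42, 47), (43, 46)]),
    (51, [3], [(37, 50), (42, 48), (44, 46)]),
    (53, [], [(39, 51), (40, 50), (43, 48), (44, 47)])]
  psi2 := [46]

/-- The first bound of a level. -/
def bigE62 : BigData where
  b0 := 46
  words := [(46, [])]
  v1 := [0, 0, 0, 0, 0, -1]
  v2 := [0, 0, 0, -1, 0, -1]
  es1 := [(39, 51), (40, 50), (43, 48), (44, 47)]
  es2 := []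

/-- A descent. -/
def stepE62 : StepData where
  g := 44
  wg := [3, 1]
  St' := [27, 28, 29, 31, 32, 34, 37, 39, 40, 42, 43, 44]
  J' := [2, 3, 4]
  cert := [
    (46, some (37, 43), []),
    (47, some (37, 43), []),
    (48, none, [1, 0, 0, 0, 0, 0]),
    (50, none, [0, 0, 0, 0, 0, 1])]

/-- A level. -/
def levE63 : LevData where
  K := levE62.K ++ levE62.psi
  psi := [42, 43, 44]
  J := [2, 3, 4]
  St := [27, 28, 29, 31, 32, 34, 37, 39, 40, 42, 43, 44]
  z := 44
  v := [0, 0, 0, 0, 0, -1]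
  cells := [
    (42, [4, 3], []),
    (43, [4], [(39, 42)]),
    (44, [], [(37, 43), (40, 42)])]
  psi2 := []

/-- A descent. -/
def stepE63 : StepData where
  g := 40
  wg := [2]
  St' := [31, 32, 34, 37, 39, 40]
  J' := [3, 4]
  cert := [
    (42, some (37, 39), []),
    (43, none, [0, 0, 0, 0, 0, 1])]

/-- A level. -/
def levE64 : LevData where
  K := levE63.K ++ levE63.psi
  psi := [39, 40]
  J := [3, 4]
  St := [31, 32, 34, 37, 39, 40]
  z := 40
  v := [0, 0, 0, 0, 0, -1]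
  cells := [
    (39, [4], []),
    (40, [], [(37, 39)])]
  psi2 := []

/-- A descent. -/
def stepE64 : StepData where
  g := 37
  wg := [3]
  St' := [34, 37]
  J' := [4]
  cert := [
    (39, none, [0, 0, 0, 0, 0, 1])]

/-- A level. -/
def levE65 : LevData where
  K := levE64.K ++ levE64.psi
  psi := [37]
  J := [4]
  St := [34, 37]
  z := 37
  v := [0, 0, 0, 0, 0, -1]
  cells := [
    (37, [], [])]
  psi2 := []

/-- The second level for two elements. -/
def levTwoE6 : LevData where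
  K := levE60.K ++ levE60.psi
  psi := [46, 47, 48, 49, 50, 51, 52, 53, 54, 55]
  J := [1, 2, 3, 4, 5]
  St := [16, 17, 18, 19, 20, 21, 22, 23, 24, 25, 26, 27, 28, 29, 30, 31, 32, 33, 34, 35, 36, 37, 38, 39, 40, 41, 42, 43, 44, 45, 46, 47, 48, 49, 50, 51, 52, 53, 54, 55]
  z := 55
  v := [0, 0, 0, 0, 1, 0]
  cells := [
    (46, [4, 3, 2, 5, 4, 3], []),
    (47, [4, 3, 2, 5, 4], [(39, 46)]),
    (48, [4, 3, 2, 5], [(37, 47), (40, 46)]),
    (49, [4, 3, 2], [(36, 48), (38, 47), (41, 46)]),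
    (50, [4, 3, 5, 4], [(42, 47), (43, 46)]),
    (51, [4, 3, 5], [(37, 50), (42, 48), (44, 46)]),
    (52, [4, 3], [(36, 51), (38, 50), (42, 49), (45, 46)]),
    (53, [4, 5], [(39, 51), (40, 50), (43, 48), (44, 47)]),
    (54, [4], [(36, 53), (39, 52), (41, 50), (43, 49), (45, 47)]),
    (55, [], [(37, 54), (38, 53), (40, 52), (41, 51), (44, 49), (45, 48)])]
  psi2 := [46, 47, 50]
/-- Its bound. -/
def bigTwoE6 : BigData where
  b0 := 50
  words := [(46, [2, 3]), (47, [2]), (50, [])]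
  v1 := [0, 0, 1, 0, 1, 0]
  v2 := [0, 0, 1, 0, 0, 0]
  es1 := [(37, 54), (38, 53), (40, 52), (41, 51), (44, 49), (45, 48)]
  es2 := [(42, 47), (43, 46)]

theorem chkLevE60 : levE60.chk CfsgLib.Chev.tabE6 = true := by decide +kernel

theorem chkLevE61 : levE61.chk CfsgLib.Chev.tabE6 = true := by decide +kernel

theorem chkLevE62 : levE62.chk CfsgLib.Chev.tabE6 = true := by decide +kernel

theorem chkLevE63 : levE63.chk CfsgLib.Chev.tabE6 = true := by decide +kernel

theorem chkLevE64 : levE64.chk CfsgLib.Chev.tabE6 = true := by decide +kernel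

theorem chkLevE65 : levE65.chk CfsgLib.Chev.tabE6 = true := by decide +kernel

theorem chkBigE60 : bigE60.chk CfsgLib.Chev.tabE6 levE60 = true := by decide +kernel

theorem chkBigE61 : bigE61.chk CfsgLib.Chev.tabE6 levE61 = true := by decide +kernel

theorem chkBigE62 : bigE62.chk CfsgLib.Chev.tabE6 levE62 = true := by decide +kernel

theorem chkStepE60 : stepE60.chk CfsgLib.Chev.tabE6 levE60 = true := by decide +kernel

theorem chkStepE61 : stepE61.chk CfsgLib.Chev.tabE6 levE61 = true := by decide +kernel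

theorem chkStepE62 : stepE62.chk CfsgLib.Chev.tabE6 levE62 = true := by decide +kernel

theorem chkStepE63 : stepE63.chk CfsgLib.Chev.tabE6 levE63 = true := by decide +kernel

theorem chkStepE64 : stepE64.chk CfsgLib.Chev.tabE6 levE64 = true := by decide +kernel

theorem chkLevTwoE6 : levTwoE6.chk CfsgLib.Chev.tabE6 = true := by decide +kernel

theorem chkBigTwoE6 : bigTwoE6.chk CfsgLib.Chev.tabE6 levTwoE6 = true := by decide +kernel

end CfsgLib.EMinDeg
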