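import Cfsg.Agent.Lib.EMinDeg.Step

/-!
The nontrivial central characters of a Heisenberg radical.
-/

set_option autoImplicit false
set_option linter.unusedSectionVars false

namespace CfsgLib.EMinDeg

open Module Cfsg.Lie CfsgLib.Chev CfsgLib.GTwoMinDeg

/-- The data: the centre, a commuting half of the radical with the opposite roots, a root acting on the
half with a decomposition into two such roots. -/
structure HeisData where
  z : ℕ
  psi : List ℕ
  opp : List (ℕ × ℕ)
  g : ℕ
  α : ℕ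
  β : ℕ

/-- The coordinates whose values the root uses. -/
noncomputable def srcs (T : Tab) (psi : List ℕ) (g : ℕ) : List ℕ :=
  psi.filter fun k => psi.any fun b => match tgt T psi g b with
    | some kc => decide (kc.1 = k)
    | none => false

/-- The check of one opposite root. -/
noncomputable def HeisData.chkOpp (T : Tab) (d : HeisData) (b r : ℕ) : Bool :=
  decide (r < T.n) && decide (r ≠ b) && decide (r ≠ T.neg b) && decide (b ≠ T.neg r) &&
  chkTerms T [] r d.z &&
  (match T.commTerms r b with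
    | [(k, c, 1, 1)] => decide (k = d.z) && decide (c * c = 1)
    | _ => false) &&
  (d.psi.all fun b' => decide (b' = b) || chkTerms T [] r b') &&
  (decide (b ∈ srcs T d.psi d.g) || chkTerms T [] r d.g)

/-- The check of the data. -/
noncomputable def HeisData.chk (T : Tab) (d : HeisData) : Bool :=
  decide (d.z < T.n) && decide (d.g < T.n) && decide (d.α < T.n) && decide (d.β < T.n) &&
  decide d.psi.Nodup && chkRad T [] d.psi && (d.psi.all fun b => chkTerms T [] b d.z) &&
  (d.psi.all fun b => d.opp.any fun p => decide (p.1 = b) && d.chkOpp T b p.2) &&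
  chkTerms T [] d.g d.z && chkTerms T [] d.α d.z && chkTerms T [] d.β d.z &&
  chkMove T [] d.psi d.g && chkMove T [] d.psi d.α && chkMove T [] d.psi d.β &&
  (d.psi.all fun b => match tgt T d.psi d.g b with
    | some kc => decide (kc.2 * kc.2 = 1)
    | none => true) &&
  decide (d.β ≠ d.α) && decide (d.β ≠ T.neg d.α) &&
  match T.commTerms d.α d.β with
  | [(k, c, 1, 1)] => decide (k = d.g) && decide (c * c = 1)
  | _ => false

variable {D : ChevalleyDatum} {T : Tab} {C : Tab.Cover} (h : Cert D T C)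
variable {F : Type*} [Field F] [Fintype F] [DecidableEq F]
variable {V : Type*} [AddCommGroup V] [Module ℂ V] [FiniteDimensional ℂ V]
variable {ρ : Representation ℂ (Gp D F) V} {d : HeisData} {ψ : AddChar F ℂ}
  (hd : d.chk T = true) (hψ : ψ.IsPrimitive)

include hd in
theorem HeisData.spec :
    d.z < T.n ∧ d.g < T.n ∧ d.α < T.n ∧ d.β < T.n ∧ d.psi.Nodup ∧ chkRad T [] d.psi = true ∧
    (∀ b ∈ d.psi, b < T.n ∧ chkTerms T [] b d.z = true) ∧
    (∀ b ∈ d.psi, ∃ p ∈ d.opp, p.1 = b ∧ d.chkOpp T b p.2 = true) ∧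
    chkTerms T [] d.g d.z = true ∧ chkTerms T [] d.α d.z = true ∧ chkTerms T [] d.β d.z = true ∧
    chkMove T [] d.psi d.g = true ∧ chkMove T [] d.psi d.α = true ∧ chkMove T [] d.psi d.β = true ∧
    (∀ b ∈ d.psi, ∀ k c, tgt T d.psi d.g b = some (k, c) → c * c = 1) ∧
    d.β ≠ d.α ∧ d.β ≠ T.neg d.α ∧ ∃ c : ℤ, T.commTerms d.α d.β = [(d.g, c, 1, 1)] ∧ c * c = 1 := by
  simp only [HeisData.chk, Bool.and_eq_true, decide_eq_true_eq, List.all_eq_true, List.any_eq_true] at hd
  obtain ⟨⟨⟨⟨⟨⟨⟨⟨⟨⟨⟨⟨⟨⟨⟨⟨⟨h1, h2⟩, h3⟩, h4⟩, h5⟩, h6⟩, h7⟩, h8⟩, h9⟩, h10⟩, h11⟩, h12⟩, h13⟩, h14⟩, h15⟩,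
    h16⟩, h17⟩, h18⟩ := hd
  have h6' := h6
  simp only [chkRad, Bool.and_eq_true, decide_eq_true_eq, List.all_eq_true] at h6'
  refine ⟨h1, h2, h3, h4, h5, h6, fun b hb => ⟨(h6' b hb).1, h7 b hb⟩, h8, h9, h10, h11, h12, h13, h14,
    fun b hb k c e => ?_, h16, h17, ?_⟩
  · have := h15 b hb
    rw [e] at this
    simpa using this
  · split at h18
    case h_2 => exact absurd h18 (by simp)
    case h_1 k c hterm =>
      simp only [Bool.and_eq_true, decide_eq_true_eq] at h18
      obtain ⟨rfl, hc⟩ := h18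
      exact ⟨c, hterm, hc⟩

theorem commute_proj_z {r z : ℕ} (hr : r < T.n) (hz : z < T.n) (hrz : chkTerms T [] r z = true) (lam t : F) :
    Commute (ρ (xr h r t)) (proj ρ ψ (xr h z) lam) :=
  commute_rho_proj ρ ψ (fun u => xr_comm h hr hz hrz t u) lam

include hψ

/-- The family on a central character. -/
noncomputable def wRad (lam : F) : Rad ρ (Ix d.psi) F :=
  mkRad h (isIdempotentElem_proj ρ ψ hψ (xr h d.z) lam) (fun _ hr => absurd hr List.not_mem_nil)
    (fun _ hr => absurd hr List.not_mem_nil)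
    (fun r hr => commute_proj_z h ((HeisData.spec hd).2.2.2.2.2.2.1 r hr).1 (HeisData.spec hd).1
      ((HeisData.spec hd).2.2.2.2.2.2.1 r hr).2 lam)
    (HeisData.spec hd).2.2.2.2.2.1

include hd

theorem wTies (lam : F) : Ties h (wRad (ρ := ρ) h hd hψ lam) [] :=
  ⟨fun _ => rfl, fun _ hr => absurd hr List.not_mem_nil, fun a ha => ((HeisData.spec hd).2.2.2.2.2.2.1 a ha).1⟩

/-- Opposite roots translate the weights. -/
theorem exists_shift (lam : F) {b : ℕ} (hb : b ∈ d.psi) :
    ∃ (r : ℕ) (c : F), c ≠ 0 ∧ r < T.n ∧ (b ∈ srcs T d.psi d.g ∨ chkTerms T [] r d.g = true) ∧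
      ∀ (s : F) (φ : Ix d.psi → F), cj ρ (xr h r s) ((wRad (ρ := ρ) h hd hψ lam).Q ψ φ) =
        (wRad (ρ := ρ) h hd hψ lam).Q ψ (φ + Pi.single ⟨b, hb⟩ (-(lam * c * s))) := by
  obtain ⟨hz, -, -, -, -, -, hpsi, hopp, -⟩ := HeisData.spec hd
  obtain ⟨p, -, -, hp⟩ := hopp b hb
  simp only [HeisData.chkOpp, Bool.and_eq_true, Bool.or_eq_true, decide_eq_true_eq, List.all_eq_true] at hp
  obtain ⟨⟨⟨⟨⟨⟨⟨hr, hne⟩, -⟩, hneg⟩, hrz⟩, hk⟩, hoth⟩, hsrc⟩ := hp
  split at hk
  case h_2 => exact absurd hk (by simp)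
  case h_1 k c hterm =>
    simp only [Bool.and_eq_true, decide_eq_true_eq] at hk
    obtain ⟨rfl, hcc⟩ := hk
    refine ⟨p.2, (c : F), fun h0 => ?_, hr, hsrc, fun s φ => ?_⟩
    · have h1 := congrArg (fun x : ℤ => (x : F)) hcc
      simp [h0] at h1
    set R := wRad (ρ := ρ) h hd hψ lam
    have hcm : Commute (ρ (xr h p.2 s)) R.E := commute_proj_z (ψ := ψ) h hr hz hrz lam s
    set sh : Ix d.psi → F := Pi.single ⟨b, hb⟩ (-(lam * (c : F) * s)) with hsh
    refine R.cj_Q hψ hcm (Φ := fun φ => φ + sh) (fun φ χ e => add_right_cancel e) (fun φ b' u => ?_) φ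
    show ρ ((xr h p.2 s)⁻¹ * xr h b' u * xr h p.2 s) * R.Q ψ φ = _
    by_cases hbb : b' = ⟨b, hb⟩
    · subst hbb
      have ec := xr_conj h hr (hpsi b hb).1 hne.symm hneg (fun q hq => by
        rw [hterm, List.mem_singleton] at hq; subst hq; exact hz) (-s) u
      rw [xr_inv, _root_.neg_neg, hterm, List.map_singleton, List.prod_singleton] at ec
      rw [xr_inv, ec, map_mul, mul_assoc]
      have e1 : ∀ t, ρ (xr h d.z t) * R.Q ψ φ = ψ (lam * t) • R.Q ψ φ := fun t => by
        rw [← R.E_mul_Q ψ φ, ← mul_assoc, show R.E = proj ρ ψ (xr h d.z) lam from rfl,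
          rho_mul_proj ρ ψ (xr h d.z) lam t, smul_mul_assoc]
      rw [e1, mul_smul_comm, show xr h b = R.x ⟨b, hb⟩ from rfl, R.rho_mul_Q, smul_smul,
        ← AddChar.map_add_eq_mul, Pi.add_apply, hsh, Pi.single_eq_same]
      simp only [pow_one]
      congr 2
      ring
    · have hb' : (b' : ℕ) ≠ b := fun e => hbb (Subtype.ext e)
      rw [xr_inv, xr_comm h hr (hpsi b' b'.2).1 ((hoth b' b'.2).resolve_left hb') (-s) u, mul_assoc,
        ← AddChar.map_add_eq_mul, neg_add_cancel, AddChar.map_zero_eq_one, mul_one,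
        show xr h (b' : ℕ) = R.x b' from rfl, R.rho_mul_Q, Pi.add_apply, hsh, Pi.single_eq_of_ne hbb, add_zero]

/-- All weights are equivalent. -/
theorem mult_const {lam : F} (hl : lam ≠ 0) (φ : Ix d.psi → F) :
    mult (wRad (ρ := ρ) h hd hψ lam) ψ φ = mult (wRad (ρ := ρ) h hd hψ lam) ψ 0 := by
  classical
  set R := wRad (ρ := ρ) h hd hψ lam
  suffices key : ∀ (S : Finset (Ix d.psi)) (φ : Ix d.psi → F), (∀ a ∉ S, φ a = 0) →
      mult R ψ φ = mult R ψ 0 from key Finset.univ φ fun a ha => absurd (Finset.mem_univ a) ha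
  intro S
  induction S using Finset.induction_on with
  | empty => intro φ hφ; rw [show φ = 0 from funext fun a => hφ a (Finset.notMem_empty a)]
  | insert a S ha ih =>
    intro φ hφ
    obtain ⟨r, c, hc, -, -, hshift⟩ := exists_shift (ρ := ρ) h hd hψ lam a.2
    have e : φ = Function.update φ a 0 + Pi.single a (-(lam * c * (-(φ a) / (lam * c)))) := funext fun b => by
      by_cases hb : b = a
      · subst hb; simp; field_simp
      · simp [hb]
    have hr : Reach R ψ (Function.update φ a 0) φ := ⟨xr h r (-(φ a) / (lam * c)), by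
      rw [hshift]
      exact congrArg _ e.symm⟩
    rw [← hr.mult_eq hψ]
    exact ih _ fun b hb => by
      by_cases hba : b = a
      · subst hba; simp
      · rw [Function.update_of_ne hba]; exact hφ b (by simp [hba, hb])

/-- The trace of the root on a weight it fixes does not depend on the weight. -/
theorem tr_const {lam : F} (hl : lam ≠ 0) (φ : Ix d.psi → F)
    (hφ : ∀ a : Ix d.psi, (a : ℕ) ∈ srcs T d.psi d.g → φ a = 0) (u : F) :
    tr (ρ (xr h d.g u) * (wRad (ρ := ρ) h hd hψ lam).Q ψ φ) =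
      tr (ρ (xr h d.g u) * (wRad (ρ := ρ) h hd hψ lam).Q ψ 0) := by
  classical
  obtain ⟨-, hg, -⟩ := HeisData.spec hd
  set R := wRad (ρ := ρ) h hd hψ lam
  suffices key : ∀ (S : Finset (Ix d.psi)) (φ : Ix d.psi → F), (∀ a ∉ S, φ a = 0) →
      (∀ a : Ix d.psi, (a : ℕ) ∈ srcs T d.psi d.g → φ a = 0) →
      tr (ρ (xr h d.g u) * R.Q ψ φ) = tr (ρ (xr h d.g u) * R.Q ψ 0) from
    key Finset.univ φ (fun a ha => absurd (Finset.mem_univ a) ha) hφ
  intro S
  induction S using Finset.induction_on with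
  | empty => intro φ h0 _; rw [show φ = 0 from funext fun a => h0 a (Finset.notMem_empty a)]
  | insert a S ha ih =>
    intro φ h0 hsrc
    by_cases hfa : φ a = 0
    · exact ih φ (fun b hb => by
        by_cases hba : b = a
        · rw [hba]; exact hfa
        · exact h0 b (by simp [hba, hb])) hsrc
    obtain ⟨r, c, hc, hr, hrg, hshift⟩ := exists_shift (ρ := ρ) h hd hψ lam a.2
    have hrg' : chkTerms T [] r d.g = true := hrg.resolve_left fun e => hfa (hsrc a e)
    have e : φ = Function.update φ a 0 + Pi.single a (-(lam * c * (-(φ a) / (lam * c)))) := funext fun b => by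
      by_cases hb : b = a
      · subst hb; simp; field_simp
      · simp [hb]
    have hcj : cj ρ (xr h r (-(φ a) / (lam * c))) (R.Q ψ (Function.update φ a 0)) = R.Q ψ φ := by
      rw [hshift]
      exact congrArg _ e.symm
    have hfix : cj ρ (xr h r (-(φ a) / (lam * c))) (ρ (xr h d.g u)) = ρ (xr h d.g u) := by
      rw [cj_rho, xr_comm h hr hg hrg', mul_inv_cancel_right]
    conv_lhs => rw [← hcj, ← hfix, ← cj_mul, tr_cj]
    exact ih _ (fun b hb => by
      by_cases hba : b = a
      · subst hba; simp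
      · rw [Function.update_of_ne hba]; exact h0 b (by simp [hba, hb])) fun b hb => by
      by_cases hba : b = a
      · subst hba; simp
      · rw [Function.update_of_ne hba]; exact hsrc b hb

omit hd hψ in
theorem mv_zero (g : ℕ) (s : F) : mv T g s (0 : Ix d.psi → F) = 0 := funext fun b => by
  simp only [mv]; split <;> simp [co]

/-- The root fixes the zero weight. -/
theorem fix_zero {lam : F} (h1 : mult (wRad (ρ := ρ) h hd hψ lam) ψ 0 = 1) (t : F) :
    ρ (xr h d.g t) * (wRad (ρ := ρ) h hd hψ lam).Q ψ 0 = (wRad (ρ := ρ) h hd hψ lam).Q ψ 0 := by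
  obtain ⟨hz, hg, hα, hβ, -, -, -, -, hgz, haz, hbz, -, hma, hmb, -, hne, hneg, c, hterm, hcc⟩ :=
    HeisData.spec hd
  set R := wRad (ρ := ρ) h hd hψ lam
  set Q := R.Q ψ 0
  have hi : IsIdempotentElem Q := R.idem_Q hψ 0
  have scal : ∀ x : Gp D F, cj ρ x Q = Q → ρ x * Q = tr (Q * ρ x) • Q := fun x hx => by
    conv_lhs => rw [← hi.eq, ← mul_assoc, (commute_rho_of_cj ρ hx).eq]
    exact sandwich hi h1 _
  have fix : ∀ g', g' < T.n → chkMove T [] d.psi g' = true → chkTerms T [] g' d.z = true →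
      ∀ u, cj ρ (xr h g' u) Q = Q := fun g' hn hm hz' u => by
    rw [cj_root h hψ (wTies h hd hψ lam) hm (fun v => commute_proj_z h hn hz hz' lam v), mv_zero]
  have fa := fix _ hα hma haz
  have fb := fix _ hβ hmb hbz
  have hcc' : (c : F) * c = 1 := by exact_mod_cast congrArg (fun x : ℤ => (x : F)) hcc
  have ec := xr_conj h hα hβ hne hneg (fun q hq => by
    rw [hterm, List.mem_singleton] at hq; subst hq; exact hg) 1 ((c : F) * t)
  rw [hterm, List.map_singleton, List.prod_singleton] at ec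
  simp only [pow_one, mul_one, ← mul_assoc, hcc', one_mul] at ec
  have e : xr h d.g t = (xr h d.β ((c : F) * t))⁻¹ *
      (xr h d.α 1 * xr h d.β ((c : F) * t) * (xr h d.α 1)⁻¹) := by rw [ec, inv_mul_cancel_left]
  rw [e, xr_inv, xr_inv, map_mul, map_mul, map_mul]
  set l1 := tr (Q * ρ (xr h d.α 1))
  set l2 := tr (Q * ρ (xr h d.α (-1)))
  set k1 := tr (Q * ρ (xr h d.β ((c : F) * t)))
  set k2 := tr (Q * ρ (xr h d.β (-((c : F) * t))))
  have eA : ρ (xr h d.α 1) * Q = l1 • Q := scal _ (fa 1)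
  have eA' : ρ (xr h d.α (-1)) * Q = l2 • Q := scal _ (fa (-1))
  have eB : ρ (xr h d.β ((c : F) * t)) * Q = k1 • Q := scal _ (fb _)
  have eB' : ρ (xr h d.β (-((c : F) * t))) * Q = k2 • Q := scal _ (fb _)
  have hA : (l2 * l1) • Q = Q := by
    rw [mul_smul, ← eA, ← mul_smul_comm, ← eA', ← mul_assoc, ← map_mul, ← AddChar.map_add_eq_mul,
      add_neg_cancel, AddChar.map_zero_eq_one, map_one, one_mul]
  have hB : (k1 * k2) • Q = Q := by
    rw [mul_smul, ← eB', ← mul_smul_comm, ← eB, ← mul_assoc, ← map_mul, ← AddChar.map_add_eq_mul,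
      neg_add_cancel, AddChar.map_zero_eq_one, map_one, one_mul]
  calc ρ (xr h d.β (-((c : F) * t))) * (ρ (xr h d.α 1) * ρ (xr h d.β ((c : F) * t)) *
        ρ (xr h d.α (-1))) * Q
      = (l2 * (k1 * (l1 * k2))) • Q := by
        simp only [mul_assoc, eA', mul_smul_comm, eB, eA, eB', smul_smul]
    _ = (l2 * l1) • ((k1 * k2) • Q) := by rw [smul_smul]; congr 1; ring
    _ = Q := by rw [hB, hA]

/-- The dimension on a central character. -/
theorem dm_weight {lam : F} (hl : lam ≠ 0) :
    dm (proj ρ ψ (xr h d.z) lam) =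
      Fintype.card F ^ d.psi.length * mult (wRad (ρ := ρ) h hd hψ lam) ψ 0 := by
  classical
  obtain ⟨-, -, -, -, hnd, -⟩ := HeisData.spec hd
  have h1 := (wRad (ρ := ρ) h hd hψ lam).dm_E hψ
  refine Eq.trans h1 ?_
  rw [Finset.sum_congr rfl fun φ _ => show dm _ = mult (wRad (ρ := ρ) h hd hψ lam) ψ 0 from
    mult_const h hd hψ hl φ, Finset.sum_const, Finset.card_univ, smul_eq_mul, Fintype.card_fun,
    Fintype.card_of_subtype d.psi.toFinset (fun a => List.mem_toFinset), List.toFinset_card_of_nodup hnd]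

/-- The dimension of the fixed vectors of a root of the half on a central character. -/
theorem dm_weight_half {lam : F} (hl : lam ≠ 0) {b : ℕ} (hb : b ∈ d.psi) :
    Fintype.card F * dm (proj ρ ψ (xr h b) 0 * proj ρ ψ (xr h d.z) lam) =
      dm (proj ρ ψ (xr h d.z) lam) := by
  classical
  set R := wRad (ρ := ρ) h hd hψ lam
  have h1 := R.dm_proj_mul hψ ⟨b, hb⟩ 0
  rw [show xr h b = R.x ⟨b, hb⟩ from rfl, show proj ρ ψ (xr h d.z) lam = R.E from rfl, h1, R.dm_E hψ,
    Finset.sum_congr rfl fun φ _ => show dm (R.Q ψ φ) = mult R ψ 0 from mult_const h hd hψ hl φ,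
    Finset.sum_congr (s₁ := Finset.univ) rfl fun φ _ => show dm (R.Q ψ φ) = mult R ψ 0 from
      mult_const h hd hψ hl φ, Finset.sum_const,
    Finset.sum_const, smul_eq_mul, smul_eq_mul, ← mul_assoc]
  congr 1
  rw [Finset.card_univ, ← Fintype.card_congr (Equiv.piSplitAt (⟨b, hb⟩ : Ix d.psi) fun _ => F).symm,
    Fintype.card_prod, ← Fintype.card_subtype]
  congr 1
  refine Fintype.card_congr ?_
  exact
    { toFun := fun φ x => φ.1 x
      invFun := fun f => ⟨fun a => if e : a = ⟨b, hb⟩ then 0 else f ⟨a, e⟩, by simp⟩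
      left_inv := fun φ => Subtype.ext (funext fun a => by
        by_cases e : a = ⟨b, hb⟩
        · subst e; simp [φ.2]
        · simp [e])
      right_inv := fun f => funext fun a => by simp [a.2] }

/-- The dimension of the fixed vectors of the root on a central character of multiplicity one. -/
theorem dm_weight_root {lam : F} (hl : lam ≠ 0) (h1 : mult (wRad (ρ := ρ) h hd hψ lam) ψ 0 = 1) :
    Fintype.card F * dm (proj ρ ψ (xr h d.g) 0 * proj ρ ψ (xr h d.z) lam) =
      Fintype.card F ^ d.psi.length +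
        (Fintype.card F - 1) * Fintype.card F ^ (d.psi.length - (srcs T d.psi d.g).length) := by
  classical
  obtain ⟨hz, hg, -, -, hnd, -, -, -, hgz, -, -, hmg, -, -, hunit, -⟩ := HeisData.spec hd
  set R := wRad (ρ := ρ) h hd hψ lam
  set P := proj ρ ψ (xr h d.g) 0 with hPdef
  set q := Fintype.card F
  have hP := isIdempotentElem_proj ρ ψ hψ (xr h d.g) 0
  have hPE := commute_proj_left ρ ψ (fun t => commute_proj_z (ρ := ρ) (ψ := ψ) h hg hz hgz lam t) (0 : F)
  let Fx : (Ix d.psi → F) → Prop := fun φ => ∀ a : Ix d.psi, (a : ℕ) ∈ srcs T d.psi d.g → φ a = 0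
  have htr : ∀ φ, (q : ℂ) * tr (P * R.Q ψ φ) = if Fx φ then (q : ℂ) else 1 := by
    intro φ
    have hsum : (q : ℂ) * tr (P * R.Q ψ φ) = ∑ u, tr (ρ (xr h d.g u) * R.Q ψ φ) := by
      simp only [hPdef, proj, zero_mul, neg_zero, AddChar.map_zero_eq_one, one_smul, smul_mul_assoc,
        Finset.sum_mul, tr, map_smul, map_sum, smul_eq_mul, q]
      rw [← mul_assoc, mul_inv_cancel₀ (Nat.cast_ne_zero.mpr Fintype.card_ne_zero), one_mul]
    rw [hsum]
    have hdm : tr (R.Q ψ φ) = 1 := by
      rw [tr_eq_dm (R.idem_Q hψ φ), show dm (R.Q ψ φ) = 1 from (mult_const h hd hψ hl φ).trans h1,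
        Nat.cast_one]
    by_cases hF : Fx φ
    · rw [if_pos hF, Finset.sum_congr rfl fun u _ => (tr_const h hd hψ hl φ hF u).trans
        ((congrArg tr (fix_zero h hd hψ h1 u)).trans (by
          rw [tr_eq_dm (R.idem_Q hψ 0), show dm (R.Q ψ 0) = 1 from h1, Nat.cast_one])),
        Finset.sum_const, Finset.card_univ, nsmul_eq_mul, mul_one]
    · rw [if_neg hF]
      simp only [Fx, not_forall] at hF
      obtain ⟨a, ha, ha0⟩ := hF
      obtain ⟨-, hb⟩ := List.mem_filter.1 ha
      rw [List.any_eq_true] at hb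
      obtain ⟨b, hbm, hbt⟩ := hb
      cases et : tgt T d.psi d.g b with
      | none => rw [et] at hbt; exact absurd hbt (by simp)
      | some kc =>
        obtain ⟨k, c⟩ := kc
        rw [et] at hbt
        simp only [decide_eq_true_eq] at hbt
        refine (Finset.sum_eq_single (0 : F) (fun u _ hu => ?_)
          (fun hh => absurd (Finset.mem_univ _) hh)).trans
          (by rw [AddChar.map_zero_eq_one, map_one, one_mul, hdm])
        refine tr_rho_mul_eq_zero ρ (R.idem_Q hψ φ)
          (cj_root h hψ (wTies h hd hψ lam) hmg (fun v => commute_proj_z h hg hz hgz lam v) u φ)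
          (R.Q_orth hψ fun e => ?_)
        have e' := congrArg (fun ω => co ω b) e
        have hc0 : (c : F) ≠ 0 := fun h0 => by
          have h2 := congrArg (fun x : ℤ => (x : F)) (hunit b hbm k c et)
          simp [h0] at h2
        simp only [co_mv_some et hbm] at e'
        obtain rfl : k = (a : ℕ) := hbt
        rw [co_val φ a] at e'
        have h3 : (c : F) * u * φ a = 0 := by linear_combination e'
        simp [hc0, hu, ha0] at h3
  have t1 : (dm (P * proj ρ ψ (xr h d.z) lam) : ℂ) = ∑ φ, tr (P * R.Q ψ φ) := by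
    rw [← tr_eq_dm (hP.mul_of_commute hPE (isIdempotentElem_proj ρ ψ hψ (xr h d.z) lam)),
      show proj ρ ψ (xr h d.z) lam = R.E from rfl, ← R.sum_Q hψ, Finset.mul_sum, tr, map_sum]
  have hcard : (Finset.univ.filter Fx).card = q ^ (d.psi.length - (srcs T d.psi d.g).length) := by
    rw [← Fintype.card_subtype]
    let e : {φ : Ix d.psi → F // Fx φ} ≃ ({a : Ix d.psi // (a : ℕ) ∉ srcs T d.psi d.g} → F) :=
      { toFun := fun φ x => φ.1 x
        invFun := fun f => ⟨fun a => if e : (a : ℕ) ∈ srcs T d.psi d.g then 0 else f ⟨a, e⟩,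
          fun a ha => by simp [ha]⟩
        left_inv := fun φ => Subtype.ext (funext fun a => by
          by_cases e : (a : ℕ) ∈ srcs T d.psi d.g
          · simp [e, φ.2 a e]
          · simp [e])
        right_inv := fun f => funext fun a => by simp [a.2] }
    rw [Fintype.card_congr e, Fintype.card_fun, Fintype.card_subtype_compl,
      Fintype.card_of_subtype d.psi.toFinset (fun a => List.mem_toFinset), List.toFinset_card_of_nodup hnd,
      Fintype.card_congr (Equiv.subtypeSubtypeEquivSubtype (p := fun a => a ∈ d.psi)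
        (q := fun a => a ∈ srcs T d.psi d.g) fun {a} ha => (List.mem_filter.1 ha).1),
      Fintype.card_of_subtype (srcs T d.psi d.g).toFinset (fun a => List.mem_toFinset),
      List.toFinset_card_of_nodup (show (srcs T d.psi d.g).Nodup from List.Nodup.filter _ hnd)]
  have hall : Fintype.card (Ix d.psi → F) = q ^ d.psi.length := by
    rw [Fintype.card_fun, Fintype.card_of_subtype d.psi.toFinset (fun a => List.mem_toFinset),
      List.toFinset_card_of_nodup hnd]
  apply Nat.cast_injective (R := ℂ)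
  have hq1 : 1 ≤ q := Fintype.card_pos
  push_cast [Nat.cast_sub hq1]
  rw [t1, Finset.mul_sum, Finset.sum_congr rfl fun φ _ => htr φ, Finset.sum_congr rfl fun φ _ =>
    show (if Fx φ then (q : ℂ) else 1) = 1 + if Fx φ then (q : ℂ) - 1 else 0 by split_ifs <;> ring,
    Finset.sum_add_distrib, Finset.sum_const, ← Finset.sum_filter, Finset.sum_const, Finset.card_univ,
    hall, hcard, nsmul_eq_mul, nsmul_eq_mul]
  push_cast
  ring

omit hd in
/-- The decomposition by the central characters. -/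
theorem dm_split {x : AddChar F (Gp D F)} {z : ℕ} (hx : ∀ t u, x t * xr h z u = xr h z u * x t) :
    dm (proj ρ ψ x 0) = dm (proj ρ ψ x 0 * proj ρ ψ (xr h z) 0) +
      ∑ lam ∈ (Finset.univ.erase (0 : F)), dm (proj ρ ψ x 0 * proj ρ ψ (xr h z) lam) := by
  classical
  rw [Finset.add_sum_erase Finset.univ (fun lam => dm (proj ρ ψ x 0 * proj ρ ψ (xr h z) lam))
    (Finset.mem_univ 0)]
  refine dm_sum _ (isIdempotentElem_proj ρ ψ hψ x 0) (fun lam _ => ?_) ?_
  · exact (isIdempotentElem_proj ρ ψ hψ x 0).mul_of_commute (commute_proj_proj ρ ψ hx 0 lam)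
      (isIdempotentElem_proj ρ ψ hψ _ lam)
  · rw [← Finset.mul_sum, sum_proj ρ ψ hψ, mul_one]

omit hd in
/-- Roots conjugate under the Weyl group have fixed spaces of the same dimension. -/
theorem dm_proj_word {w : List ℕ} (hw : WordOK T w) {r : ℕ} (hr : r < T.n) :
    dm (proj ρ ψ (xr h (rword T w r)) 0) = dm (proj ρ ψ (xr h r) 0) := by
  obtain ⟨c, hc, e⟩ := wel_conj h (F := F) hw hr
  rw [← dm_cj ρ (wel h hw) (isIdempotentElem_proj ρ ψ hψ (xr h r) 0), cj_proj hc e, zero_div]

/-- The three identities of the central characters. -/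
theorem heis_main {v : List ℤ} (hv : pairV T v d.z = 1) :
    ∃ a : ℕ,
      finrank ℂ V = dm (proj ρ ψ (xr h d.z) 0) +
          (Fintype.card F - 1) * (a * Fintype.card F ^ d.psi.length) ∧
      (∀ (b : ℕ) (w : List ℕ), b ∈ d.psi → WordOK T w → rword T w b = d.z →
        Fintype.card F * dm (proj ρ ψ (xr h d.z) 0) =
          Fintype.card F * dm (proj ρ ψ (xr h b) 0 * proj ρ ψ (xr h d.z) 0) +
            (Fintype.card F - 1) * (a * Fintype.card F ^ d.psi.length)) ∧
      (a = 1 → ∀ w : List ℕ, WordOK T w → rword T w d.g = d.z →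
        Fintype.card F * dm (proj ρ ψ (xr h d.z) 0) =
          Fintype.card F * dm (proj ρ ψ (xr h d.g) 0 * proj ρ ψ (xr h d.z) 0) +
            (Fintype.card F - 1) * (Fintype.card F ^ d.psi.length +
              (Fintype.card F - 1) * Fintype.card F ^ (d.psi.length - (srcs T d.psi d.g).length))) := by
  classical
  obtain ⟨hz, hg, -, -, -, -, hpsi, -, hgz, -⟩ := HeisData.spec hd
  have hsame : ∀ lam : F, lam ≠ 0 → dm (proj ρ ψ (xr h d.z) lam) = dm (proj ρ ψ (xr h d.z) 1) := fun lam hl => by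
    rw [← dm_cj ρ (tor h v (Units.mk0 lam hl)) (isIdempotentElem_proj ρ ψ hψ (xr h d.z) lam),
      cj_proj (c := lam) hl (x' := xr h d.z) (fun t => by
        rw [tor_conj h v _ hz, hv, zpow_one, Units.val_mk0]), div_self hl]
  have hm : ∀ lam : F, lam ≠ 0 → mult (wRad (ρ := ρ) h hd hψ lam) ψ 0 =
      mult (wRad (ρ := ρ) h hd hψ 1) ψ 0 := fun lam hl => by
    have h1 := dm_weight (ρ := ρ) h hd hψ hl
    rw [hsame lam hl, dm_weight (ρ := ρ) h hd hψ one_ne_zero] at h1
    exact (Nat.eq_of_mul_eq_mul_left (Nat.pow_pos Fintype.card_pos) h1).symm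
  refine ⟨mult (wRad (ρ := ρ) h hd hψ 1) ψ 0, ?_, fun b w hb hw hwb => ?_, fun ha w hw hwg => ?_⟩
  · rw [← dm_one, dm_sum Finset.univ IsIdempotentElem.one
      (fun lam _ => isIdempotentElem_proj ρ ψ hψ _ lam) (sum_proj ρ ψ hψ (xr h d.z)),
      ← Finset.add_sum_erase _ _ (Finset.mem_univ (0 : F)), Finset.sum_congr rfl fun lam hl => by
        rw [hsame lam (Finset.ne_of_mem_erase hl), dm_weight (ρ := ρ) h hd hψ one_ne_zero],
      Finset.sum_const, Finset.card_erase_of_mem (Finset.mem_univ _), Finset.card_univ, smul_eq_mul]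
    ring
  · conv_lhs => rw [← hwb, dm_proj_word h hψ hw (hpsi b hb).1,
      dm_split h hψ (z := d.z) (fun t u => xr_comm h (hpsi b hb).1 hz (hpsi b hb).2 t u)]
    rw [mul_add, Finset.mul_sum, Finset.sum_congr rfl fun lam hl => by
        rw [dm_weight_half h hd hψ (Finset.ne_of_mem_erase hl) hb,
          hsame lam (Finset.ne_of_mem_erase hl), dm_weight (ρ := ρ) h hd hψ one_ne_zero],
      Finset.sum_const, Finset.card_erase_of_mem (Finset.mem_univ _), Finset.card_univ, smul_eq_mul]
    ring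
  · conv_lhs => rw [← hwg, dm_proj_word h hψ hw hg,
      dm_split h hψ (z := d.z) (fun t u => xr_comm h hg hz hgz t u)]
    rw [mul_add, Finset.mul_sum, Finset.sum_congr rfl fun lam hl =>
        dm_weight_root h hd hψ (Finset.ne_of_mem_erase hl) ((hm lam (Finset.ne_of_mem_erase hl)).trans ha),
      Finset.sum_const, Finset.card_erase_of_mem (Finset.mem_univ _), Finset.card_univ, smul_eq_mul]

end CfsgLib.EMinDeg
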