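import Cfsg.Agent.Lib.EMinDeg.Big
import Cfsg.Agent.Lib.EMinDeg.Heis
import Cfsg.Agent.Lib.Chev.All

/-!
The chain of radicals of E8 (generated).
-/

set_option autoImplicit false

namespace CfsgLib.EMinDeg

/-- A level. -/
def levE80 : LevData where
  K := [239]
  psi := [120, 122, 125, 129, 134, 140, 146, 151, 155, 158, 160, 161, 168, 173, 177, 180, 182, 183, 187, 190, 192, 193, 196, 198, 199, 201, 202, 203, 206, 208, 209, 211, 212, 213, 215, 216, 217, 218, 220, 221, 222, 223, 224, 225, 227, 228, 229, 230, 231, 232, 233, 234, 235, 236, 237, 238]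
  J := [0, 1, 2, 3, 4, 5, 6]
  St := [13, 20, 25, 29, 32, 34, 35, 39, 42, 44, 45, 48, 50, 51, 53, 54, 55, 58, 60, 61, 63, 64, 65, 67, 68, 69, 70, 72, 73, 74, 75, 76, 77, 80, 82, 83, 85, 86, 87, 89, 90, 91, 92, 94, 95, 96, 97, 98, 100, 101, 102, 103, 104, 106, 107, 108, 109, 111, 112, 113, 115, 116, 118, 120, 121, 122, 123, 124, 125, 126, 127, 128, 129, 130, 131, 132, 133, 134, 135, 136, 137, 138, 139, 140, 141, 142, 143, 144, 145, 146, 147, 148, 149, 150, 151, 152, 153, 154, 155, 156, 157, 158, 159, 160, 161, 162, 163, 164, 165, 166, 167, 168, 169, 170, 171, 172, 173, 174, 175, 176, 177, 178, 179, 180, 181, 182, 183, 184, 185, 186, 187, 188, 189, 190, 191, 192, 193, 194, 195, 196, 197, 198, 199, 200, 201, 202, 203, 204, 205, 206, 207, 208, 209, 210, 211, 212, 213, 214, 215, 216, 217, 218, 219, 220, 221, 222, 223, 224, 225, 226, 227, 228, 229, 230, 231, 232, 233, 234, 235, 236, 237, 238]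
  z := 238
  v := [0, 0, 0, 0, 0, 0, 0, -1]
  cells := [
    (120, [6, 5, 4, 3, 1, 2, 0, 3, 2, 4, 3, 1, 5, 4, 3, 2, 0, 6, 5, 4, 3, 1, 2, 3, 4, 5, 6], []),
    (122, [6, 5, 4, 3, 1, 2, 0, 3, 2, 4, 3, 1, 5, 4, 3, 2, 0, 6, 5, 4, 3, 1, 2, 3, 4, 5], [(121, 120)]),
    (125, [6, 5, 4, 3, 1, 2, 0, 3, 2, 4, 3, 1, 5, 4, 3, 2, 0, 6, 5, 4, 3, 1, 2, 3, 4], [(123, 122), (124, 120)]),
    (129, [6, 5, 4, 3, 1, 2, 0, 3, 2, 4, 3, 1, 5, 4, 3, 2, 0, 6, 5, 4, 3, 1, 2, 3], [(126, 125), (127, 122), (128, 120)]),
    (134, [6, 5, 4, 3, 1, 2, 0, 3, 2, 4, 3, 1, 5, 4, 3, 2, 0, 6, 5, 4, 3, 1, 2], [(130, 129), (131, 125), (132, 122), (133, 120)]),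
    (140, [6, 5, 4, 3, 1, 2, 0, 3, 2, 4, 3, 1, 5, 4, 3, 2, 0, 6, 5, 4, 3, 1], [(135, 134), (136, 129), (137, 125), (138, 122), (139, 120)]),
    (146, [6, 5, 4, 3, 1, 2, 0, 3, 2, 4, 3, 1, 5, 4, 3, 2, 0, 6, 5, 4, 3, 2], [(141, 134), (142, 129), (143, 125), (144, 122), (145, 120)]),
    (151, [6, 5, 4, 3, 1, 2, 0, 3, 2, 4, 3, 1, 5, 4, 3, 2, 0, 6, 5, 4, 3], [(135, 146), (141, 140), (147, 129), (148, 125), (149, 122), (150, 120)]),
    (155, [6, 5, 4, 3, 1, 2, 0, 3, 2, 4, 3, 1, 5, 4, 3, 2, 0, 6, 5, 4], [(130, 151), (136, 146), (142, 140), (147, 134), (152, 125), (153, 122), (154, 120)]),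
    (158, [6, 5, 4, 3, 1, 2, 0, 3, 2, 4, 3, 1, 5, 4, 3, 2, 0, 6, 5], [(126, 155), (131, 151), (137, 146), (143, 140), (148, 134), (152, 129), (156, 122), (157, 120)]),
    (160, [6, 5, 4, 3, 1, 2, 0, 3, 2, 4, 3, 1, 5, 4, 3, 2, 0, 6], [(123, 158), (127, 155), (132, 151), (138, 146), (144, 140), (149, 134), (153, 129), (156, 125), (159, 120)]),
    (161, [6, 5, 4, 3, 1, 2, 0, 3, 2, 4, 3, 1, 5, 4, 3, 2, 0], [(121, 160), (124, 158), (128, 155), (133, 151), (139, 146), (145, 140), (150, 134), (154, 129), (157, 125), (159, 122)]),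
    (168, [6, 5, 4, 3, 1, 2, 0, 3, 2, 4, 3, 1, 5, 4, 3, 2, 6, 5, 4, 3, 1], [(162, 140), (163, 134), (164, 129), (165, 125), (166, 122), (167, 120)]),
    (173, [6, 5, 4, 3, 1, 2, 0, 3, 2, 4, 3, 1, 5, 4, 3, 2, 6, 5, 4, 3], [(141, 168), (162, 151), (163, 146), (169, 129), (170, 125), (171, 122), (172, 120)]),
    (177, [6, 5, 4, 3, 1, 2, 0, 3, 2, 4, 3, 1, 5, 4, 3, 2, 6, 5, 4], [(130, 173), (142, 168), (162, 155), (164, 146), (169, 134), (174, 125), (175, 122), (176, 120)]),
    (180, [6, 5, 4, 3, 1, 2, 0, 3, 2, 4, 3, 1, 5, 4, 3, 2, 6, 5], [(126, 177), (131, 173), (143, 168), (162, 158), (165, 146), (170, 134), (174, 129), (178, 122), (179, 120)]),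
    (182, [6, 5, 4, 3, 1, 2, 0, 3, 2, 4, 3, 1, 5, 4, 3, 2, 6], [(123, 180), (127, 177), (132, 173), (144, 168), (162, 160), (166, 146), (171, 134), (175, 129), (178, 125), (181, 120)]),
    (183, [6, 5, 4, 3, 1, 2, 0, 3, 2, 4, 3, 1, 5, 4, 3, 2], [(121, 182), (124, 180), (128, 177), (133, 173), (145, 168), (162, 161), (167, 146), (172, 134), (176, 129), (179, 125), (181, 122)]),
    (187, [6, 5, 4, 3, 1, 2, 0, 3, 2, 4, 3, 1, 5, 4, 3, 6, 5, 4], [(135, 177), (136, 173), (147, 168), (163, 155), (164, 151), (169, 140), (184, 125), (185, 122), (186, 120)]),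
    (190, [6, 5, 4, 3, 1, 2, 0, 3, 2, 4, 3, 1, 5, 4, 3, 6, 5], [(126, 187), (135, 180), (137, 173), (148, 168), (163, 158), (165, 151), (170, 140), (184, 129), (188, 122), (189, 120)]),
    (192, [6, 5, 4, 3, 1, 2, 0, 3, 2, 4, 3, 1, 5, 4, 3, 6], [(123, 190), (127, 187), (135, 182), (138, 173), (149, 168), (163, 160), (166, 151), (171, 140), (185, 129), (188, 125), (191, 120)]),
    (193, [6, 5, 4, 3, 1, 2, 0, 3, 2, 4, 3, 1, 5, 4, 3], [(121, 192), (124, 190), (128, 187), (135, 183), (139, 173), (150, 168), (163, 161), (167, 151), (172, 140), (186, 129), (189, 125), (191, 122)]),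
    (196, [6, 5, 4, 3, 1, 2, 0, 3, 2, 4, 3, 1, 5, 4, 6, 5], [(130, 190), (131, 187), (136, 180), (137, 177), (152, 168), (164, 158), (165, 155), (174, 140), (184, 134), (194, 122), (195, 120)]),
    (198, [6, 5, 4, 3, 1, 2, 0, 3, 2, 4, 3, 1, 5, 4, 6], [(123, 196), (130, 192), (132, 187), (136, 182), (138, 177), (153, 168), (164, 160), (166, 155), (175, 140), (185, 134), (194, 125), (197, 120)]),
    (199, [6, 5, 4, 3, 1, 2, 0, 3, 2, 4, 3, 1, 5, 4], [(121, 198), (124, 196), (130, 193), (133, 187), (136, 183), (139, 177), (154, 168), (164, 161), (167, 155), (176, 140), (186, 134), (195, 125), (197, 122)]),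
    (201, [6, 5, 4, 3, 1, 2, 0, 3, 2, 4, 3, 1, 5, 6], [(126, 198), (127, 196), (131, 192), (132, 190), (137, 182), (138, 180), (156, 168), (165, 160), (166, 158), (178, 140), (188, 134), (194, 129), (200, 120)]),
    (202, [6, 5, 4, 3, 1, 2, 0, 3, 2, 4, 3, 1, 5], [(121, 201), (126, 199), (128, 196), (131, 193), (133, 190), (137, 183), (139, 180), (157, 168), (165, 161), (167, 158), (179, 140), (189, 134), (195, 129), (200, 122)]),
    (203, [6, 5, 4, 3, 1, 2, 0, 3, 2, 4, 3, 1], [(123, 202), (124, 201), (127, 199), (128, 198), (132, 193), (133, 192), (138, 183), (139, 182), (159, 168), (166, 161), (167, 160), (181, 140), (191, 134), (197, 129), (200, 125)]),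
    (206, [6, 5, 4, 3, 1, 2, 0, 3, 2, 4, 3, 5, 4, 6, 5], [(141, 196), (142, 190), (143, 187), (147, 180), (148, 177), (152, 173), (169, 158), (170, 155), (174, 151), (184, 146), (204, 122), (205, 120)]),
    (208, [6, 5, 4, 3, 1, 2, 0, 3, 2, 4, 3, 5, 4, 6], [(123, 206), (141, 198), (142, 192), (144, 187), (147, 182), (149, 177), (153, 173), (169, 160), (171, 155), (175, 151), (185, 146), (204, 125), (207, 120)]),
    (209, [6, 5, 4, 3, 1, 2, 0, 3, 2, 4, 3, 5, 4], [(121, 208), (124, 206), (141, 199), (142, 193), (145, 187), (147, 183), (150, 177), (154, 173), (169, 161), (172, 155), (176, 151), (186, 146), (205, 125), (207, 122)]),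
    (211, [6, 5, 4, 3, 1, 2, 0, 3, 2, 4, 3, 5, 6], [(126, 208), (127, 206), (141, 201), (143, 192), (144, 190), (148, 182), (149, 180), (156, 173), (170, 160), (171, 158), (178, 151), (188, 146), (204, 129), (210, 120)]),
    (212, [6, 5, 4, 3, 1, 2, 0, 3, 2, 4, 3, 5], [(121, 211), (126, 209), (128, 206), (141, 202), (143, 193), (145, 190), (148, 183), (150, 180), (157, 173), (170, 161), (172, 158), (179, 151), (189, 146), (205, 129), (210, 122)]),
    (213, [6, 5, 4, 3, 1, 2, 0, 3, 2, 4, 3], [(123, 212), (124, 211), (127, 209), (128, 208), (141, 203), (144, 193), (145, 192), (149, 183), (150, 182), (159, 173), (171, 161), (172, 160), (181, 151), (191, 146), (207, 129), (210, 125)]),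
    (215, [6, 5, 4, 3, 1, 2, 0, 3, 2, 4, 5, 6], [(130, 211), (131, 208), (132, 206), (142, 201), (143, 198), (144, 196), (152, 182), (153, 180), (156, 177), (174, 160), (175, 158), (178, 155), (194, 146), (204, 134), (214, 120)]),
    (216, [6, 5, 4, 3, 1, 2, 0, 3, 2, 4, 5], [(121, 215), (130, 212), (131, 209), (133, 206), (142, 202), (143, 199), (145, 196), (152, 183), (154, 180), (157, 177), (174, 161), (176, 158), (179, 155), (195, 146), (205, 134), (214, 122)]),
    (217, [6, 5, 4, 3, 1, 2, 0, 3, 2, 4], [(123, 216), (124, 215), (130, 213), (132, 209), (133, 208), (142, 203), (144, 199), (145, 198), (153, 183), (154, 182), (159, 177), (175, 161), (176, 160), (181, 155), (197, 146), (207, 134), (214, 125)]),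
    (218, [6, 5, 4, 3, 1, 2, 0, 3, 2], [(126, 217), (127, 216), (128, 215), (131, 213), (132, 212), (133, 211), (143, 203), (144, 202), (145, 201), (156, 183), (157, 182), (159, 180), (178, 161), (179, 160), (181, 158), (200, 146), (210, 134), (214, 129)]),
    (220, [6, 5, 4, 3, 1, 2, 0, 3, 4, 5, 6], [(135, 215), (136, 211), (137, 208), (138, 206), (147, 201), (148, 198), (149, 196), (152, 192), (153, 190), (156, 187), (184, 160), (185, 158), (188, 155), (194, 151), (204, 140), (219, 120)]),
    (221, [6, 5, 4, 3, 1, 2, 0, 3, 4, 5], [(121, 220), (135, 216), (136, 212), (137, 209), (139, 206), (147, 202), (148, 199), (150, 196), (152, 193), (154, 190), (157, 187), (184, 161), (186, 158), (189, 155), (195, 151), (205, 140), (219, 122)]),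
    (222, [6, 5, 4, 3, 1, 2, 0, 3, 4], [(123, 221), (124, 220), (135, 217), (136, 213), (138, 209), (139, 208), (147, 203), (149, 199), (150, 198), (153, 193), (154, 192), (159, 187), (185, 161), (186, 160), (191, 155), (197, 151), (207, 140), (219, 125)]),
    (223, [6, 5, 4, 3, 1, 2, 0, 3], [(126, 222), (127, 221), (128, 220), (135, 218), (137, 213), (138, 212), (139, 211), (148, 203), (149, 202), (150, 201), (156, 193), (157, 192), (159, 190), (188, 161), (189, 160), (191, 158), (200, 151), (210, 140), (219, 129)]),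
    (224, [6, 5, 4, 3, 1, 2, 0], [(130, 223), (131, 222), (132, 221), (133, 220), (136, 218), (137, 217), (138, 216), (139, 215), (152, 203), (153, 202), (154, 201), (156, 199), (157, 198), (159, 196), (194, 161), (195, 160), (197, 158), (200, 155), (214, 140), (219, 134)]),
    (225, [6, 5, 4, 3, 2, 0], [(141, 224), (142, 223), (143, 222), (144, 221), (145, 220), (147, 218), (148, 217), (149, 216), (150, 215), (152, 213), (153, 212), (154, 211), (156, 209), (157, 208), (159, 206), (204, 161), (205, 160), (207, 158), (210, 155), (214, 151), (219, 146)]),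
    (227, [6, 5, 4, 3, 1, 2, 3, 4, 5, 6], [(162, 220), (163, 215), (164, 211), (165, 208), (166, 206), (169, 201), (170, 198), (171, 196), (174, 192), (175, 190), (178, 187), (184, 182), (185, 180), (188, 177), (194, 173), (204, 168), (226, 120)]),
    (228, [6, 5, 4, 3, 1, 2, 3, 4, 5], [(121, 227), (162, 221), (163, 216), (164, 212), (165, 209), (167, 206), (169, 202), (170, 199), (172, 196), (174, 193), (176, 190), (179, 187), (184, 183), (186, 180), (189, 177), (195, 173), (205, 168), (226, 122)]),
    (229, [6, 5, 4, 3, 1, 2, 3, 4], [(123, 228), (124, 227), (162, 222), (163, 217), (164, 213), (166, 209), (167, 208), (169, 203), (171, 199), (172, 198), (175, 193), (176, 192), (181, 187), (185, 183), (186, 182), (191, 177), (197, 173), (207, 168), (226, 125)]),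
    (230, [6, 5, 4, 3, 1, 2, 3], [(126, 229), (127, 228), (128, 227), (162, 223), (163, 218), (165, 213), (166, 212), (167, 211), (170, 203), (171, 202), (172, 201), (178, 193), (179, 192), (181, 190), (188, 183), (189, 182), (191, 180), (200, 173), (210, 168), (226, 129)]),
    (231, [6, 5, 4, 3, 1, 2], [(130, 230), (131, 229), (132, 228), (133, 227), (162, 224), (164, 218), (165, 217), (166, 216), (167, 215), (174, 203), (175, 202), (176, 201), (178, 199), (179, 198), (181, 196), (194, 183), (195, 182), (197, 180), (200, 177), (214, 168), (226, 134)]),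
    (232, [6, 5, 4, 3, 1], [(135, 231), (136, 230), (137, 229), (138, 228), (139, 227), (163, 224), (164, 223), (165, 222), (166, 221), (167, 220), (184, 203), (185, 202), (186, 201), (188, 199), (189, 198), (191, 196), (194, 193), (195, 192), (197, 190), (200, 187), (219, 168), (226, 140)]),
    (233, [6, 5, 4, 3, 2], [(141, 231), (142, 230), (143, 229), (144, 228), (145, 227), (162, 225), (169, 218), (170, 217), (171, 216), (172, 215), (174, 213), (175, 212), (176, 211), (178, 209), (179, 208), (181, 206), (204, 183), (205, 182), (207, 180), (210, 177), (214, 173), (226, 146)]),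
    (234, [6, 5, 4, 3], [(135, 233), (141, 232), (147, 230), (148, 229), (149, 228), (150, 227), (163, 225), (169, 223), (170, 222), (171, 221), (172, 220), (184, 213), (185, 212), (186, 211), (188, 209), (189, 208), (191, 206), (204, 193), (205, 192), (207, 190), (210, 187), (219, 173), (226, 151)]),
    (235, [6, 5, 4], [(130, 234), (136, 233), (142, 232), (147, 231), (152, 229), (153, 228), (154, 227), (164, 225), (169, 224), (174, 222), (175, 221), (176, 220), (184, 217), (185, 216), (186, 215), (194, 209), (195, 208), (197, 206), (204, 199), (205, 198), (207, 196), (214, 187), (219, 177), (226, 155)]),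
    (236, [6, 5], [(126, 235), (131, 234), (137, 233), (143, 232), (148, 231), (152, 230), (156, 228), (157, 227), (165, 225), (170, 224), (174, 223), (178, 221), (179, 220), (184, 218), (188, 216), (189, 215), (194, 212), (195, 211), (200, 206), (204, 202), (205, 201), (210, 196), (214, 190), (219, 180), (226, 158)]),
    (237, [6], [(123, 236), (127, 235), (132, 234), (138, 233), (144, 232), (149, 231), (153, 230), (156, 229), (159, 227), (166, 225), (171, 224), (175, 223), (178, 222), (181, 220), (185, 218), (188, 217), (191, 215), (194, 213), (197, 211), (200, 208), (204, 203), (207, 201), (210, 198), (214, 192), (219, 182), (226, 160)]),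
    (238, [], [(121, 237), (124, 236), (128, 235), (133, 234), (139, 233), (145, 232), (150, 231), (154, 230), (157, 229), (159, 228), (167, 225), (172, 224), (176, 223), (179, 222), (181, 221), (186, 218), (189, 217), (191, 216), (195, 213), (197, 212), (200, 209), (205, 203), (207, 202), (210, 199), (214, 193), (219, 183), (226, 161)])]
  psi2 := [120, 122, 125, 129, 134, 140, 146, 151, 155, 158, 160, 168, 173, 177, 180, 182, 187, 190, 192, 196, 198, 201, 206, 208, 211, 215, 220, 227]

/-- The first bound of a level. -/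
def bigE80 : BigData where
  b0 := 227
  words := [(122, [0, 2, 3, 1, 4, 3, 2, 0, 5, 4, 3, 1, 2, 3, 4, 5]), (125, [0, 2, 3, 1, 4, 3, 2, 0, 5, 4, 3, 1, 2, 3, 4]), (129, [0, 2, 3, 1, 4, 3, 2, 0, 5, 4, 3, 1, 2, 3]), (134, [0, 2, 3, 1, 4, 3, 2, 0, 5, 4, 3, 1, 2]), (140, [0, 2, 3, 1, 4, 3, 2, 0, 5, 4, 3, 1]), (146, [0, 2, 3, 1, 4, 3, 2, 0, 5, 4, 3, 2]), (151, [0, 2, 3, 1, 4, 3, 2, 0, 5, 4, 3]), (155, [0, 2, 3, 1, 4, 3, 2, 0, 5, 4]), (158, [0, 2, 3, 1, 4, 3, 2, 0, 5]), (160, [0, 2, 3, 1, 4, 3, 2, 0]), (168, [0, 2, 3, 1, 4, 3, 2, 5, 4, 3, 1]), (173, [0, 2, 3, 1, 4, 3, 2, 5, 4, 3]), (177, [0, 2, 3, 1, 4, 3, 2, 5, 4]), (180, [0, 2, 3, 1, 4, 3, 2, 5]), (182, [0, 2, 3, 1, 4, 3, 2]), (187, [0, 2, 3, 1, 4, 3, 5, 4]), (190, [0, 2, 3, 1, 4, 3, 5]), (192, [0, 2, 3, 1, 4, 3]), (196, [0, 2, 3, 1, 4, 5]), (198, [0, 2, 3, 1, 4]), (201, [0, 2, 3, 1]), (206, [0, 2, 3, 4, 5]), (208, [0, 2, 3, 4]), (211, [0, 2, 3]), (215, [0, 2]), (220, [0]), (227, [])]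
  v1 := [1, 0, 0, 0, 0, 0, 0, -1]
  v2 := [1, 0, 0, 0, 0, 0, 0, 0]
  es1 := [(121, 237), (124, 236), (128, 235), (133, 234), (139, 233), (145, 232), (150, 231), (154, 230), (157, 229), (159, 228), (167, 225), (172, 224), (176, 223), (179, 222), (181, 221), (186, 218), (189, 217), (191, 216), (195, 213), (197, 212), (200, 209), (205, 203), (207, 202), (210, 199), (214, 193), (219, 183), (226, 161)]
  es2 := [(162, 220), (163, 215), (164, 211), (165, 208), (166, 206), (169, 201), (170, 198), (171, 196), (174, 192), (175, 190), (178, 187), (184, 182), (185, 180), (188, 177), (194, 173), (204, 168)]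

/-- A descent. -/
def stepE80 : StepData where
  g := 226
  wg := []
  St' := [13, 20, 25, 29, 32, 34, 35, 39, 42, 44, 45, 48, 50, 51, 53, 54, 55, 58, 60, 61, 63, 64, 65, 67, 68, 69, 70, 72, 73, 74, 75, 76, 77, 80, 82, 83, 85, 86, 87, 89, 90, 91, 92, 94, 95, 96, 97, 98, 100, 101, 102, 103, 104, 106, 107, 108, 109, 111, 112, 113, 115, 116, 118, 121, 123, 124, 126, 127, 128, 130, 131, 132, 133, 135, 136, 137, 138, 139, 141, 142, 143, 144, 145, 147, 148, 149, 150, 152, 153, 154, 156, 157, 159, 162, 163, 164, 165, 166, 167, 169, 170, 171, 172, 174, 175, 176, 178, 179, 181, 184, 185, 186, 188, 189, 191, 194, 195, 197, 200, 204, 205, 207, 210, 214, 219, 226]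
  J' := [0, 1, 2, 3, 4, 5, 6]
  cert := [
    (120, some (162, 219), []),
    (122, some (162, 219), []),
    (125, some (162, 219), []),
    (129, some (162, 219), []),
    (134, some (162, 219), []),
    (140, some (162, 219), []),
    (146, some (162, 219), []),
    (151, some (162, 219), []),
    (155, some (162, 219), []),
    (158, some (162, 219), []),
    (160, some (162, 219), []),
    (161, some (162, 219), []),
    (168, some (169, 200), []),
    (173, some (164, 210), []),
    (177, some (163, 214), []),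
    (180, some (163, 214), []),
    (182, some (163, 214), []),
    (183, some (163, 214), []),
    (187, some (162, 219), []),
    (190, some (162, 219), []),
    (192, some (162, 219), []),
    (193, some (162, 219), []),
    (196, some (162, 219), []),
    (198, some (162, 219), []),
    (199, some (162, 219), []),
    (201, some (162, 219), []),
    (202, some (162, 219), []),
    (203, some (162, 219), []),
    (206, some (162, 219), []),
    (208, some (162, 219), []),
    (209, some (162, 219), []),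
    (211, some (162, 219), []),
    (212, some (162, 219), []),
    (213, some (162, 219), []),
    (215, some (162, 219), []),
    (216, some (162, 219), []),
    (217, some (162, 219), []),
    (218, some (162, 219), []),
    (220, some (163, 214), []),
    (221, some (163, 214), []),
    (222, some (163, 214), []),
    (223, some (163, 214), []),
    (224, some (164, 210), []),
    (225, some (169, 200), [])]

/-- A level. -/
def levE81 : LevData where
  K := levE80.K ++ levE80.psi
  psi := [121, 124, 128, 133, 139, 145, 150, 154, 157, 159, 167, 172, 176, 179, 181, 186, 189, 191, 195, 197, 200, 205, 207, 210, 214, 219, 226]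
  J := [0, 1, 2, 3, 4, 5, 6]
  St := [13, 20, 25, 29, 32, 34, 35, 39, 42, 44, 45, 48, 50, 51, 53, 54, 55, 58, 60, 61, 63, 64, 65, 67, 68, 69, 70, 72, 73, 74, 75, 76, 77, 80, 82, 83, 85, 86, 87, 89, 90, 91, 92, 94, 95, 96, 97, 98, 100, 101, 102, 103, 104, 106, 107, 108, 109, 111, 112, 113, 115, 116, 118, 121, 123, 124, 126, 127, 128, 130, 131, 132, 133, 135, 136, 137, 138, 139, 141, 142, 143, 144, 145, 147, 148, 149, 150, 152, 153, 154, 156, 157, 159, 162, 163, 164, 165, 166, 167, 169, 170, 171, 172, 174, 175, 176, 178, 179, 181, 184, 185, 186, 188, 189, 191, 194, 195, 197, 200, 204, 205, 207, 210, 214, 219, 226]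
  z := 226
  v := [0, 0, 0, 0, 0, 0, 0, -1]
  cells := [
    (121, [0, 2, 3, 1, 4, 3, 2, 0, 5, 4, 3, 1, 2, 3, 4, 5], []),
    (124, [0, 2, 3, 1, 4, 3, 2, 0, 5, 4, 3, 1, 2, 3, 4], [(123, 121)]),
    (128, [0, 2, 3, 1, 4, 3, 2, 0, 5, 4, 3, 1, 2, 3], [(126, 124), (127, 121)]),
    (133, [0, 2, 3, 1, 4, 3, 2, 0, 5, 4, 3, 1, 2], [(130, 128), (131, 124), (132, 121)]),
    (139, [0, 2, 3, 1, 4, 3, 2, 0, 5, 4, 3, 1], [(135, 133), (136, 128), (137, 124), (138, 121)]),
    (145, [0, 2, 3, 1, 4, 3, 2, 0, 5, 4, 3, 2], [(141, 133), (142, 128), (143, 124), (144, 121)]),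
    (150, [0, 2, 3, 1, 4, 3, 2, 0, 5, 4, 3], [(135, 145), (141, 139), (147, 128), (148, 124), (149, 121)]),
    (154, [0, 2, 3, 1, 4, 3, 2, 0, 5, 4], [(130, 150), (136, 145), (142, 139), (147, 133), (152, 124), (153, 121)]),
    (157, [0, 2, 3, 1, 4, 3, 2, 0, 5], [(126, 154), (131, 150), (137, 145), (143, 139), (148, 133), (152, 128), (156, 121)]),
    (159, [0, 2, 3, 1, 4, 3, 2, 0], [(123, 157), (127, 154), (132, 150), (138, 145), (144, 139), (149, 133), (153, 128), (156, 124)]),
    (167, [0, 2, 3, 1, 4, 3, 2, 5, 4, 3, 1], [(162, 139), (163, 133), (164, 128), (165, 124), (166, 121)]),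
    (172, [0, 2, 3, 1, 4, 3, 2, 5, 4, 3], [(141, 167), (162, 150), (163, 145), (169, 128), (170, 124), (171, 121)]),
    (176, [0, 2, 3, 1, 4, 3, 2, 5, 4], [(130, 172), (142, 167), (162, 154), (164, 145), (169, 133), (174, 124), (175, 121)]),
    (179, [0, 2, 3, 1, 4, 3, 2, 5], [(126, 176), (131, 172), (143, 167), (162, 157), (165, 145), (170, 133), (174, 128), (178, 121)]),
    (181, [0, 2, 3, 1, 4, 3, 2], [(123, 179), (127, 176), (132, 172), (144, 167), (162, 159), (166, 145), (171, 133), (175, 128), (178, 124)]),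
    (186, [0, 2, 3, 1, 4, 3, 5, 4], [(135, 176), (136, 172), (147, 167), (163, 154), (164, 150), (169, 139), (184, 124), (185, 121)]),
    (189, [0, 2, 3, 1, 4, 3, 5], [(126, 186), (135, 179), (137, 172), (148, 167), (163, 157), (165, 150), (170, 139), (184, 128), (188, 121)]),
    (191, [0, 2, 3, 1, 4, 3], [(123, 189), (127, 186), (135, 181), (138, 172), (149, 167), (163, 159), (166, 150), (171, 139), (185, 128), (188, 124)]),
    (195, [0, 2, 3, 1, 4, 5], [(130, 189), (131, 186), (136, 179), (137, 176), (152, 167), (164, 157), (165, 154), (174, 139), (184, 133), (194, 121)]),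
    (197, [0, 2, 3, 1, 4], [(123, 195), (130, 191), (132, 186), (136, 181), (138, 176), (153, 167), (164, 159), (166, 154), (175, 139), (185, 133), (194, 124)]),
    (200, [0, 2, 3, 1], [(126, 197), (127, 195), (131, 191), (132, 189), (137, 181), (138, 179), (156, 167), (165, 159), (166, 157), (178, 139), (188, 133), (194, 128)]),
    (205, [0, 2, 3, 4, 5], [(141, 195), (142, 189), (143, 186), (147, 179), (148, 176), (152, 172), (169, 157), (170, 154), (174, 150), (184, 145), (204, 121)]),
    (207, [0, 2, 3, 4], [(123, 205), (141, 197), (142, 191), (144, 186), (147, 181), (149, 176), (153, 172), (169, 159), (171, 154), (175, 150), (185, 145), (204, 124)]),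
    (210, [0, 2, 3], [(126, 207), (127, 205), (141, 200), (143, 191), (144, 189), (148, 181), (149, 179), (156, 172), (170, 159), (171, 157), (178, 150), (188, 145), (204, 128)]),
    (214, [0, 2], [(130, 210), (131, 207), (132, 205), (142, 200), (143, 197), (144, 195), (152, 181), (153, 179), (156, 176), (174, 159), (175, 157), (178, 154), (194, 145), (204, 133)]),
    (219, [0], [(135, 214), (136, 210), (137, 207), (138, 205), (147, 200), (148, 197), (149, 195), (152, 191), (153, 189), (156, 186), (184, 159), (185, 157), (188, 154), (194, 150), (204, 139)]),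
    (226, [], [(162, 219), (163, 214), (164, 210), (165, 207), (166, 205), (169, 200), (170, 197), (171, 195), (174, 191), (175, 189), (178, 186), (184, 181), (185, 179), (188, 176), (194, 172), (204, 167)])]
  psi2 := [121, 124, 128, 133, 139, 145, 150, 154, 157, 159]

/-- The first bound of a level. -/
def bigE81 : BigData where
  b0 := 159
  words := [(121, [5, 4, 3, 1, 2, 3, 4, 5]), (124, [5, 4, 3, 1, 2, 3, 4]), (128, [5, 4, 3, 1, 2, 3]), (133, [5, 4, 3, 1, 2]), (139, [5, 4, 3, 1]), (145, [5, 4, 3, 2]), (150, [5, 4, 3]), (154, [5, 4]), (157, [5]), (159, [])]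
  v1 := [0, 0, 0, 0, 0, -1, 0, -1]
  v2 := [0, 0, 0, 0, 0, 1, 0, 0]
  es1 := [(162, 219), (163, 214), (164, 210), (165, 207), (166, 205), (169, 200), (170, 197), (171, 195), (174, 191), (175, 189), (178, 186), (184, 181), (185, 179), (188, 176), (194, 172), (204, 167)]
  es2 := [(123, 157), (127, 154), (132, 150), (138, 145), (144, 139), (149, 133), (153, 128), (156, 124)]

/-- A descent. -/
def stepE81 : StepData where
  g := 204
  wg := [0, 2, 3, 4, 5, 6]
  St' := [35, 45, 51, 54, 55, 61, 64, 65, 68, 69, 70, 73, 74, 75, 76, 77, 83, 86, 87, 90, 91, 92, 95, 96, 97, 98, 101, 102, 103, 104, 107, 108, 109, 112, 113, 116, 123, 126, 127, 130, 131, 132, 135, 136, 137, 138, 141, 142, 143, 144, 147, 148, 149, 152, 153, 156, 162, 163, 164, 165, 166, 169, 170, 171, 174, 175, 178, 184, 185, 188, 194, 204]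
  J' := [0, 1, 2, 3, 4, 5]
  cert := [
    (121, some (141, 194), []),
    (124, some (141, 194), []),
    (128, some (141, 194), []),
    (133, some (141, 194), []),
    (139, some (141, 194), []),
    (145, some (147, 178), []),
    (150, some (142, 188), []),
    (154, some (141, 194), []),
    (157, some (141, 194), []),
    (159, some (141, 194), []),
    (167, some (141, 194), []),
    (172, some (142, 188), []),
    (176, some (141, 194), []),
    (179, some (141, 194), []),
    (181, some (141, 194), []),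
    (186, some (141, 194), []),
    (189, some (141, 194), []),
    (191, some (141, 194), []),
    (195, some (142, 188), []),
    (197, some (142, 188), []),
    (200, some (143, 185), [])]

/-- A level. -/
def levE82 : LevData where
  K := levE81.K ++ levE81.psi
  psi := [162, 163, 164, 165, 166, 169, 170, 171, 174, 175, 178, 184, 185, 188, 194, 204]
  J := [0, 1, 2, 3, 4, 5]
  St := [35, 45, 51, 54, 55, 61, 64, 65, 68, 69, 70, 73, 74, 75, 76, 77, 83, 86, 87, 90, 91, 92, 95, 96, 97, 98, 101, 102, 103, 104, 107, 108, 109, 112, 113, 116, 123, 126, 127, 130, 131, 132, 135, 136, 137, 138, 141, 142, 143, 144, 147, 148, 149, 152, 153, 156, 162, 163, 164, 165, 166, 169, 170, 171, 174, 175, 178, 184, 185, 188, 194, 204]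
  z := 204
  v := [0, 0, 0, 0, 0, 0, -1, 0]
  cells := [
    (162, [1, 3, 2, 4, 3, 1, 5, 4, 3, 2], []),
    (163, [1, 3, 2, 4, 3, 1, 5, 4, 3], [(135, 162)]),
    (164, [1, 3, 2, 4, 3, 1, 5, 4], [(130, 163), (136, 162)]),
    (165, [1, 3, 2, 4, 3, 1, 5], [(126, 164), (131, 163), (137, 162)]),
    (166, [1, 3, 2, 4, 3, 1], [(123, 165), (127, 164), (132, 163), (138, 162)]),
    (169, [1, 3, 2, 4, 3, 5, 4], [(141, 164), (142, 163), (147, 162)]),
    (170, [1, 3, 2, 4, 3, 5], [(126, 169), (141, 165), (143, 163), (148, 162)]),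
    (171, [1, 3, 2, 4, 3], [(123, 170), (127, 169), (141, 166), (144, 163), (149, 162)]),
    (174, [1, 3, 2, 4, 5], [(130, 170), (131, 169), (142, 165), (143, 164), (152, 162)]),
    (175, [1, 3, 2, 4], [(123, 174), (130, 171), (132, 169), (142, 166), (144, 164), (153, 162)]),
    (178, [1, 3, 2], [(126, 175), (127, 174), (131, 171), (132, 170), (143, 166), (144, 165), (156, 162)]),
    (184, [1, 3, 4, 5], [(135, 174), (136, 170), (137, 169), (147, 165), (148, 164), (152, 163)]),
    (185, [1, 3, 4], [(123, 184), (135, 175), (136, 171), (138, 169), (147, 166), (149, 164), (153, 163)]),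
    (188, [1, 3], [(126, 185), (127, 184), (135, 178), (137, 171), (138, 170), (148, 166), (149, 165), (156, 163)]),
    (194, [1], [(130, 188), (131, 185), (132, 184), (136, 178), (137, 175), (138, 174), (152, 166), (153, 165), (156, 164)]),
    (204, [], [(141, 194), (142, 188), (143, 185), (144, 184), (147, 178), (148, 175), (149, 174), (152, 171), (153, 170), (156, 169)])]
  psi2 := [162, 163, 164, 165, 166]

/-- The first bound of a level. -/
def bigE82 : BigData where
  b0 := 166
  words := [(162, [5, 4, 3, 2]), (163, [5, 4, 3]), (164, [5, 4]), (165, [5]), (166, [])]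
  v1 := [0, 0, 0, 0, 0, -1, -1, 0]
  v2 := [0, 0, 0, 0, 0, 1, 0, 0]
  es1 := [(141, 194), (142, 188), (143, 185), (144, 184), (147, 178), (148, 175), (149, 174), (152, 171), (153, 170), (156, 169)]
  es2 := [(123, 165), (127, 164), (132, 163), (138, 162)]

/-- A descent. -/
def stepE82 : StepData where
  g := 156
  wg := [1, 3, 2, 0]
  St' := [83, 86, 87, 90, 91, 92, 95, 96, 97, 98, 101, 102, 103, 104, 107, 108, 109, 112, 113, 116, 123, 126, 127, 130, 131, 132, 135, 136, 137, 138, 141, 142, 143, 144, 147, 148, 149, 152, 153, 156]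
  J' := [1, 2, 3, 4, 5]
  cert := [
    (162, some (126, 153), []),
    (163, some (126, 153), []),
    (164, some (126, 153), []),
    (165, some (127, 152), []),
    (166, some (126, 153), []),
    (169, some (126, 153), []),
    (170, some (127, 152), []),
    (171, some (126, 153), []),
    (174, some (126, 153), []),
    (175, some (127, 152), []),
    (184, some (126, 153), []),
    (185, some (127, 152), [])]

/-- A level. -/
def levE83 : LevData where
  K := levE82.K ++ levE82.psi
  psi := [123, 127, 132, 138, 144, 149, 153, 156]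
  J := [1, 2, 3, 4, 5]
  St := [83, 86, 87, 90, 91, 92, 95, 96, 97, 98, 101, 102, 103, 104, 107, 108, 109, 112, 113, 116, 123, 126, 127, 130, 131, 132, 135, 136, 137, 138, 141, 142, 143, 144, 147, 148, 149, 152, 153, 156]
  z := 156
  v := [0, 0, 0, 0, 0, 0, -1, 0]
  cells := [
    (123, [4, 3, 1, 2, 3, 4], []),
    (127, [4, 3, 1, 2, 3], [(126, 123)]),
    (132, [4, 3, 1, 2], [(130, 127), (131, 123)]),
    (138, [4, 3, 1], [(135, 132), (136, 127), (137, 123)]),
    (144, [4, 3, 2], [(141, 132), (142, 127), (143, 123)]),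
    (149, [4, 3], [(135, 144), (141, 138), (147, 127), (148, 123)]),
    (153, [4], [(130, 149), (136, 144), (142, 138), (147, 132), (152, 123)]),
    (156, [], [(126, 153), (131, 149), (137, 144), (143, 138), (148, 132), (152, 127)])]
  psi2 := [123]

/-- The first bound of a level. -/
def bigE83 : BigData where
  b0 := 123
  words := [(123, [])]
  v1 := [-1, 0, 0, 0, 0, 0, 0, 0]
  v2 := [1, 0, 0, 0, 0, 0, -1, 0]
  es1 := [(126, 153), (131, 149), (137, 144), (143, 138), (148, 132), (152, 127)]
  es2 := []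

/-- A descent. -/
def stepE83 : StepData where
  g := 152
  wg := [4, 5]
  St' := [87, 91, 92, 96, 97, 98, 102, 103, 104, 108, 109, 113, 126, 130, 131, 135, 136, 137, 141, 142, 143, 147, 148, 152]
  J' := [1, 2, 3, 4]
  cert := [
    (123, some (130, 148), []),
    (127, some (130, 148), []),
    (132, some (136, 143), []),
    (138, some (130, 148), []),
    (144, some (130, 148), []),
    (149, some (136, 143), [])]

/-- A level. -/
def levE84 : LevData where
  K := levE83.K ++ levE83.psi
  psi := [141, 142, 143, 147, 148, 152]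
  J := [1, 2, 3, 4]
  St := [87, 91, 92, 96, 97, 98, 102, 103, 104, 108, 109, 113, 126, 130, 131, 135, 136, 137, 141, 142, 143, 147, 148, 152]
  z := 152
  v := [0, 0, 0, 0, 0, -1, 0, 0]
  cells := [
    (141, [3, 2, 4, 3], []),
    (142, [3, 2, 4], [(130, 141)]),
    (143, [3, 2], [(126, 142), (131, 141)]),
    (147, [3, 4], [(135, 142), (136, 141)]),
    (148, [3], [(126, 147), (135, 143), (137, 141)]),
    (152, [], [(130, 148), (131, 147), (136, 143), (137, 142)])]
  psi2 := [141]

/-- The first bound of a level. -/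
def bigE84 : BigData where
  b0 := 141
  words := [(141, [])]
  v1 := [0, 0, 0, 0, 0, -1, 0, 0]
  v2 := [0, 0, 0, -1, 0, -1, 0, 0]
  es1 := [(130, 148), (131, 147), (136, 143), (137, 142)]
  es2 := []

/-- A descent. -/
def stepE84 : StepData where
  g := 137
  wg := [3, 1]
  St' := [102, 103, 104, 108, 109, 113, 126, 130, 131, 135, 136, 137]
  J' := [2, 3, 4]
  cert := [
    (141, some (126, 136), []),
    (142, some (126, 136), []),
    (143, none, [1, 0, 0, 0, 0, 0, 0, 0]),
    (147, none, [0, 0, 0, 0, 0, 1, 0, 0])]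

/-- A level. -/
def levE85 : LevData where
  K := levE84.K ++ levE84.psi
  psi := [135, 136, 137]
  J := [2, 3, 4]
  St := [102, 103, 104, 108, 109, 113, 126, 130, 131, 135, 136, 137]
  z := 137
  v := [0, 0, 0, 0, 0, -1, 0, 0]
  cells := [
    (135, [4, 3], []),
    (136, [4], [(130, 135)]),
    (137, [], [(126, 136), (131, 135)])]
  psi2 := []

/-- A descent. -/
def stepE85 : StepData where
  g := 131
  wg := [2]
  St' := [108, 109, 113, 126, 130, 131]
  J' := [3, 4]
  cert := [
    (135, some (126, 130), []),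
    (136, none, [0, 0, 0, 0, 0, 1, 0, 0])]

/-- A level. -/
def levE86 : LevData where
  K := levE85.K ++ levE85.psi
  psi := [130, 131]
  J := [3, 4]
  St := [108, 109, 113, 126, 130, 131]
  z := 131
  v := [0, 0, 0, 0, 0, -1, 0, 0]
  cells := [
    (130, [4], []),
    (131, [], [(126, 130)])]
  psi2 := []

/-- A descent. -/
def stepE86 : StepData where
  g := 126
  wg := [3]
  St' := [113, 126]
  J' := [4]
  cert := [
    (130, none, [0, 0, 0, 0, 0, 1, 0, 0])]

/-- A level. -/
def levE87 : LevData where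
  K := levE86.K ++ levE86.psi
  psi := [126]
  J := [4]
  St := [113, 126]
  z := 126
  v := [0, 0, 0, 0, 0, -1, 0, 0]
  cells := [
    (126, [], [])]
  psi2 := []

/-- The central characters. -/
def heisE8 : HeisData where
  z := 239
  psi := [161, 183, 193, 199, 202, 203, 209, 212, 213, 216, 217, 218, 221, 222, 223, 224, 225, 228, 229, 230, 231, 232, 233, 234, 235, 236, 237, 238]
  opp := [(161, 227), (183, 220), (193, 215), (199, 211), (202, 208), (203, 206), (209, 201), (212, 198), (213, 196), (216, 192), (217, 190), (218, 187), (221, 182), (222, 180), (223, 177), (224, 173), (225, 168), (228, 160), (229, 158), (230, 155), (231, 151), (232, 146), (233, 140), (234, 134), (235, 129), (236, 125), (237, 122), (238, 120)]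
  g := 204
  α := 141
  β := 194

/-- A word carrying the leading root of the half to the centre. -/
def wordHalfE8 : List ℕ := [7]

/-- A word carrying the root of the central characters to the centre. -/
def wordRootE8 : List ℕ := [7, 6, 5, 4, 3, 2, 1, 3, 4, 5, 6, 7, 0, 2, 3, 4, 5, 6]

/-- A word carrying the root of the central characters to the test root. -/
def wordTestE8 : List ℕ := [0, 2, 3, 4, 5, 6]

/-- The second coordinates of the first level other than the lowest. -/
def secondE8 : List ℕ := [122, 125, 129, 134, 140, 146, 151, 155, 158, 160, 168, 173, 177, 180, 182, 187, 190, 192, 196, 198, 201, 206, 208, 211, 215, 220, 227]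

theorem chkCellsE80_0 : ((levE80.cells.drop 0).take 7).all (fun e => levE80.chkCell CfsgLib.Chev.tabE8 e) = true := by decide +kernel

theorem chkCellsE80_1 : ((levE80.cells.drop 7).take 7).all (fun e => levE80.chkCell CfsgLib.Chev.tabE8 e) = true := by decide +kernel

theorem chkCellsE80_2 : ((levE80.cells.drop 14).take 7).all (fun e => levE80.chkCell CfsgLib.Chev.tabE8 e) = true := by decide +kernel

theorem chkCellsE80_3 : ((levE80.cells.drop 21).take 7).all (fun e => levE80.chkCell CfsgLib.Chev.tabE8 e) = true := by decide +kernel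

theorem chkCellsE80_4 : ((levE80.cells.drop 28).take 7).all (fun e => levE80.chkCell CfsgLib.Chev.tabE8 e) = true := by decide +kernel

theorem chkCellsE80_5 : ((levE80.cells.drop 35).take 7).all (fun e => levE80.chkCell CfsgLib.Chev.tabE8 e) = true := by decide +kernel

theorem chkCellsE80_6 : ((levE80.cells.drop 42).take 7).all (fun e => levE80.chkCell CfsgLib.Chev.tabE8 e) = true := by decide +kernel

theorem chkCellsE80_7 : ((levE80.cells.drop 49).take 7).all (fun e => levE80.chkCell CfsgLib.Chev.tabE8 e) = true := by decide +kernel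

theorem chkHeadE80 : (chkRad CfsgLib.Chev.tabE8 levE80.K levE80.psi &&
    (levE80.K.all fun r => decide (r < CfsgLib.Chev.tabE8.n)) &&
    (levE80.psi.all fun a => decide (a ∈ levE80.St)) && decide (levE80.z ∈ levE80.psi) &&
    decide (pairV CfsgLib.Chev.tabE8 levE80.v levE80.z = 1) &&
    decide (levE80.cells.map Prod.fst = levE80.psi) && decide levE80.psi.Nodup) = true := by decide +kernel

theorem cellsE80_split : levE80.cells =
    (levE80.cells.drop 0).take 7 ++ (levE80.cells.drop 7).take 7 ++ (levE80.cells.drop 14).take 7 ++ (levE80.cells.drop 21).take 7 ++ (levE80.cells.drop 28).take 7 ++ (levE80.cells.drop 35).take 7 ++ (levE80.cells.drop 42).take 7 ++ (levE80.cells.drop 49).take 7 := rfl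

theorem chkLevE80 : levE80.chk CfsgLib.Chev.tabE8 = true := by
  rw [LevData.chk, chkHeadE80, Bool.true_and, cellsE80_split]
  simp only [List.all_append, chkCellsE80_0, chkCellsE80_1, chkCellsE80_2, chkCellsE80_3, chkCellsE80_4, chkCellsE80_5, chkCellsE80_6, chkCellsE80_7, Bool.and_self]

theorem chkLevE81 : levE81.chk CfsgLib.Chev.tabE8 = true := by decide +kernel

theorem chkLevE82 : levE82.chk CfsgLib.Chev.tabE8 = true := by decide +kernel

theorem chkLevE83 : levE83.chk CfsgLib.Chev.tabE8 = true := by decide +kernel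

theorem chkLevE84 : levE84.chk CfsgLib.Chev.tabE8 = true := by decide +kernel

theorem chkLevE85 : levE85.chk CfsgLib.Chev.tabE8 = true := by decide +kernel

theorem chkLevE86 : levE86.chk CfsgLib.Chev.tabE8 = true := by decide +kernel

theorem chkLevE87 : levE87.chk CfsgLib.Chev.tabE8 = true := by decide +kernel

theorem chkBigE81 : bigE81.chk CfsgLib.Chev.tabE8 levE81 = true := by decide +kernel

theorem chkBigE82 : bigE82.chk CfsgLib.Chev.tabE8 levE82 = true := by decide +kernel

theorem chkBigE83 : bigE83.chk CfsgLib.Chev.tabE8 levE83 = true := by decide +kernel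

theorem chkBigE84 : bigE84.chk CfsgLib.Chev.tabE8 levE84 = true := by decide +kernel

theorem chkBigE80 : bigE80.chkOn CfsgLib.Chev.tabE8 levE80 secondE8 = true := by decide +kernel

theorem chkPreE80 : chkPre CfsgLib.Chev.tabE8 levE80 secondE8 13 120 = true := by decide +kernel

theorem chkStepE80 : stepE80.chkTest CfsgLib.Chev.tabE8 levE80 = true := by decide +kernel

theorem chkStepE81 : stepE81.chk CfsgLib.Chev.tabE8 levE81 = true := by decide +kernel

theorem chkStepE82 : stepE82.chk CfsgLib.Chev.tabE8 levE82 = true := by decide +kernel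

theorem chkStepE83 : stepE83.chk CfsgLib.Chev.tabE8 levE83 = true := by decide +kernel

theorem chkStepE84 : stepE84.chk CfsgLib.Chev.tabE8 levE84 = true := by decide +kernel

theorem chkStepE85 : stepE85.chk CfsgLib.Chev.tabE8 levE85 = true := by decide +kernel

theorem chkStepE86 : stepE86.chk CfsgLib.Chev.tabE8 levE86 = true := by decide +kernel

theorem chkHeisE8 : heisE8.chk CfsgLib.Chev.tabE8 = true := by decide +kernel

end CfsgLib.EMinDeg
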