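import Cfsg.Agent.Lib.EMinDeg.Roots
import Cfsg.Agent.Lib.Chev.ParabolicOrder

/-!
The parabolic subgroup normalising a root subgroup and the index of the centralizer of a root element.
-/

set_option autoImplicit false
set_option linter.unusedSectionVars false

namespace CfsgLib.EMinDeg

open Cfsg.Lie CfsgLib.Chev

/-- The roots pairing positively with `z` determine it, and a list of words fixes it and them. -/
noncomputable def chkFix (T : Tab) (z : ℕ) (R : List ℕ) (L : List (List ℕ)) : Bool :=
  decide (z ∈ R) && decide R.Nodup && (R.all fun r => decide (r < T.n) && decide (0 < T.pairing z r)) &&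
  (R.all fun y => decide (y = z) || R.any fun s => decide (T.pairing y s ≤ 0)) &&
  L.all fun w => R.all fun r => decide (rword T w r ∈ R)

/-- The last level followed by the previous ones, keeping the words fixing `z`. -/
noncomputable def fixWords (T : Tab) (v : Level) (W : List (List ℕ)) (z : ℕ) : List (List ℕ) :=
  v.reps.flatMap fun d => (W.filter fun u => Nat.beq (T.rwordF d (T.rwordF u z)) z).map fun u => d ++ u

variable {D : ChevalleyDatum} {T : Tab} {C : Tab.Cover} (h : Cert D T C)

include h in
theorem stabWords_eq {Lv : List Level} (hLv : T.chkLevels Lv = true) {v : Level} {k : ℕ} (hk : k + 1 = T.l)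
    (hv : Lv[k]? = some v) {z : ℕ} {R : List ℕ}
    (hchk : chkFix T z R (fixWords T v (transversal Lv k) z) = true) :
    T.stabWords R (transversal Lv T.l) = fixWords T v (transversal Lv k) z := by
  simp only [chkFix, Bool.and_eq_true, Bool.or_eq_true, List.all_eq_true, List.any_eq_true,
    decide_eq_true_eq] at hchk
  obtain ⟨⟨⟨⟨hz, hnd⟩, hpos⟩, huniq⟩, hL⟩ := hchk
  have hfw : fixWords T v (transversal Lv k) z =
      (transversal Lv T.l).filter fun w => decide (rword T w z = z) := by
    rw [← hk, transversal, hv, Option.map_some, Option.getD_some, List.filter_flatMap, fixWords]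
    refine List.flatMap_congr fun d _ => ?_
    rw [List.filter_map]
    congr 1
    refine List.filter_congr fun u _ => ?_
    rw [Function.comp_apply, rword_append, Tab.rwordF_eq, Tab.rwordF_eq]
    exact Bool.eq_iff_iff.2 (by simp [Nat.beq_eq])
  rw [hfw, Tab.stabWords]
  refine List.filter_congr fun w hw => ?_
  have hok : WordOK T w := h.transversal_ok hLv le_rfl hw
  refine Bool.eq_iff_iff.2 ?_
  simp only [List.all_eq_true, decide_eq_true_eq]
  constructor
  · intro hst
    have hzn := (hpos z hz).1
    have hsurj : ∀ s ∈ R, ∃ r ∈ R, rword T w r = s := by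
      intro s hs
      have hinj : Set.InjOn (rword T w) (R.toFinset : Set ℕ) := fun a ha b hb e => by
        simp only [Finset.mem_coe, List.mem_toFinset] at ha hb
        have e' := congrArg (rword T w.reverse) e
        rwa [h.rword_rev hok (hpos a ha).1, h.rword_rev hok (hpos b hb).1] at e'
      obtain ⟨r, hr, e⟩ := Finset.surj_on_of_inj_on_of_card_le (s := R.toFinset) (t := R.toFinset)
        (fun a _ => rword T w a) (fun a ha => List.mem_toFinset.2 (hst a (List.mem_toFinset.1 ha)))
        (fun a b ha hb e => hinj (by simpa using ha) (by simpa using hb) e) le_rfl s (List.mem_toFinset.2 hs)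
      exact ⟨r, List.mem_toFinset.1 hr, e.symm⟩
    rcases huniq _ (hst z hz) with e | ⟨s, hs, hle⟩
    · exact e
    · obtain ⟨r, hr, rfl⟩ := hsurj s hs
      rw [h.pairing_rword hok hzn (hpos r hr).1] at hle
      exact absurd hle (not_le.2 (hpos r hr).2)
  · intro e r hr
    refine hL w ?_ r hr
    rw [hfw]
    exact List.mem_filter.2 ⟨hw, by simpa using e⟩

variable {F : Type*} [Field F]

include h in
/-- The scalars by which a root subgroup is stretched. -/
theorem exists_stretch {z : ℕ} (hz : z < T.n) (S : Set (GL D.Idx F)) (hS : ∀ g ∈ S, Maps D g z z) :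
    ∀ g ∈ Subgroup.closure S, Maps D g z z := fun g hg => by
  induction hg using Subgroup.closure_induction with
  | mem x hx => exact hS x hx
  | one => exact ⟨1, one_ne_zero, fun t => by simp⟩
  | mul x y _ _ hx hy => exact Cert.Maps_mul hy hx
  | inv x _ hx => exact Cert.Maps_inv hx

include h in
theorem maps_parabolic {z : ℕ} (hz : z < T.n) {J : Set ℕ}
    (hU : ((List.range T.n).all fun r => decide (r < T.half) || chkTerms T [] r z) = true)
    (hJ : ∀ j ∈ J, j < T.l → T.refl j z = z) :
    ∀ g ∈ D.parabolicSubgroup F J, Maps D g z z := by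
  have hu : D.posUnipotent F ≤ Subgroup.closure {g | Maps D g z z} := by
    rw [h.posUnipotent_eq]
    refine (Subgroup.closure_le _).2 ?_
    rintro g ⟨r, ⟨hr1, hr2⟩, t, rfl⟩
    refine Subgroup.subset_closure ⟨1, one_ne_zero, fun u => ?_⟩
    simp only [List.all_eq_true, List.mem_range, Bool.or_eq_true, decide_eq_true_eq] at hU
    have e := congrArg Subtype.val (xr_comm h hr2 hz ((hU r hr2).resolve_left (by omega)) t u)
    simp only [Subgroup.coe_mul, coe_xr h hr2, coe_xr h hz] at e
    rw [e, mul_inv_cancel_right, one_mul]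
  have hP : D.parabolicSubgroup F J ≤ Subgroup.closure {g | Maps D g z z} := by
    refine sup_le (sup_le hu fun g hg => Subgroup.subset_closure (h.Maps_diagonal hg hz)) ?_
    refine (Subgroup.closure_le _).2 ?_
    rintro g ⟨j, hjJ, hj, e⟩
    have hj' : j < T.l := lt_of_lt_of_eq hj h.rank_eq
    obtain rfl : g = nS D F j := Units.ext (e.trans (h.coe_nS j).symm)
    have := h.Maps_nS (F := F) hj' hz
    rw [hJ j hjJ hj'] at this
    exact Subgroup.subset_closure this
  exact fun g hg => exists_stretch h hz _ (fun _ hx => hx) g (hP hg)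

include h in
/-- The index of the centralizer divides the index of the parabolic times the number of scalars. -/
theorem index_centralizer_dvd [Fintype F] {z : ℕ} (hz : z < T.n) {J : Set ℕ}
    (hU : ((List.range T.n).all fun r => decide (r < T.half) || chkTerms T [] r z) = true)
    (hJ : ∀ j ∈ J, j < T.l → T.refl j z = z) :
    (Subgroup.centralizer ({xr h z (1 : F)} : Set (Gp D F))).index ∣
      (Fintype.card F - 1) * ((D.parabolicSubgroup F J).subgroupOf (D.group F)).index := by
  classical
  set P := (D.parabolicSubgroup F J).subgroupOf (D.group F)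
  have hmap : ∀ p : P, ∃ c : Fˣ, ∀ t, (p : Gp D F) * xr h z t * (p : Gp D F)⁻¹ = xr h z ((c : F) * t) :=
    fun p => by
      obtain ⟨c, hc, e⟩ := maps_parabolic h hz hU hJ _ p.2
      refine ⟨Units.mk0 c hc, fun t => Subtype.ext ?_⟩
      simp only [Subgroup.coe_mul, InvMemClass.coe_inv, coe_xr h hz, Units.val_mk0]
      exact e t
  choose χ hχ using hmap
  have huniq : ∀ (p : P) (c : Fˣ), (∀ t, (p : Gp D F) * xr h z t * (p : Gp D F)⁻¹ = xr h z ((c : F) * t)) →
      χ p = c := fun p c hc => by
    have e := congrArg Subtype.val ((hχ p 1).symm.trans (hc 1))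
    simp only [coe_xr h hz, mul_one] at e
    have e2 : X D z ((χ p : F) - c) = 1 := by
      rw [sub_eq_add_neg, ← h.X_add hz, ← h.X_inv hz, e, mul_inv_cancel]
    exact Units.ext (sub_eq_zero.1 ((h.X_eq_one_iff hz _).1 e2))
  let φ : P →* Fˣ :=
    { toFun := χ
      map_one' := huniq 1 1 fun t => by simp
      map_mul' := fun a b => huniq _ _ fun t => by
        rw [Subgroup.coe_mul, Units.val_mul, mul_assoc (χ a : F), ← hχ a, ← hχ b]
        group }
  have hker : φ.ker.map P.subtype ≤ Subgroup.centralizer ({xr h z (1 : F)} : Set (Gp D F)) := by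
    rintro x ⟨p, hp, rfl⟩
    rw [Subgroup.mem_centralizer_singleton_iff]
    have e := hχ p 1
    rw [show χ p = 1 from hp, Units.val_one, one_mul, mul_inv_eq_iff_eq_mul] at e
    exact e
  refine (Subgroup.index_dvd_of_le hker).trans ?_
  rw [Subgroup.index_map_subtype]
  refine Nat.mul_dvd_mul ?_ dvd_rfl
  rw [Subgroup.index_ker]
  have := Subgroup.card_subgroup_dvd_card φ.range
  rwa [Nat.card_eq_fintype_card (α := Fˣ), Fintype.card_units] at this

end CfsgLib.EMinDeg
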