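import Cfsg.Agent.Lib.EMinDeg.Run

/-!
One step of the chain of radicals: either some weight has a large orbit, or all weights of the radical
are translates of multiples of a coordinate weight.
-/

set_option autoImplicit false
set_option linter.unusedSectionVars false

namespace CfsgLib.EMinDeg

open Module Cfsg.Lie CfsgLib.Chev CfsgLib.GTwoMinDeg

/-- The data of one step. -/
structure LevData where
  K : List ℕ
  psi : List ℕ
  J : List ℕ
  St : List ℕ
  z : ℕ
  v : List ℤ
  cells : List (ℕ × List ℕ × List (ℕ × ℕ))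
  psi2 : List ℕ

namespace LevData

/-- The allowed coordinates under a leading one. -/
def below (d : LevData) (m : ℕ) : List ℕ := d.psi.filter fun a => decide (a ≤ m)

/-- The check of one cell. -/
noncomputable def chkCell (T : Tab) (d : LevData) (e : ℕ × List ℕ × List (ℕ × ℕ)) : Bool :=
  chkWord T d.J d.psi e.2.1 && decide (rword T e.2.1.reverse d.z = e.1) &&
  chkRun T d.K d.psi (d.below e.1) [e.1] e.1 e.2.2 &&
  (e.2.2.all fun p => decide (p.1 ∈ d.St)) &&
  d.psi.all fun b => decide (b = d.z) || decide (e.1 < rword T e.2.1.reverse b) ||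
    decide (rword T e.2.1.reverse b ∈ e.2.2.map Prod.snd) || decide (b ∈ d.psi2)

/-- The check of one step. -/
noncomputable def chk (T : Tab) (d : LevData) : Bool :=
  chkRad T d.K d.psi && (d.K.all fun r => decide (r < T.n)) && (d.psi.all fun a => decide (a ∈ d.St)) &&
  decide (d.z ∈ d.psi) && decide (pairV T d.v d.z = 1) && decide (d.cells.map Prod.fst = d.psi) &&
  decide d.psi.Nodup &&
  d.cells.all fun e => d.chkCell T e

/-- The exponents of the cells. -/
def expo (d : LevData) : List (ℕ × ℕ) := d.cells.map fun e => (e.1, e.2.2.length)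

theorem chk_spec {T : Tab} {d : LevData} (h : d.chk T = true) :
    chkRad T d.K d.psi = true ∧ (∀ r ∈ d.K, r < T.n) ∧ (∀ a ∈ d.psi, a ∈ d.St) ∧ d.z ∈ d.psi ∧
      pairV T d.v d.z = 1 ∧ d.cells.map Prod.fst = d.psi ∧ d.psi.Nodup ∧
      ∀ e ∈ d.cells, d.chkCell T e = true := by
  simp only [chk, Bool.and_eq_true, decide_eq_true_eq, List.all_eq_true] at h
  obtain ⟨⟨⟨⟨⟨⟨⟨h1, h2⟩, h3⟩, h4⟩, h5⟩, h6⟩, h7⟩, h8⟩ := h
  exact ⟨h1, h2, h3, h4, h5, h6, h7, h8⟩

theorem cell_spec {T : Tab} {d : LevData} {e : ℕ × List ℕ × List (ℕ × ℕ)}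
    (h : d.chkCell T e = true) :
    WordOK T e.2.1 ∧ (∀ i ∈ e.2.1, i ∈ d.J) ∧ (∀ b ∈ d.psi, rword T e.2.1.reverse b ∈ d.psi) ∧
      rword T e.2.1.reverse d.z = e.1 ∧ chkRun T d.K d.psi (d.below e.1) [e.1] e.1 e.2.2 = true ∧
      (∀ p ∈ e.2.2, p.1 ∈ d.St) ∧
      ∀ b ∈ d.psi, b = d.z ∨ e.1 < rword T e.2.1.reverse b ∨
        rword T e.2.1.reverse b ∈ e.2.2.map Prod.snd ∨ b ∈ d.psi2 := by
  simp only [chkCell, chkWord, Bool.and_eq_true, Bool.or_eq_true, decide_eq_true_eq,
    List.all_eq_true] at h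
  obtain ⟨⟨⟨⟨⟨h1, h2⟩, h3⟩, h4⟩, h5⟩, h6⟩ := h
  exact ⟨fun i hi => (h1 i hi).1, fun i hi => (h1 i hi).2, h2, h3, h4, h5,
    fun b hb => by simpa [or_assoc] using h6 b hb⟩

end LevData

variable {D : ChevalleyDatum} {T : Tab} {C : Tab.Cover} (h : Cert D T C)
variable {F : Type*} [Field F] [Fintype F] [DecidableEq F]
variable {V : Type*} [AddCommGroup V] [Module ℂ V] [FiniteDimensional ℂ V]

/-- A weight concentrated at one coordinate. -/
def unit (psi : List ℕ) (a : ℕ) (t : F) : Ix psi → F := fun b => if (b : ℕ) = a then t else 0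

theorem co_unit {psi : List ℕ} {a b : ℕ} (hb : b ∈ psi) (t : F) :
    co (unit psi a t) b = if b = a then t else 0 := by rw [co_of_mem _ hb]; rfl

variable {ρ : Representation ℂ (Gp D F) V} {d : LevData} {E : Module.End ℂ V} {ψ : AddChar F ℂ}
  (hd : d.chk T = true) (hE : On h ρ d.K d.St d.J E) (hψ : ψ.IsPrimitive)

/-- The family of the radical. -/
noncomputable def rad : Rad ρ (Ix d.psi) F :=
  mkRad h hE.idem hE.fix (LevData.chk_spec hd).2.1
    (fun r hr => hE.comm r ((LevData.chk_spec hd).2.2.1 r hr)) (LevData.chk_spec hd).1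

theorem ties : Ties h (rad h hd hE) d.K := by
  refine ⟨fun _ => rfl, hE.fix, fun a ha => ?_⟩
  have := (LevData.chk_spec hd).1
  simp only [chkRad, Bool.and_eq_true, decide_eq_true_eq, List.all_eq_true] at this
  exact (this a ha).1

/-- The common multiplicity. -/
noncomputable def theMult (ψ : AddChar F ℂ) : ℕ := mult (rad h hd hE) ψ (unit d.psi d.z 1)

/-- The projection on the fixed vectors of the radical. -/
noncomputable def nextE (ψ : AddChar F ℂ) : Module.End ℂ V := (rad h hd hE).Q ψ 0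

/-- The weights of the cells. -/
noncomputable def pt (T : Tab) (d : LevData) (i : Fin d.cells.length) (a : Fˣ) (s : Par F d.cells[i].2.2) :
    Ix d.psi → F := run T d.cells[i].2.2 (ext0 s) (unit d.psi d.cells[i].1 (a : F))

theorem cell_mem (hd : d.chk T = true) (i : Fin d.cells.length) :
    d.cells[i].1 ∈ d.psi ∧ d.chkCell T d.cells[i] = true := by
  obtain ⟨-, -, -, -, -, h6, -, h8⟩ := LevData.chk_spec hd
  refine ⟨?_, h8 _ (List.getElem_mem i.2)⟩
  have := List.mem_map_of_mem (f := Prod.fst) (List.getElem_mem i.2)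
  rwa [h6] at this

theorem supp_unit {i : Fin d.cells.length} (t : F) :
    Supp (d.below d.cells[i].1) (unit d.psi d.cells[i].1 t) := fun a ha hna => by
  rw [co_unit ha, if_neg]
  rintro rfl
  exact hna (List.mem_filter.2 ⟨ha, by simp⟩)

include hd in
theorem pt_lead (i : Fin d.cells.length) (a : Fˣ) (s : Par F d.cells[i].2.2) :
    co (pt T d i a s) d.cells[i].1 = a ∧ ∀ b ∈ d.psi, d.cells[i].1 < b → co (pt T d i a s) b = 0 := by
  obtain ⟨hm, hc⟩ := cell_mem hd i
  obtain ⟨-, -, -, -, hr, -, -⟩ := LevData.cell_spec hc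
  refine ⟨?_, fun b hb hlt => supp_run hr _ (supp_unit _) b hb fun hin => ?_⟩
  · rw [pt, run_keep hr _ (supp_unit _) _ List.mem_cons_self, co_unit hm, if_pos rfl]
  · simp only [LevData.below, List.mem_filter, decide_eq_true_eq] at hin
    omega

include hd in
theorem pt_inj {i j : Fin d.cells.length} {a : Fˣ} {b : Fˣ} {s : Par F d.cells[i].2.2}
    {t : Par F d.cells[j].2.2} (e : pt T d i a s = pt T d j b t) :
    (⟨i, a, s⟩ : Σ i : Fin d.cells.length, Fˣ × Par F d.cells[i].2.2) = ⟨j, b, t⟩ := by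
  obtain ⟨-, -, -, -, -, h6, h7, -⟩ := LevData.chk_spec hd
  have hi := pt_lead hd i a s
  have hj := pt_lead hd j b t
  rw [e] at hi
  have hij : d.cells[i].1 = d.cells[j].1 := by
    rcases lt_trichotomy d.cells[i].1 d.cells[j].1 with hl | he | hl
    · exact absurd (hj.1.symm.trans (hi.2 _ (cell_mem hd j).1 hl)) b.ne_zero
    · exact he
    · exact absurd (hi.1.symm.trans (hj.2 _ (cell_mem hd i).1 hl)) a.ne_zero
  obtain rfl : i = j := by
    have hnd : (d.cells.map Prod.fst).Nodup := by rw [h6]; exact h7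
    have := (List.Nodup.getElem_inj_iff hnd (i := i.1) (j := j.1) (hi := by simp) (hj := by simp)).1
      (by simpa using hij)
    exact Fin.ext this
  obtain ⟨hm, hc⟩ := cell_mem hd i
  obtain ⟨-, -, -, -, hr, -, -⟩ := LevData.cell_spec hc
  obtain ⟨hab⟩ : PLift ((a : F) = b) := ⟨hi.1.symm.trans hj.1⟩
  obtain rfl : a = b := Units.ext hab
  obtain ⟨-, hs⟩ := run_inj (List.mem_cons_self) hr (supp_unit (a : F)) (supp_unit (a : F))
    (fun _ _ => rfl) rfl (by rw [co_unit hm, if_pos rfl]; exact a.ne_zero) e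
  rw [ext0_inj hs]

include hψ

theorem reach_unit_z (i : Fin d.cells.length) (a : Fˣ) :
    Reach (rad h hd hE) ψ (unit d.psi d.cells[i].1 (a : F)) (unit d.psi d.z 1) := by
  obtain ⟨hm, hc⟩ := cell_mem hd i
  obtain ⟨hw, hJ, hwp, hz, -, -, -⟩ := LevData.cell_spec hc
  obtain ⟨-, -, -, hzm, hv, -⟩ := LevData.chk_spec hd
  have ht := ties h hd hE
  obtain ⟨c, hc0, hcj⟩ := cj_wel h hψ ht hw (hE.welC _ hw hJ) hwp
  obtain ⟨χ, hχ, hco⟩ := hcj (unit d.psi d.cells[i].1 (a : F))
  refine Reach.trans ⟨_, hχ⟩ ?_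
  have hwr : WordOK T d.cells[i].2.1.reverse := fun j hj => hw j (List.mem_reverse.1 hj)
  have e : χ = unit d.psi d.z (c d.z * a) := co_ext fun b hb => by
    rw [hco b hb, co_unit hb, co_unit (hwp b hb)]
    by_cases hbz : b = d.z
    · subst hbz
      rw [if_pos hz, if_pos rfl]
    · rw [if_neg hbz, if_neg, mul_zero]
      intro e'
      refine hbz ?_
      rw [← hz] at e'
      have := congrArg (rword T d.cells[i].2.1) e'
      rwa [Cert.rword_reverse h hw (ht.lt b hb), Cert.rword_reverse h hw (ht.lt _ hzm)] at this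
  rw [e]
  have key := reach_tor h hψ ht d.v (Units.mk0 (c d.z * a) (mul_ne_zero (hc0 _ hzm) a.ne_zero))
    (hE.torC _ _) (unit d.psi d.z (c d.z * a))
  refine (cast (congrArg _ ?_) key)
  funext b
  by_cases hbz : (b : ℕ) = d.z
  · simp only [unit, hbz, if_true, hv, zpow_one, Units.val_mk0]
    exact inv_mul_cancel₀ (mul_ne_zero (hc0 _ hzm) a.ne_zero)
  · simp only [unit, if_neg hbz, mul_zero]

theorem mult_pt (i : Fin d.cells.length) (a : Fˣ) (s : Par F d.cells[i].2.2) :
    mult (rad h hd hE) ψ (pt T d i a s) = theMult h hd hE ψ := by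
  obtain ⟨-, -, -, -, hr, hst, -⟩ := LevData.cell_spec (cell_mem hd i).2
  exact ((reach_run h hψ (ties h hd hE) hr (fun e he => hE.comm _ (hst e he)) _ _).symm.trans
    (reach_unit_z h hd hE hψ i a)).mult_eq hψ

omit hψ in
/-- A weight with a coordinate outside the leading one has a large orbit. -/
def BigAt (ψ : AddChar F ℂ) (B : ℕ) : Prop :=
  ∀ φ : Ix d.psi → F, Supp (d.z :: d.psi2) φ → co φ d.z ≠ 0 → (∃ b ∈ d.psi2, co φ b ≠ 0) →
    0 < mult (rad h hd hE) ψ φ → B ≤ dm E

/-- The dichotomy. -/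
theorem big_or_cells {B : ℕ} (hB : BigAt h hd hE ψ B) :
    B ≤ dm E ∨ ∀ φ : Ix d.psi → F, φ ≠ 0 → mult (rad h hd hE) ψ φ ≠ 0 →
      ∃ p : Σ i : Fin d.cells.length, Fˣ × Par F d.cells[i].2.2, pt T d p.1 p.2.1 p.2.2 = φ := by
  classical
  by_cases hbig : B ≤ dm E
  · exact Or.inl hbig
  refine Or.inr fun φ hφ hm => ?_
  obtain ⟨-, -, -, hzm, -, h6, -, -⟩ := LevData.chk_spec hd
  obtain ⟨μ, hμmax⟩ : ∃ μ, μ ∈ d.psi ∧ co φ μ ≠ 0 ∧ ∀ b ∈ d.psi, μ < b → co φ b = 0 := by
    set S := d.psi.toFinset.filter fun a => co φ a ≠ 0 with hS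
    have hne : S.Nonempty := by
      by_contra he
      refine hφ (co_ext fun a ha => ?_)
      have : a ∉ S := fun hin => he ⟨a, hin⟩
      simp only [hS, Finset.mem_filter, List.mem_toFinset, not_and_or, not_not] at this
      rcases this with h1 | h1
      · exact absurd ha h1
      · rw [h1, co_of_mem _ ha]; rfl
    have hin := Finset.max'_mem S hne
    obtain ⟨hin1, hin2⟩ : S.max' hne ∈ d.psi.toFinset ∧ co φ (S.max' hne) ≠ 0 := Finset.mem_filter.1 hin
    rw [List.mem_toFinset] at hin1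
    refine ⟨S.max' hne, hin1, hin2, fun b hb hlt => ?_⟩
    by_contra hb0
    exact absurd (Finset.le_max' S b (by simp [hS, hb, hb0])) (not_le.2 hlt)
  obtain ⟨hμ, hμ0, hmax⟩ := hμmax
  obtain ⟨e, he, hee⟩ := List.mem_map.1 (h6.symm ▸ hμ : μ ∈ d.cells.map Prod.fst)
  obtain ⟨i, hi, rfl⟩ := List.getElem_of_mem he
  obtain ⟨hmem, hc⟩ := cell_mem hd ⟨i, hi⟩
  obtain ⟨hw, hJ, hwp, hz, hr, hst, hrest⟩ := LevData.cell_spec hc
  simp only [Fin.getElem_fin] at hmem hw hJ hwp hz hr hst hrest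
  subst hee
  have hsupp : Supp (d.below d.cells[i].1) φ := fun a ha hna => hmax a ha (by
    by_contra hle
    exact hna (List.mem_filter.2 ⟨ha, by simpa using not_lt.1 hle⟩))
  obtain ⟨s, φ₀, hrun, hs0, hkeep, hz0⟩ := exists_normal List.mem_cons_self hr hsupp hμ0
  have hμ00 : co φ₀ d.cells[i].1 ≠ 0 := by rw [hkeep _ List.mem_cons_self]; exact hμ0
  have hreach : Reach (rad h hd hE) ψ φ₀ φ := hrun ▸
    reach_run h hψ (ties h hd hE) hr (fun e he => hE.comm _ (hst e he)) s φ₀
  by_cases hres : ∀ b ∈ d.psi, b ≠ d.cells[i].1 → co φ₀ b = 0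
  · refine ⟨⟨⟨i, hi⟩, Units.mk0 (co φ₀ d.cells[i].1) hμ00, fun a => s a⟩, ?_⟩
    show run T d.cells[i].2.2 (ext0 fun a : {a : ℕ // a ∈ d.cells[i].2.2.map Prod.snd} => s a)
      (unit d.psi d.cells[i].1 (co φ₀ d.cells[i].1)) = φ
    rw [← hrun, show unit d.psi d.cells[i].1 (co φ₀ d.cells[i].1) = φ₀ from co_ext fun b hb => by
      rw [co_unit hb]
      by_cases hbe : b = d.cells[i].1
      · rw [if_pos hbe, hbe]
      · rw [if_neg hbe, hres b hb hbe]]
    exact run_congr _ fun e he => by rw [ext0, dif_pos (List.mem_map.2 ⟨e, he, rfl⟩)]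
  · exfalso
    push Not at hres
    obtain ⟨b, hb, hbne, hb0⟩ := hres
    have ht := ties h hd hE
    obtain ⟨c, hc0, hcj⟩ := cj_wel h hψ ht hw (hE.welC _ hw hJ) hwp
    obtain ⟨χ, hχ, hco⟩ := hcj φ₀
    have hzero : ∀ x ∈ d.psi, co χ x ≠ 0 → x = d.z ∨ x ∈ d.psi2 := by
      intro x hx hx0
      rcases hrest x hx with h1 | h1 | h1 | h1
      · exact Or.inl h1
      · exfalso; apply hx0
        rw [hco x hx, hs0 _ (hwp x hx) fun hin => by
          simp only [LevData.below, List.mem_filter, decide_eq_true_eq] at hin; omega, mul_zero]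
      · exfalso; apply hx0
        obtain ⟨e, he, hee⟩ := List.mem_map.1 h1
        rw [hco x hx, ← hee, hz0 e he, mul_zero]
      · exact Or.inr h1
    refine hbig (hB χ (fun a ha hna => ?_) ?_ ?_ ?_)
    · by_contra h0
      rcases hzero a ha h0 with e | e
      · exact hna (e ▸ List.mem_cons_self)
      · exact hna (List.mem_cons_of_mem _ e)
    · rw [hco _ hzm, hz]; exact mul_ne_zero (hc0 _ hzm) hμ00
    · have hwr : WordOK T d.cells[i].2.1.reverse := fun j hj => hw j (List.mem_reverse.1 hj)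
      obtain ⟨x, hx⟩ : ∃ x : Ix d.psi, rword T d.cells[i].2.1.reverse x = b := by
        have hinj : Function.Injective fun x : Ix d.psi =>
            (⟨rword T d.cells[i].2.1.reverse x, hwp x x.2⟩ : Ix d.psi) := fun x y e => by
          have e' := congrArg (fun u : Ix d.psi => rword T d.cells[i].2.1 u.1) e
          simp only [Cert.rword_reverse h hw (ht.lt x x.2), Cert.rword_reverse h hw (ht.lt y y.2)] at e'
          exact Subtype.ext e'
        obtain ⟨x, hx⟩ := Finite.injective_iff_surjective.1 hinj ⟨b, hb⟩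
        exact ⟨x, congrArg Subtype.val hx⟩
      have hx0 : co χ (x : ℕ) ≠ 0 := by rw [hco x x.2, hx]; exact mul_ne_zero (hc0 _ x.2) hb0
      rcases hzero x x.2 hx0 with e | e
      · rw [e, hz] at hx; exact absurd hx.symm hbne
      · exact ⟨x, e, hx0⟩
    · rw [← Reach.mult_eq hψ (hreach.symm.trans ⟨_, hχ⟩ : Reach (rad h hd hE) ψ φ χ)]
      exact Nat.pos_of_ne_zero hm

omit hψ in
include hd in
theorem sum_over_cells {M : Type*} [AddCommMonoid M] (f : (Ix d.psi → F) → M)
    (hc : ∀ φ : Ix d.psi → F, φ ≠ 0 → f φ ≠ 0 →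
      ∃ p : Σ i : Fin d.cells.length, Fˣ × Par F d.cells[i].2.2, pt T d p.1 p.2.1 p.2.2 = φ) :
    ∑ φ, f φ = f 0 + ∑ i, ∑ a : Fˣ, ∑ s, f (pt T d i a s) := by
  classical
  rw [← Finset.add_sum_erase _ _ (Finset.mem_univ (0 : Ix d.psi → F))]
  congr 1
  have hinj : Function.Injective fun p : Σ i : Fin d.cells.length, Fˣ × Par F d.cells[i].2.2 =>
      pt T d p.1 p.2.1 p.2.2 := fun p p' e => pt_inj hd e
  have hne : ∀ p : Σ i : Fin d.cells.length, Fˣ × Par F d.cells[i].2.2,
      pt T d p.1 p.2.1 p.2.2 ≠ 0 := fun p e => by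
    have := (pt_lead hd p.1 p.2.1 p.2.2).1
    rw [e, co_of_mem _ (cell_mem hd p.1).1] at this
    exact p.2.1.ne_zero this.symm
  rw [← Finset.sum_subset (s₁ := Finset.univ.image fun p : Σ i : Fin d.cells.length, Fˣ × Par F d.cells[i].2.2 => pt T d p.1 p.2.1 p.2.2)
    (fun φ hφ => by
      obtain ⟨p, -, rfl⟩ := Finset.mem_image.1 hφ
      exact Finset.mem_erase.2 ⟨hne p, Finset.mem_univ _⟩)
    (fun φ hφ hn => by
      by_contra h0
      obtain ⟨p, hp⟩ := hc φ (Finset.mem_erase.1 hφ).1 h0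
      exact hn (Finset.mem_image.2 ⟨p, Finset.mem_univ _, hp⟩)),
    Finset.sum_image fun p _ p' _ e => hinj e, Fintype.sum_sigma]
  exact Finset.sum_congr rfl fun i _ => Fintype.sum_prod_type _

omit hψ in
include hd in
theorem card_cell (i : Fin d.cells.length) :
    Fintype.card (Par F d.cells[i].2.2) = Fintype.card F ^ d.cells[i].2.2.length :=
  card_par (LevData.cell_spec (cell_mem hd i).2).2.2.2.2.1

/-- The dimension in terms of the cells. -/
theorem dm_eq_cells
    (hc : ∀ φ : Ix d.psi → F, φ ≠ 0 → mult (rad h hd hE) ψ φ ≠ 0 →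
      ∃ p : Σ i : Fin d.cells.length, Fˣ × Par F d.cells[i].2.2, pt T d p.1 p.2.1 p.2.2 = φ) :
    dm E = dm (nextE h hd hE ψ) + theMult h hd hE ψ * ((Fintype.card F - 1) *
      (d.expo.map fun e => Fintype.card F ^ e.2).sum) := by
  classical
  have h1 : dm E = ∑ φ, mult (rad h hd hE) ψ φ := (rad h hd hE).dm_E hψ
  rw [h1, sum_over_cells hd _ hc]
  congr 1
  simp only [mult_pt h hd hE hψ, Finset.sum_const, Finset.card_univ, smul_eq_mul, Fintype.card_units]
  rw [show (d.expo.map fun e => Fintype.card F ^ e.2).sum =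
      ∑ i : Fin d.cells.length, Fintype.card F ^ d.cells[i].2.2.length by
    rw [LevData.expo, List.map_map, ← Fin.sum_univ_getElem]
    refine Fintype.sum_equiv (finCongr (List.length_map _)) _ _ fun i => ?_
    simp, Finset.mul_sum, Finset.mul_sum]
  refine Finset.sum_congr rfl fun i _ => ?_
  rw [card_cell hd i]
  ring

end CfsgLib.EMinDeg
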