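import Cfsg.Agent.Lib.EMinDeg.Step

/-!
The sums over the cells as sums over lists of exponents.
-/

set_option autoImplicit false

namespace CfsgLib.EMinDeg

open CfsgLib.Chev

/-- The exponents of the coordinates moved by the test root. -/
noncomputable def hitList (T : Tab) (d : LevData) (g : ℕ) : List ℕ :=
  (d.cells.filter fun e => hits T d.psi g e.1).map fun e => e.2.2.length

theorem hitSum_eq (T : Tab) (d : LevData) (g q : ℕ) :
    hitSum T d g q = ((hitList T d g).map (q ^ ·)).sum := by
  simp only [hitSum, hitList, List.map_map, Function.comp_def]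
  induction d.cells with
  | nil => rfl
  | cons e L ih => cases hh : hits T d.psi g e.1 <;> simp [hh, ih]

theorem expo_sum (d : LevData) (q : ℕ) (L : List ℕ) (hL : (d.expo.map Prod.snd).isPerm L = true) :
    (d.expo.map fun e => q ^ e.2).sum = (L.map (q ^ ·)).sum := by
  rw [show (d.expo.map fun e => q ^ e.2) = (d.expo.map Prod.snd).map (q ^ ·) by
    rw [List.map_map]; rfl]
  exact ((List.isPerm_iff.1 hL).map _).sum_eq

end CfsgLib.EMinDeg
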