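import Cfsg.Agent.Lib.EMinDeg.Step
import Cfsg.Agent.Lib.Char.Central

/-!
The fixed vectors of a root subgroup in an irreducible representation of a simple group.
-/

set_option autoImplicit false
set_option linter.unusedSectionVars false

namespace CfsgLib.EMinDeg

open Module Cfsg.Lie CfsgLib.Chev CfsgLib.GTwoMinDeg

variable {D : ChevalleyDatum} {T : Tab} {C : Tab.Cover} (h : Cert D T C)
variable {F : Type*} [Field F] [Fintype F] [DecidableEq F]
variable {V : Type*} [AddCommGroup V] [Module ℂ V] [FiniteDimensional ℂ V]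
variable {ρ : Representation ℂ (Gp D F) V} {ψ : AddChar F ℂ}

/-- The whole space. -/
theorem on_one (St J : List ℕ) : On h ρ [] St J (1 : Module.End ℂ V) :=
  ⟨IsIdempotentElem.one, fun _ hr => absurd hr List.not_mem_nil, fun _ _ _ => Commute.one_right _,
    fun _ _ => Commute.one_right _, fun _ _ _ => Commute.one_right _⟩

/-- A root subgroup is not trivial on a faithful representation. -/
theorem dm_proj_lt (hψ : ψ.IsPrimitive) (hsimple : IsSimpleGroup (Gp D F)) (hρ : ρ.IsIrreducible)
    (hk : 2 ≤ finrank ℂ V) {z : ℕ} (hz : z < T.n) :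
    dm (proj ρ ψ (xr h z) 0) ≠ finrank ℂ V := by
  intro e
  have hP := isIdempotentElem_proj ρ ψ hψ (xr h z) 0
  have h0 : dm (1 - proj ρ ψ (xr h z) 0) = 0 := by
    have h1 := tr_eq_dm hP.one_sub
    rw [tr, map_sub, show LinearMap.trace ℂ V (1 : Module.End ℂ V) = _ from tr_eq_dm IsIdempotentElem.one,
      show LinearMap.trace ℂ V (proj ρ ψ (xr h z) 0) = _ from tr_eq_dm hP, dm_one, e, sub_self] at h1
    exact_mod_cast h1.symm
  have h1 : proj ρ ψ (xr h z) 0 = 1 := (sub_eq_zero.1 (dm_eq_zero.1 h0)).symm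
  have hker : ρ (xr h z 1) = 1 := by
    have := rho_mul_proj ρ ψ (xr h z) 0 1
    rwa [h1, mul_one, zero_mul, AddChar.map_zero_eq_one, one_smul] at this
  rcases hsimple.eq_bot_or_eq_top_of_normal _ (inferInstance : (MonoidHom.ker ρ).Normal) with hb | ht
  · have hm : xr h z (1 : F) ∈ MonoidHom.ker ρ := hker
    rw [hb, Subgroup.mem_bot] at hm
    have e1 := congrArg Subtype.val hm
    simp only [coe_xr h hz, OneMemClass.coe_one] at e1
    exact one_ne_zero ((h.X_eq_one_iff hz _).1 e1)
  · have hall : ∀ g, ρ g = 1 := fun g => (ht ▸ Subgroup.mem_top g : g ∈ MonoidHom.ker ρ)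
    haveI : Nontrivial V := Module.nontrivial_of_finrank_pos (R := ℂ) (by omega)
    obtain ⟨v, hv⟩ := exists_ne (0 : V)
    let W : Subrepresentation ρ := ⟨Submodule.span ℂ {v}, fun g w hw => by rw [hall g]; exact hw⟩
    rcases hρ.eq_bot_or_eq_top W with hW | hW
    · have : Submodule.span ℂ {v} = (⊥ : Submodule ℂ V) := congrArg Subrepresentation.toSubmodule hW
      exact hv (Submodule.span_singleton_eq_bot.1 this)
    · have : Submodule.span ℂ {v} = (⊤ : Submodule ℂ V) := congrArg Subrepresentation.toSubmodule hW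
      have hfin := finrank_span_singleton (K := ℂ) hv
      rw [this, finrank_top] at hfin
      omega

/-- The value at a root element. -/
theorem tr_root (hψ : ψ.IsPrimitive) {z N : ℕ} (hz : z < T.n) {v : List ℤ} (hv : pairV T v z = 1)
    (hd : finrank ℂ V = dm (proj ρ ψ (xr h z) 0) + (Fintype.card F - 1) * Fintype.card F ^ N) :
    tr (ρ (xr h z 1)) = (finrank ℂ V : ℂ) - (Fintype.card F : ℂ) ^ (N + 1) := by
  have hconj : ∀ t : F, t ≠ 0 → tr (ρ (xr h z t)) = tr (ρ (xr h z 1)) := fun t ht => by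
    rw [← tr_cj ρ (tor h v (Units.mk0 t ht)) (ρ (xr h z 1)), cj_rho, tor_conj h v _ hz, hv, zpow_one,
      Units.val_mk0, mul_one]
  have hsum : (Fintype.card F : ℂ) * dm (proj ρ ψ (xr h z) 0) = ∑ t, tr (ρ (xr h z t)) := by
    rw [← tr_eq_dm (isIdempotentElem_proj ρ ψ hψ (xr h z) 0)]
    simp only [proj, zero_mul, neg_zero, AddChar.map_zero_eq_one, one_smul, tr, map_smul, map_sum,
      smul_eq_mul]
    rw [← mul_assoc, mul_inv_cancel₀ (Nat.cast_ne_zero.mpr Fintype.card_ne_zero), one_mul]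
  rw [← Finset.add_sum_erase _ _ (Finset.mem_univ (0 : F)),
    Finset.sum_congr rfl fun t ht => hconj t (Finset.ne_of_mem_erase ht), AddChar.map_zero_eq_one, map_one,
    show tr (1 : Module.End ℂ V) = _ from tr_eq_dm IsIdempotentElem.one, dm_one, Finset.sum_const,
    Finset.card_erase_of_mem (Finset.mem_univ _), Finset.card_univ, nsmul_eq_mul] at hsum
  have hq : 1 < Fintype.card F := Fintype.one_lt_card
  have hd' := congrArg (Nat.cast (R := ℂ)) hd
  push_cast [Nat.cast_sub hq.le] at hd' hsum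
  have hne : (Fintype.card F : ℂ) - 1 ≠ 0 := sub_ne_zero.2 (by exact_mod_cast hq.ne')
  refine mul_left_cancel₀ hne ?_
  linear_combination -hsum - (Fintype.card F : ℂ) * hd'

/-- The degree divides the class length times the value at a root element. -/
theorem dvd_class (hψ : ψ.IsPrimitive) (hρ : ρ.IsIrreducible) {z N M : ℕ} (hz : z < T.n) {v : List ℤ}
    (hv : pairV T v z = 1)
    (hd : finrank ℂ V = dm (proj ρ ψ (xr h z) 0) + (Fintype.card F - 1) * Fintype.card F ^ N)
    (hM : (Subgroup.centralizer ({xr h z (1 : F)} : Set (Gp D F))).index ∣ M)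
    (hle : Fintype.card F ^ (N + 1) ≤ finrank ℂ V) :
    finrank ℂ V ∣ M * Fintype.card F ^ (N + 1) := by
  haveI := hρ
  have h1 := CfsgLib.Char.isIntegral_omega ρ (xr h z (1 : F))
  have hd0 : finrank ℂ V ≠ 0 := (CfsgLib.Char.finrank_pos_of_irreducible ρ).ne'
  rw [CfsgLib.Char.omega, Representation.char_one,
    show ρ.character (xr h z 1) = tr (ρ (xr h z 1)) from rfl, tr_root h hψ hz hv hd] at h1
  set idx := (Subgroup.centralizer ({xr h z (1 : F)} : Set (Gp D F))).index
  have h2 : finrank ℂ V ∣ idx * (finrank ℂ V - Fintype.card F ^ (N + 1)) :=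
    CfsgLib.Char.dvd_of_isIntegral_div hd0 (by push_cast [Nat.cast_sub hle]; exact h1)
  have h3 : finrank ℂ V ∣ idx * finrank ℂ V := dvd_mul_left _ _
  rw [Nat.mul_sub] at h2
  have h4 := Nat.dvd_sub h3 h2
  rw [Nat.sub_sub_self (Nat.mul_le_mul_left _ hle)] at h4
  exact h4.trans (Nat.mul_dvd_mul_right hM _)

end CfsgLib.EMinDeg
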