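import Cfsg.Agent.Lib.EMinDeg.DataE6
import Cfsg.Agent.Lib.EMinDeg.ArithE6
import Cfsg.Agent.Lib.EMinDeg.ClassE6
import Cfsg.Agent.Lib.EMinDeg.Top
import Cfsg.Agent.Lib.EMinDeg.Sums
import Cfsg.Agent.Lib.Chev.SimpleData
import Cfsg.Agent.S1050

/-!
The smallest degree of a nontrivial irreducible representation of E6.
-/

set_option autoImplicit false
set_option linter.unusedSectionVars false
set_option maxRecDepth 100000

namespace CfsgLib.EMinDeg

open Module Cfsg.Lie CfsgLib.Chev CfsgLib.GTwoMinDeg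

variable {F : Type*} [Field F] [Fintype F] [DecidableEq F]
variable {V : Type*} [AddCommGroup V] [Module ℂ V] [FiniteDimensional ℂ V]
variable {ρ : Representation ℂ (Gp chevE6 F) V} {ψ : AddChar F ℂ}

set_option maxHeartbeats 3000000 in
/-- The bound of the chain: either the bound holds, or the degree is just below it and the root element
is the expected one. -/
theorem chain_E6 (hψ : ψ.IsPrimitive) (hρ : ρ.IsIrreducible) (hk : 2 ≤ finrank ℂ V) :
    Fintype.card F * (Fintype.card F ^ 6 + Fintype.card F ^ 3 + 1) * (Fintype.card F ^ 4 + 1) ≤ finrank ℂ V ∨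
      (finrank ℂ V = dm (proj ρ ψ (xr certE6 71) 0) + (Fintype.card F - 1) * Fintype.card F ^ 10 ∧
        ((3 ≤ Fintype.card F ∧ Fintype.card F * (Fintype.card F ^ 6 + Fintype.card F ^ 3 + 1) *
            (Fintype.card F ^ 4 + 1) ≤ finrank ℂ V + 6) ∨
          (Fintype.card F = 2 ∧ 2450 ≤ finrank ℂ V))) := by
  obtain ⟨q, hqdef⟩ : ∃ q, q = Fintype.card F := ⟨_, rfl⟩
  rw [← hqdef]
  set T := q * (q ^ 6 + q ^ 3 + 1) * (q ^ 4 + 1) with hT
  have hq : 2 ≤ q := hqdef ▸ Fintype.one_lt_card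
  by_cases hbound : T ≤ finrank ℂ V
  · exact Or.inl hbound
  push Not at hbound
  refine Or.inr ?_
  have h := certE6
  have hsimple : IsSimpleGroup (Gp chevE6 F) :=
    (certE6.simple_group (F := F) connectedE6 perfectE6
      (Cfsg.Agent.S1050.result chevE6 (by simp))).1
  have hE0 : On certE6 ρ levE60.K levE60.St levE60.J (1 : Module.End ℂ V) := on_one certE6 _ _
  have n0 : (levE60.expo.map Prod.snd).isPerm [10, 9, 8, 7, 7, 6, 6, 5, 5, 4, 4, 3, 3, 2, 1, 0] = true := by
    decide +kernel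
  have n1 : (levE61.expo.map Prod.snd).isPerm [6, 5, 4, 3, 3, 2, 1, 0] = true := by decide +kernel
  have n2 : (levE62.expo.map Prod.snd).isPerm [4, 3, 2, 2, 1, 0] = true := by decide +kernel
  have n3 : (levE63.expo.map Prod.snd).isPerm [2, 1, 0] = true := by decide +kernel
  have n4 : (levE64.expo.map Prod.snd).isPerm [1, 0] = true := by decide +kernel
  -- the top
  have hz0 : ∀ a ∈ levE60.psi, a ≤ levE60.z := by decide +kernel
  have hB0 : T ≤ (q - 1) ^ 2 * q ^ (bigE60.es1.length + bigE60.es2.length) := by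
    rw [show bigE60.es1.length + bigE60.es2.length = 14 from rfl, hT]
    obtain ⟨m, rfl⟩ : ∃ m, q = m + 2 := ⟨q - 2, by omega⟩
    rw [show m + 2 - 1 = m + 1 by omega]
    ring_nf
    omega
  obtain hbig | hc0 := big_or_cells certE6 chkLevE60 hE0 hψ
    (bigAt_of_chk certE6 chkLevE60 hE0 hψ chkBigE60)
  · rw [dm_one, ← hqdef] at hbig
    omega
  have hlead := dm_lead certE6 chkLevE60 hE0 hψ hc0 hz0 (N := 10) (by decide +kernel)
  have hdim := dm_eq_cells certE6 chkLevE60 hE0 hψ hc0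
  rw [mul_one, dm_one, ← hqdef, show levE60.z = 71 from rfl] at hlead
  rw [dm_one, ← hqdef, expo_sum _ _ _ n0] at hdim
  simp only [List.map_cons, List.map_nil, List.sum_cons, List.sum_nil] at hdim
  have hne := dm_proj_lt certE6 (ρ := ρ) hψ hsimple hρ hk (z := 71) (by decide +kernel)
  have hb : theMult certE6 chkLevE60 hE0 ψ = 1 := by
    by_contra hb1
    have hb0 : theMult certE6 chkLevE60 hE0 ψ ≠ 0 := fun e => hne (by rw [e] at hlead; omega)
    generalize theMult certE6 chkLevE60 hE0 ψ = b at hdim hb0 hb1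
    set X := (q - 1) * (q ^ 10 + (q ^ 9 + (q ^ 8 + (q ^ 7 + (q ^ 7 + (q ^ 6 + (q ^ 6 + (q ^ 5 +
      (q ^ 5 + (q ^ 4 + (q ^ 4 + (q ^ 3 + (q ^ 3 + (q ^ 2 + (q ^ 1 + (q ^ 0 + 0)))))))))))))))) with hX
    have h2 : 2 * X ≤ b * X := Nat.mul_le_mul_right _ (by omega)
    have h3 : T ≤ 2 * X := by
      rw [hX, hT]
      obtain ⟨m, rfl⟩ : ∃ m, q = m + 2 := ⟨q - 2, by omega⟩
      rw [show m + 2 - 1 = m + 1 by omega]
      ring_nf
      omega
    omega
  rw [hb, one_mul] at hlead
  refine ⟨hlead, ?_⟩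
  -- first descent
  obtain hbig | ⟨-, hd0, hnext0⟩ := descend certE6 chkLevE60 hE0 hψ chkStepE60 (N := 10) (N' := 6)
    (bigAt_of_chk certE6 chkLevE60 hE0 hψ chkBigE60) (by decide +kernel)
    (by rw [mul_one, dm_one, ← hqdef]; exact hlead)
    (by
      rw [hitSum_eq, show hitList tabE6 levE60 stepE60.g = [7, 8, 9, 10] by decide +kernel, ← hqdef]
      simp only [List.map_cons, List.map_nil, List.sum_cons, List.sum_nil]
      obtain ⟨m, hm⟩ : ∃ m, q = m + 2 := ⟨q - 2, by omega⟩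
      rw [hm, show m + 2 - 1 = m + 1 by omega]
      ring)
  · rw [dm_one, ← hqdef] at hbig
    omega
  have hcur1 := hnext0 (Or.inl (by decide +kernel)) (by decide +kernel)
  rw [dm_one, expo_sum _ _ _ n0, ← hqdef] at hd0
  simp only [List.map_cons, List.map_nil, List.sum_cons, List.sum_nil] at hd0
  rw [← hqdef] at hcur1
  set E1 := nextE certE6 chkLevE60 hE0 ψ with hE1def
  have hE1 : On certE6 ρ (levE60.K ++ levE60.psi) stepE60.St' stepE60.J' E1 :=
    on_next certE6 chkLevE60 hE0 hψ chkStepE60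
  clear hb hne hdim hc0
  rcases Nat.lt_or_ge q 3 with hq2 | hq3
  · -- two elements
    obtain rfl | hq3' : q = 2 ∨ 3 ≤ q := by omega
    swap
    · omega
    refine Or.inr ⟨rfl, ?_⟩
    have hE1' : On certE6 ρ levTwoE6.K levTwoE6.St levTwoE6.J E1 := hE1
    obtain hbig | hc1 := big_or_cells certE6 chkLevTwoE6 hE1' hψ
      (bigAt_of_chk certE6 chkLevTwoE6 hE1' hψ chkBigTwoE6)
    · rw [← hqdef, show bigTwoE6.es1.length + bigTwoE6.es2.length = 8 from rfl] at hbig
      norm_num at hbig hd0 ⊢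
      omega
    · have h1 := dm_lead certE6 chkLevTwoE6 hE1' hψ hc1 (by decide +kernel) (N := 6) (by decide +kernel)
      have h2 := dm_eq_cells certE6 chkLevTwoE6 hE1' hψ hc1
      have n1' : (levTwoE6.expo.map Prod.snd).isPerm [6, 5, 4, 4, 3, 3, 2, 2, 1, 0] = true := by
        decide +kernel
      rw [← hqdef, show levTwoE6.z = stepE60.g from rfl] at h1
      rw [← hqdef, expo_sum _ _ _ n1'] at h2
      simp only [List.map_cons, List.map_nil, List.sum_cons, List.sum_nil] at h2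
      norm_num at h1 h2 hd0 hcur1 ⊢
      omega
  refine Or.inl ⟨hq3, ?_⟩
  have hqq : 2 < Fintype.card F := by omega
  -- second descent
  have hE1a : On certE6 ρ levE61.K levE61.St levE61.J E1 := hE1
  obtain hbig | ⟨-, hd1, hnext1⟩ := descend certE6 chkLevE61 hE1a hψ chkStepE61 (N := 6) (N' := 4)
    (bigAt_of_chk certE6 chkLevE61 hE1a hψ chkBigE61) (by decide +kernel) (by rw [← hqdef]; exact hcur1)
    (by
      rw [hitSum_eq, show hitList tabE6 levE61 stepE61.g = [5, 6] by decide +kernel, ← hqdef]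
      simp only [List.map_cons, List.map_nil, List.sum_cons, List.sum_nil]
      obtain ⟨m, hm⟩ : ∃ m, q = m + 2 := ⟨q - 2, by omega⟩
      rw [hm, show m + 2 - 1 = m + 1 by omega]
      ring)
  · exfalso
    rw [← hqdef, show bigE61.es1.length + bigE61.es2.length = 6 from rfl] at hbig
    obtain ⟨m, hm⟩ : ∃ m, q = m + 3 := ⟨q - 3, by omega⟩
    rw [hm, show m + 3 - 1 = m + 2 by omega] at hd0 hbig
    rw [hT, hm] at hbound
    ring_nf at hd0 hbig hbound
    omega
  have hcur2 := hnext1 (Or.inr hqq) (by decide +kernel)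
  rw [expo_sum _ _ _ n1, ← hqdef] at hd1
  simp only [List.map_cons, List.map_nil, List.sum_cons, List.sum_nil] at hd1
  rw [← hqdef] at hcur2
  set E2 := nextE certE6 chkLevE61 hE1a ψ with hE2def
  have hE2 : On certE6 ρ levE62.K levE62.St levE62.J E2 :=
    on_next certE6 chkLevE61 hE1a hψ chkStepE61
  -- third descent
  obtain hbig | ⟨-, hd2, hnext2⟩ := descend certE6 chkLevE62 hE2 hψ chkStepE62 (N := 4) (N' := 2)
    (bigAt_of_chk certE6 chkLevE62 hE2 hψ chkBigE62) (by decide +kernel) (by rw [← hqdef]; exact hcur2)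
    (by
      rw [hitSum_eq, show hitList tabE6 levE62 stepE62.g = [3, 4] by decide +kernel, ← hqdef]
      simp only [List.map_cons, List.map_nil, List.sum_cons, List.sum_nil]
      obtain ⟨m, hm⟩ : ∃ m, q = m + 2 := ⟨q - 2, by omega⟩
      rw [hm, show m + 2 - 1 = m + 1 by omega]
      ring)
  · exfalso
    rw [← hqdef, show bigE62.es1.length + bigE62.es2.length = 4 from rfl] at hbig
    obtain ⟨m, hm⟩ : ∃ m, q = m + 3 := ⟨q - 3, by omega⟩
    rw [hm, show m + 3 - 1 = m + 2 by omega] at hd0 hd1 hbig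
    rw [hT, hm] at hbound
    ring_nf at hd0 hd1 hbig hbound
    omega
  have hcur3 := hnext2 (Or.inr hqq) (by decide +kernel)
  rw [expo_sum _ _ _ n2, ← hqdef] at hd2
  simp only [List.map_cons, List.map_nil, List.sum_cons, List.sum_nil] at hd2
  rw [← hqdef] at hcur3
  set E3 := nextE certE6 chkLevE62 hE2 ψ with hE3def
  have hE3 : On certE6 ρ levE63.K levE63.St levE63.J E3 :=
    on_next certE6 chkLevE62 hE2 hψ chkStepE62
  -- fourth descent
  obtain hbig | ⟨-, hd3, hnext3⟩ := descend certE6 chkLevE63 hE3 hψ chkStepE63 (N := 2) (N' := 1)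
    (bigAt_nil certE6 chkLevE63 hE3 rfl (finrank ℂ V + 1)) (by decide +kernel) (by rw [← hqdef]; exact hcur3)
    (by
      rw [hitSum_eq, show hitList tabE6 levE63 stepE63.g = [2] by decide +kernel, ← hqdef]
      simp only [List.map_cons, List.map_nil, List.sum_cons, List.sum_nil]
      obtain ⟨m, hm⟩ : ∃ m, q = m + 2 := ⟨q - 2, by omega⟩
      rw [hm, show m + 2 - 1 = m + 1 by omega]
      ring)
  · exfalso
    omega
  have hcur4 := hnext3 (Or.inr hqq) (by decide +kernel)
  rw [expo_sum _ _ _ n3, ← hqdef] at hd3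
  simp only [List.map_cons, List.map_nil, List.sum_cons, List.sum_nil] at hd3
  rw [← hqdef] at hcur4
  set E4 := nextE certE6 chkLevE63 hE3 ψ with hE4def
  have hE4 : On certE6 ρ levE64.K levE64.St levE64.J E4 :=
    on_next certE6 chkLevE63 hE3 hψ chkStepE63
  -- fifth descent
  obtain hbig | ⟨-, hd4, hnext4⟩ := descend certE6 chkLevE64 hE4 hψ chkStepE64 (N := 1) (N' := 0)
    (bigAt_nil certE6 chkLevE64 hE4 rfl (finrank ℂ V + 1)) (by decide +kernel) (by rw [← hqdef]; exact hcur4)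
    (by
      rw [hitSum_eq, show hitList tabE6 levE64 stepE64.g = [1] by decide +kernel, ← hqdef]
      simp only [List.map_cons, List.map_nil, List.sum_cons, List.sum_nil]
      obtain ⟨m, hm⟩ : ∃ m, q = m + 2 := ⟨q - 2, by omega⟩
      rw [hm, show m + 2 - 1 = m + 1 by omega]
      ring)
  · exfalso
    omega
  have hcur5 := hnext4 (Or.inr hqq) (by decide +kernel)
  rw [expo_sum _ _ _ n4, ← hqdef] at hd4
  simp only [List.map_cons, List.map_nil, List.sum_cons, List.sum_nil] at hd4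
  rw [← hqdef] at hcur5
  obtain ⟨m, hm⟩ : ∃ m, q = m + 3 := ⟨q - 3, by omega⟩
  rw [hm, show m + 3 - 1 = m + 2 by omega] at hd0 hd1 hd2 hd3 hd4 hcur5
  rw [hT, hm]
  ring_nf at hd0 hd1 hd2 hd3 hd4 hcur5 ⊢
  omega

/-- The bound. -/
theorem degree_bound_E6 (ρ : Representation ℂ (Gp chevE6 F) V) (hρ : ρ.IsIrreducible)
    (hk : 2 ≤ finrank ℂ V) :
    Fintype.card F * (Fintype.card F ^ 6 + Fintype.card F ^ 3 + 1) * (Fintype.card F ^ 4 + 1) ≤
      finrank ℂ V := by
  have hψ := AddChar.FiniteField.primitiveChar_to_Complex_isPrimitive F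
  rcases chain_E6 hψ hρ hk with hb | ⟨hd, hrest⟩
  · exact hb
  by_contra hlt
  push Not at hlt
  set q := Fintype.card F with hqdef
  have hle : q ^ (10 + 1) ≤ finrank ℂ V := by
    rcases hrest with ⟨hq3, h6⟩ | ⟨hq2, h6⟩
    · have e : q * (q ^ 6 + q ^ 3 + 1) * (q ^ 4 + 1) = q ^ 11 + (q ^ 8 + q ^ 7 + q ^ 5 + q ^ 4 + q) := by
        ring
      have : 3 ≤ q ^ 4 := hq3.trans (Nat.le_self_pow (by norm_num) q)
      have : 3 ≤ q ^ 5 := hq3.trans (Nat.le_self_pow (by norm_num) q)
      rw [e] at h6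
      norm_num
      omega
    · rw [hq2]; norm_num; omega
  have hdvd := dvd_class certE6 hψ hρ (z := 71) (N := 10) (by decide +kernel)
    (v := levE60.v) (by decide +kernel) hd index_root_E6 hle
  rcases hrest with ⟨hq3, h6⟩ | ⟨hq2, h6⟩
  · exact not_dvd_E6 hq3 h6 hlt hdvd
  · rw [← hqdef, hq2] at hdvd
    rw [hq2] at hlt
    have := smallTwoE6
    simp only [List.all_eq_true, List.mem_range, decide_eq_true_eq] at this
    norm_num at hlt
    refine this (2482 - finrank ℂ V - 1) (by omega) ?_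
    rw [show 2482 - (2482 - finrank ℂ V - 1 + 1) = finrank ℂ V by omega]
    exact hdvd

end CfsgLib.EMinDeg
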