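import Cfsg.Agent.Lib.EMinDeg.DataE8
import Cfsg.Agent.Lib.EMinDeg.ArithE8
import Cfsg.Agent.Lib.EMinDeg.Top
import Cfsg.Agent.Lib.EMinDeg.Sums
import Cfsg.Agent.Lib.Chev.SimpleData
import Cfsg.Agent.Lib.Chev.OrderData
import Cfsg.Agent.S1050

/-!
The smallest degree of a nontrivial irreducible representation of E8.
-/

set_option autoImplicit false
set_option linter.unusedSectionVars false
set_option maxRecDepth 100000

namespace CfsgLib.EMinDeg

open Module Cfsg.Lie CfsgLib.Chev CfsgLib.GTwoMinDeg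

theorem chkStE8 : (levE80.St.all fun r => decide (r < tabE8.n) && chkTerms tabE8 [] r 239) = true := by
  decide +kernel

theorem chkJE8 : (levE80.J.all fun j => decide (j < tabE8.l) && decide (tabE8.refl j 239 = 239)) = true := by
  decide +kernel

theorem chkUE8 : ((List.range tabE8.n).all fun r => decide (r < tabE8.half) || chkTerms tabE8 [] r 239) = true := by
  decide +kernel

theorem hitE80 : hitList tabE8 levE80 stepE80.g = [17, 18, 19, 20, 21, 22, 22, 23, 24, 25, 26, 27] := by
  decide +kernel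

theorem sumE80 : (levE80.expo.map Prod.snd).isPerm [27, 26, 25, 24, 23, 22, 22, 21, 21, 20, 20, 19, 19, 18, 18, 18,
    17, 17, 17, 16, 16, 16, 15, 15, 15, 14, 14, 14, 13, 13, 13, 12, 12, 12, 11, 11, 11, 10, 10, 10, 9, 9, 9, 8,
    8, 7, 7, 6, 6, 5, 5, 4, 3, 2, 1, 0] = true := by
  decide +kernel

theorem sumE81 : (levE81.expo.map Prod.snd).isPerm [16, 15, 14, 13, 12, 12, 11, 11, 10, 10, 9, 9, 8, 8, 8, 7, 7,
    6, 6, 5, 5, 4, 4, 3, 2, 1, 0] = true := by
  decide +kernel

theorem sumE82 : (levE82.expo.map Prod.snd).isPerm [10, 9, 8, 7, 7, 6, 6, 5, 5, 4, 4, 3, 3, 2, 1, 0] = true := by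
  decide +kernel

variable {F : Type*} [Field F] [Fintype F] [DecidableEq F]
variable {V : Type*} [AddCommGroup V] [Module ℂ V] [FiniteDimensional ℂ V]
variable {ρ : Representation ℂ (Gp chevE8 F) V} {ψ : AddChar F ℂ}

/-- The fixed vectors of the centre. -/
theorem on_centre (hψ : ψ.IsPrimitive) :
    On certE8 ρ levE80.K levE80.St levE80.J (proj ρ ψ (xr certE8 239) 0) := by
  have hz : 239 < tabE8.n := by decide +kernel
  have hst := chkStE8
  have hJ := chkJE8
  simp only [List.all_eq_true, Bool.and_eq_true, decide_eq_true_eq] at hst hJ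
  refine ⟨isIdempotentElem_proj ρ ψ hψ _ 0, ?_, fun r hr t => ?_, fun v s => ?_, fun w hw hwJ => ?_⟩
  · intro r hr t
    obtain rfl : r = 239 := List.mem_singleton.1 hr
    rw [rho_mul_proj ρ ψ (xr certE8 239) 0 t, zero_mul, AddChar.map_zero_eq_one, one_smul]
  · exact commute_proj_z certE8 (hst r hr).1 hz (hst r hr).2 0 t
  · refine commute_rho_of_cj ρ ?_
    rw [cj_proj (zpow_ne_zero _ s.ne_zero) (x' := xr certE8 239) (fun t => tor_conj certE8 v s hz t), zero_div]
  · refine commute_rho_of_cj ρ ?_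
    have hfix : ∀ u : List ℕ, (∀ i ∈ u, i ∈ levE80.J) → rword tabE8 u 239 = 239 := by
      intro u
      induction u with
      | nil => intro _; rfl
      | cons i u ih =>
        intro hu
        rw [rword_cons, ih fun j hj => hu j (List.mem_cons_of_mem _ hj)]
        exact (hJ i (hu i List.mem_cons_self)).2
    obtain ⟨c, hc, e⟩ := wel_conj certE8 (F := F) hw hz
    rw [cj_proj hc (x' := xr certE8 239) (fun t => by rw [e t, hfix w hwJ]), zero_div]

theorem index_root_E8 :
    (Subgroup.centralizer ({xr certE8 239 (1 : F)} : Set (Gp chevE8 F))).index ∣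
      (Fintype.card F ^ 2 - 1) * (Fintype.card F ^ 8 - 1) * (Fintype.card F ^ 12 - 1) *
        (Fintype.card F ^ 14 - 1) * (Fintype.card F ^ 18 - 1) * (Fintype.card F ^ 20 - 1) *
        (Fintype.card F ^ 24 - 1) * (Fintype.card F ^ 30 - 1) := by
  set U := (chevE8.posUnipotent F).subgroupOf (chevE8.group F) with hUdef
  have hz : 239 < tabE8.n := by decide +kernel
  have hle : chevE8.posUnipotent F ≤ chevE8.group F := by
    rw [certE8.posUnipotent_eq]
    exact certE8.gen_le_group fun r hr => hr.2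
  have hUC : U ≤ Subgroup.centralizer ({xr certE8 239 (1 : F)} : Set (Gp chevE8 F)) := by
    intro x hx
    rw [hUdef, Subgroup.mem_subgroupOf] at hx
    rw [Subgroup.mem_centralizer_singleton_iff]
    have hc : (x : GL chevE8.Idx F) ∈ Subgroup.centralizer {X chevE8 239 (1 : F)} := by
      refine (?_ : chevE8.posUnipotent F ≤ _) hx
      rw [certE8.posUnipotent_eq]
      refine (Subgroup.closure_le _).2 ?_
      rintro g ⟨r, ⟨hr1, hr2⟩, t, rfl⟩
      have hU := chkUE8
      simp only [List.all_eq_true, List.mem_range, Bool.or_eq_true, decide_eq_true_eq] at hU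
      have e := congrArg Subtype.val (xr_comm certE8 hr2 hz ((hU r hr2).resolve_left (by omega)) t (1 : F))
      simp only [Subgroup.coe_mul, coe_xr certE8 hr2, coe_xr certE8 hz] at e
      rw [SetLike.mem_coe, Subgroup.mem_centralizer_singleton_iff]
      exact e
    rw [Subgroup.mem_centralizer_singleton_iff] at hc
    refine Subtype.ext ?_
    rw [Subgroup.coe_mul, Subgroup.coe_mul, coe_xr certE8 hz]
    exact hc
  refine (Subgroup.index_dvd_of_le hUC).trans (dvd_of_eq ?_)
  have hc : Nat.card U = Fintype.card F ^ 120 := by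
    rw [hUdef, Nat.card_congr (Subgroup.subgroupOfEquivOfLe hle).toEquiv, certE8.card_posUnipotent,
      show tabE8.half = 120 from by decide +kernel]
  have hG := U.card_mul_index
  rw [hc] at hG
  have h2 := card_groupE8 (F := F)
  have hpos : 0 < Fintype.card F ^ 120 := Nat.pow_pos Fintype.card_pos
  refine Nat.eq_of_mul_eq_mul_left hpos ?_
  rw [hG]
  simp only [← mul_assoc] at h2 ⊢
  exact (by simpa using h2)

/-- The bound of the chain. -/
theorem chain_E8 (hψ : ψ.IsPrimitive) (hρ : ρ.IsIrreducible) (hk : 2 ≤ finrank ℂ V) :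
    Fintype.card F * (Fintype.card F ^ 12 + 1) * (Fintype.card F ^ 10 + 1) * (Fintype.card F ^ 6 + 1) ≤
        finrank ℂ V ∨
      (finrank ℂ V = dm (proj ρ ψ (xr certE8 239) 0) + (Fintype.card F - 1) * Fintype.card F ^ 28 ∧
        ((3 ≤ Fintype.card F ∧ Fintype.card F * (Fintype.card F ^ 12 + 1) * (Fintype.card F ^ 10 + 1) *
            (Fintype.card F ^ 6 + 1) ≤ finrank ℂ V + 8) ∨
          (Fintype.card F = 2 ∧ 2 * (2 ^ 12 + 1) * (2 ^ 10 + 1) * (2 ^ 6 + 1) ≤ finrank ℂ V + 200))) := by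
  obtain ⟨q, hqdef⟩ : ∃ q, q = Fintype.card F := ⟨_, rfl⟩
  rw [← hqdef]
  set T := q * (q ^ 12 + 1) * (q ^ 10 + 1) * (q ^ 6 + 1) with hT
  have hq : 2 ≤ q := hqdef ▸ Fintype.one_lt_card
  by_cases hbound : T ≤ finrank ℂ V
  · exact Or.inl hbound
  push Not at hbound
  refine Or.inr ?_
  have hsimple : IsSimpleGroup (Gp chevE8 F) :=
    (certE8.simple_group (F := F) connectedE8 perfectE8 (Cfsg.Agent.S1050.result chevE8 (by simp))).1
  have hne := dm_proj_lt certE8 (ρ := ρ) hψ hsimple hρ hk (z := 239) (by decide +kernel)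
  obtain ⟨a, hTot, hHalf, hRoot⟩ := heis_main certE8 (ρ := ρ) chkHeisE8 hψ
    (v := [0, 0, 0, 0, 0, 0, 0, 1]) (by decide +kernel)
  rw [show heisE8.z = 239 from rfl, show heisE8.psi.length = 28 from rfl, ← hqdef] at hTot hHalf hRoot
  set E1 := proj ρ ψ (xr certE8 239) 0 with hE1def
  have hE1 : On certE8 ρ levE80.K levE80.St levE80.J E1 := on_centre hψ
  have hdE : dm E1 ≤ finrank ℂ V := by rw [hTot]; omega
  -- the first level
  obtain hbig | hc0 := big_or_cells certE8 chkLevE80 hE1 hψ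
    (bigAt_of_pre certE8 chkLevE80 hE1 hψ chkBigE80 chkPreE80)
  · exfalso
    rw [← hqdef, show bigE80.es1.length + bigE80.es2.length = 43 from rfl] at hbig
    obtain ⟨m, hm⟩ : ∃ m, q = m + 2 := ⟨q - 2, by omega⟩
    rw [hm, show m + 2 - 1 = m + 1 by omega] at hbig
    rw [hT, hm] at hbound
    ring_nf at hbig hbound
    omega
  have hlead := dm_lead certE8 chkLevE80 hE1 hψ hc0 (by decide +kernel) (N := 27) (by decide +kernel)
  have hdim := dm_eq_cells certE8 chkLevE80 hE1 hψ hc0
  have h238 := hHalf 238 wordHalfE8 (by decide +kernel) (show ∀ i ∈ wordHalfE8, i < tabE8.l by decide +kernel)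
    (by decide +kernel)
  rw [show levE80.z = 238 from rfl, ← hqdef] at hlead
  have hba : theMult certE8 chkLevE80 hE1 ψ = a := by
    refine Nat.eq_of_mul_eq_mul_right (Nat.mul_pos (show 0 < q - 1 by omega) (Nat.pow_pos (n := 28) (show 0 < q by omega))) ?_
    have e1 : q * (theMult certE8 chkLevE80 hE1 ψ * ((q - 1) * q ^ 27)) = (q - 1) * (a * q ^ 28) := by
      rw [hlead, Nat.mul_add] at h238
      omega
    calc theMult certE8 chkLevE80 hE1 ψ * ((q - 1) * q ^ 28)
        = q * (theMult certE8 chkLevE80 hE1 ψ * ((q - 1) * q ^ 27)) := by ring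
      _ = a * ((q - 1) * q ^ 28) := by rw [e1]; ring
  rw [← hqdef, hba, expo_sum _ _ _ sumE80] at hdim
  simp only [List.map_cons, List.map_nil, List.sum_cons, List.sum_nil] at hdim
  have ha : a = 1 := by
    by_contra ha1
    have ha0 : a ≠ 0 := fun e => hne (by rw [e] at hTot; simpa using hTot.symm)
    generalize dm (nextE certE8 chkLevE80 hE1 ψ) = e2 at hdim
    generalize dm E1 = e1 at hdim hTot
    have h2 : ∀ X : ℕ, 2 * X ≤ a * X := fun X => Nat.mul_le_mul_right _ (by omega)
    obtain ⟨m, hm⟩ : ∃ m, q = m + 2 := ⟨q - 2, by omega⟩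
    rw [hm, show m + 2 - 1 = m + 1 by omega] at hdim hTot
    rw [hT, hm] at hbound
    set A := (m + 1) * (m + 2) ^ 28 with hA
    set B := (m + 1) * ((m + 2) ^ 27 + ((m + 2) ^ 26 + ((m + 2) ^ 25 + (m + 2) ^ 24))) with hB
    have hA2 : 2 * A ≤ (m + 1) * (a * (m + 2) ^ 28) := le_of_le_of_eq (h2 A) (by rw [hA]; ring)
    have hB2 : 2 * B ≤ e1 := by
      refine le_trans (h2 B) ?_
      rw [hdim]
      refine le_trans ?_ (Nat.le_add_left _ _)
      refine Nat.mul_le_mul_left _ ?_
      rw [hB]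
      exact Nat.mul_le_mul_left _ (by omega)
    have h3 : (m + 2) * ((m + 2) ^ 12 + 1) * ((m + 2) ^ 10 + 1) * ((m + 2) ^ 6 + 1) ≤ 2 * A + 2 * B := by
      rw [hA, hB]
      ring_nf
      omega
    omega
  rw [ha, one_mul] at hTot hdim
  rw [ha] at hba
  refine ⟨hTot, ?_⟩
  -- the test root of the first level
  set E2 := nextE certE8 chkLevE80 hE1 ψ with hE2def
  have hE2 : On certE8 ρ (levE80.K ++ levE80.psi) stepE80.St' stepE80.J' E2 :=
    on_next' certE8 chkLevE80 hE1 hψ chkStepE80
  have htest := dm_test certE8 chkLevE80 hE1 hψ chkStepE80 hc0 hba (Or.inl (by decide +kernel))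
    (fun t => hE2.comm _ (by decide +kernel) t)
  rw [hitSum_eq, hitE80, ← hqdef, expo_sum _ _ _ sumE80] at htest
  simp only [List.map_cons, List.map_nil, List.sum_cons, List.sum_nil] at htest
  have hroot := hRoot ha wordRootE8 (show ∀ i ∈ wordRootE8, i < tabE8.l by decide +kernel) (by decide +kernel)
  rw [show (srcs tabE8 heisE8.psi heisE8.g).length = 6 from by decide +kernel] at hroot
  have hmove : dm (proj ρ ψ (xr certE8 heisE8.g) 0 * E1) = dm (proj ρ ψ (xr certE8 stepE80.g) 0 * E1) := by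
    have hw : WordOK tabE8 wordTestE8 := show ∀ i ∈ wordTestE8, i < tabE8.l by decide +kernel
    have hwJ : ∀ i ∈ wordTestE8, i ∈ levE80.J := by decide +kernel
    have hg : heisE8.g < tabE8.n := by decide +kernel
    obtain ⟨c, hc, e⟩ := wel_conj certE8 (F := F) hw hg
    have hgz : chkTerms tabE8 [] heisE8.g 239 = true := by decide +kernel
    have hi : IsIdempotentElem (proj ρ ψ (xr certE8 heisE8.g) 0 * E1) :=
      (isIdempotentElem_proj ρ ψ hψ _ 0).mul_of_commute
        (commute_proj_left ρ ψ (fun t => commute_proj_z certE8 hg (by decide +kernel) hgz 0 t) 0) hE1.idem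
    rw [← dm_cj ρ (wel certE8 hw) hi, cj_mul, cj_proj hc e, zero_div, cj_of_commute ρ (hE1.welC _ hw hwJ),
      show rword tabE8 wordTestE8 heisE8.g = stepE80.g from by decide +kernel]
  rw [hmove] at hroot
  have hcur1 : dm E2 = dm (proj ρ ψ (xr certE8 stepE80.g) 0 * E2) + (q - 1) * q ^ 16 := by
    rw [← hE2def] at htest
    apply Nat.eq_of_mul_eq_mul_left (show 0 < q by omega)
    zify [show 1 ≤ q by omega] at htest hroot hdim ⊢
    linear_combination htest + hroot - (q : ℤ) * hdim
  clear hlead h238 htest hroot hmove hRoot hHalf hc0 hba hne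
  -- the level of E7
  have hE2a : On certE8 ρ levE81.K levE81.St levE81.J E2 := hE2
  obtain hbig | ⟨-, hd1, hnext1⟩ := descend certE8 chkLevE81 hE2a hψ chkStepE81 (N := 16) (N' := 10)
    (bigAt_of_chk certE8 chkLevE81 hE2a hψ chkBigE81) (by decide +kernel) (by rw [← hqdef]; exact hcur1)
    (by
      rw [hitSum_eq, show hitList tabE8 levE81 stepE81.g = [11, 12, 13, 14, 15, 16] by decide +kernel, ← hqdef]
      simp only [List.map_cons, List.map_nil, List.sum_cons, List.sum_nil]
      obtain ⟨m, hm⟩ : ∃ m, q = m + 2 := ⟨q - 2, by omega⟩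
      rw [hm, show m + 2 - 1 = m + 1 by omega]
      ring)
  · exfalso
    rw [← hqdef, show bigE81.es1.length + bigE81.es2.length = 24 from rfl] at hbig
    obtain ⟨m, hm⟩ : ∃ m, q = m + 2 := ⟨q - 2, by omega⟩
    rw [hm, show m + 2 - 1 = m + 1 by omega] at hTot hdim hbig
    rw [hT, hm] at hbound
    ring_nf at hTot hdim hbig hbound
    omega
  have hcur2 := hnext1 (Or.inl (by decide +kernel)) (by decide +kernel)
  rw [expo_sum _ _ _ sumE81, ← hqdef] at hd1
  simp only [List.map_cons, List.map_nil, List.sum_cons, List.sum_nil] at hd1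
  rw [← hqdef] at hcur2
  set E3 := nextE certE8 chkLevE81 hE2a ψ with hE3def
  have hE3 : On certE8 ρ levE82.K levE82.St levE82.J E3 := on_next certE8 chkLevE81 hE2a hψ chkStepE81
  -- the level of E6
  obtain hbig | ⟨-, hd2, hnext2⟩ := descend certE8 chkLevE82 hE3 hψ chkStepE82 (N := 10) (N' := 6)
    (bigAt_of_chk certE8 chkLevE82 hE3 hψ chkBigE82) (by decide +kernel) (by rw [← hqdef]; exact hcur2)
    (by
      rw [hitSum_eq, show hitList tabE8 levE82 stepE82.g = [7, 8, 9, 10] by decide +kernel, ← hqdef]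
      simp only [List.map_cons, List.map_nil, List.sum_cons, List.sum_nil]
      obtain ⟨m, hm⟩ : ∃ m, q = m + 2 := ⟨q - 2, by omega⟩
      rw [hm, show m + 2 - 1 = m + 1 by omega]
      ring)
  · exfalso
    rw [← hqdef, show bigE82.es1.length + bigE82.es2.length = 14 from rfl] at hbig
    obtain ⟨m, hm⟩ : ∃ m, q = m + 2 := ⟨q - 2, by omega⟩
    rw [hm, show m + 2 - 1 = m + 1 by omega] at hTot hdim hd1 hbig
    rw [hT, hm] at hbound
    ring_nf at hTot hdim hd1 hbig hbound
    omega
  rw [expo_sum _ _ _ sumE82, ← hqdef] at hd2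
  simp only [List.map_cons, List.map_nil, List.sum_cons, List.sum_nil] at hd2
  rcases Nat.lt_or_ge q 3 with hq2 | hq3
  · obtain rfl : q = 2 := by omega
    refine Or.inr ⟨rfl, ?_⟩
    norm_num at hTot hdim hd1 hd2 ⊢
    omega
  refine Or.inl ⟨hq3, ?_⟩
  have hqq : 2 < Fintype.card F := by omega
  have hcur3 := hnext2 (Or.inr hqq) (by decide +kernel)
  rw [← hqdef] at hcur3
  set E4 := nextE certE8 chkLevE82 hE3 ψ with hE4def
  have hE4 : On certE8 ρ levE83.K levE83.St levE83.J E4 := on_next certE8 chkLevE82 hE3 hψ chkStepE82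
  obtain ⟨m, hm⟩ : ∃ m, q = m + 3 := ⟨q - 3, by omega⟩
  -- the level of D5
  obtain hbig | ⟨-, hd3, hnext3⟩ := descend certE8 chkLevE83 hE4 hψ chkStepE83 (N := 6) (N' := 4)
    (bigAt_of_chk certE8 chkLevE83 hE4 hψ chkBigE83) (by decide +kernel) (by rw [← hqdef]; exact hcur3)
    (by
      rw [hitSum_eq, show hitList tabE8 levE83 stepE83.g = [5, 6] by decide +kernel, ← hqdef]
      simp only [List.map_cons, List.map_nil, List.sum_cons, List.sum_nil]
      rw [hm, show m + 3 - 1 = m + 2 by omega]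
      ring)
  · exfalso
    rw [← hqdef, show bigE83.es1.length + bigE83.es2.length = 6 from rfl] at hbig
    rw [hm, show m + 3 - 1 = m + 2 by omega] at hTot hdim hd1 hd2 hbig
    rw [hT, hm] at hbound
    ring_nf at hTot hdim hd1 hd2 hbig hbound
    omega
  have hcur4 := hnext3 (Or.inr hqq) (by decide +kernel)
  rw [expo_sum _ _ [6, 5, 4, 3, 3, 2, 1, 0] (by decide +kernel), ← hqdef] at hd3
  simp only [List.map_cons, List.map_nil, List.sum_cons, List.sum_nil] at hd3
  rw [← hqdef] at hcur4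
  set E5 := nextE certE8 chkLevE83 hE4 ψ with hE5def
  have hE5 : On certE8 ρ levE84.K levE84.St levE84.J E5 := on_next certE8 chkLevE83 hE4 hψ chkStepE83
  -- the level of D4
  obtain hbig | ⟨-, hd4, hnext4⟩ := descend certE8 chkLevE84 hE5 hψ chkStepE84 (N := 4) (N' := 2)
    (bigAt_of_chk certE8 chkLevE84 hE5 hψ chkBigE84) (by decide +kernel) (by rw [← hqdef]; exact hcur4)
    (by
      rw [hitSum_eq, show hitList tabE8 levE84 stepE84.g = [3, 4] by decide +kernel, ← hqdef]
      simp only [List.map_cons, List.map_nil, List.sum_cons, List.sum_nil]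
      rw [hm, show m + 3 - 1 = m + 2 by omega]
      ring)
  · exfalso
    rw [← hqdef, show bigE84.es1.length + bigE84.es2.length = 4 from rfl] at hbig
    rw [hm, show m + 3 - 1 = m + 2 by omega] at hTot hdim hd1 hd2 hd3 hbig
    rw [hT, hm] at hbound
    ring_nf at hTot hdim hd1 hd2 hd3 hbig hbound
    omega
  have hcur5 := hnext4 (Or.inr hqq) (by decide +kernel)
  rw [expo_sum _ _ [4, 3, 2, 2, 1, 0] (by decide +kernel), ← hqdef] at hd4
  simp only [List.map_cons, List.map_nil, List.sum_cons, List.sum_nil] at hd4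
  rw [← hqdef] at hcur5
  set E6 := nextE certE8 chkLevE84 hE5 ψ with hE6def
  have hE6 : On certE8 ρ levE85.K levE85.St levE85.J E6 := on_next certE8 chkLevE84 hE5 hψ chkStepE84
  -- the level of A3
  obtain hbig | ⟨-, hd5, hnext5⟩ := descend certE8 chkLevE85 hE6 hψ chkStepE85 (N := 2) (N' := 1)
    (bigAt_nil certE8 chkLevE85 hE6 rfl (finrank ℂ V + 1)) (by decide +kernel) (by rw [← hqdef]; exact hcur5)
    (by
      rw [hitSum_eq, show hitList tabE8 levE85 stepE85.g = [2] by decide +kernel, ← hqdef]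
      simp only [List.map_cons, List.map_nil, List.sum_cons, List.sum_nil]
      rw [hm, show m + 3 - 1 = m + 2 by omega]
      ring)
  · exfalso
    omega
  have hcur6 := hnext5 (Or.inr hqq) (by decide +kernel)
  rw [expo_sum _ _ [2, 1, 0] (by decide +kernel), ← hqdef] at hd5
  simp only [List.map_cons, List.map_nil, List.sum_cons, List.sum_nil] at hd5
  rw [← hqdef] at hcur6
  set E7 := nextE certE8 chkLevE85 hE6 ψ with hE7def
  have hE7 : On certE8 ρ levE86.K levE86.St levE86.J E7 := on_next certE8 chkLevE85 hE6 hψ chkStepE85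
  -- the level of A2
  obtain hbig | ⟨-, hd6, hnext6⟩ := descend certE8 chkLevE86 hE7 hψ chkStepE86 (N := 1) (N' := 0)
    (bigAt_nil certE8 chkLevE86 hE7 rfl (finrank ℂ V + 1)) (by decide +kernel) (by rw [← hqdef]; exact hcur6)
    (by
      rw [hitSum_eq, show hitList tabE8 levE86 stepE86.g = [1] by decide +kernel, ← hqdef]
      simp only [List.map_cons, List.map_nil, List.sum_cons, List.sum_nil]
      rw [hm, show m + 3 - 1 = m + 2 by omega]
      ring)
  · exfalso
    omega
  have hcur7 := hnext6 (Or.inr hqq) (by decide +kernel)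
  rw [expo_sum _ _ [1, 0] (by decide +kernel), ← hqdef] at hd6
  simp only [List.map_cons, List.map_nil, List.sum_cons, List.sum_nil] at hd6
  rw [← hqdef] at hcur7
  rw [hm, show m + 3 - 1 = m + 2 by omega] at hTot hdim hd1 hd2 hd3 hd4 hd5 hd6 hcur7
  rw [hT, hm]
  ring_nf at hTot hdim hd1 hd2 hd3 hd4 hd5 hd6 hcur7 ⊢
  omega

/-- The bound. -/
theorem degree_bound_E8 (ρ : Representation ℂ (Gp chevE8 F) V) (hρ : ρ.IsIrreducible)
    (hk : 2 ≤ finrank ℂ V) :
    Fintype.card F * (Fintype.card F ^ 12 + 1) * (Fintype.card F ^ 10 + 1) * (Fintype.card F ^ 6 + 1) ≤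
      finrank ℂ V := by
  have hψ := AddChar.FiniteField.primitiveChar_to_Complex_isPrimitive F
  rcases chain_E8 hψ hρ hk with hb | ⟨hd, hrest⟩
  · exact hb
  by_contra hlt
  push Not at hlt
  set q := Fintype.card F with hqdef
  have hle : q ^ (28 + 1) ≤ finrank ℂ V := by
    have e : q * (q ^ 12 + 1) * (q ^ 10 + 1) * (q ^ 6 + 1) =
        q ^ 29 + (q ^ 23 + q ^ 19 + q ^ 17 + q ^ 13 + q ^ 11 + q ^ 7 + q) := by ring
    rcases hrest with ⟨hq3, h6⟩ | ⟨hq2, h6⟩
    · have : 8 ≤ q ^ 23 := le_trans (by norm_num) (Nat.pow_le_pow_left hq3 23)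
      rw [e] at h6
      norm_num
      omega
    · rw [hq2]; norm_num at h6 ⊢; omega
  have hdvd := dvd_class certE8 hψ hρ (z := 239) (N := 28) (by decide +kernel)
    (v := [0, 0, 0, 0, 0, 0, 0, 1]) (by decide +kernel) hd index_root_E8 hle
  rcases hrest with ⟨hq3, h6⟩ | ⟨hq2, h6⟩
  · exact not_dvd_E8 hq3 h6 hlt hdvd
  · rw [← hqdef, hq2] at hdvd
    rw [hq2] at hlt
    have := smallTwoE8
    simp only [List.all_eq_true, List.mem_range, decide_eq_true_eq] at this
    set T2 := 2 * (2 ^ 12 + 1) * (2 ^ 10 + 1) * (2 ^ 6 + 1)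
    refine this (T2 - finrank ℂ V - 1) (by omega) ?_
    rw [show T2 - (T2 - finrank ℂ V - 1 + 1) = finrank ℂ V by omega]
    exact hdvd

end CfsgLib.EMinDeg
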