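import Mathlib

/-!
Divisibility of a product of values of polynomials by the value of another, from certificates.
-/

set_option autoImplicit false

namespace CfsgLib.EMinDeg

/-- The value of a coefficient list. -/
def evalL (x : ℤ) : List ℤ → ℤ
  | [] => 0
  | a :: p => a + x * evalL x p

/-- Sum of coefficient lists. -/
def addL : List ℤ → List ℤ → List ℤ
  | [], q => q
  | p, [] => p
  | a :: p, b :: q => (a + b) :: addL p q

/-- Product of coefficient lists. -/
def mulL : List ℤ → List ℤ → List ℤ
  | [], _ => []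
  | a :: p, q => addL (q.map (a * ·)) (0 :: mulL p q)

/-- Power of a coefficient list. -/
def powL (p : List ℤ) : ℕ → List ℤ
  | 0 => [1]
  | n + 1 => mulL p (powL p n)

/-- Two coefficient lists agree up to trailing zeros. -/
def eqL : List ℤ → List ℤ → Bool
  | [], q => q.all fun b => decide (b = 0)
  | p, [] => p.all fun b => decide (b = 0)
  | a :: p, b :: q => decide (a = b) && eqL p q

theorem evalL_addL (x : ℤ) : ∀ p q : List ℤ, evalL x (addL p q) = evalL x p + evalL x q
  | [], q => by simp [addL, evalL]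
  | a :: p, [] => by simp [addL, evalL]
  | a :: p, b :: q => by simp only [addL, evalL, evalL_addL x p q]; ring

theorem evalL_map_mul (x a : ℤ) : ∀ q : List ℤ, evalL x (q.map (a * ·)) = a * evalL x q
  | [] => by simp [evalL]
  | b :: q => by simp only [List.map_cons, evalL, evalL_map_mul x a q]; ring

theorem evalL_mulL (x : ℤ) : ∀ p q : List ℤ, evalL x (mulL p q) = evalL x p * evalL x q
  | [], q => by simp [mulL, evalL]
  | a :: p, q => by simp only [mulL, evalL_addL, evalL, evalL_map_mul, evalL_mulL x p q]; ring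

theorem evalL_powL (x : ℤ) (p : List ℤ) : ∀ n, evalL x (powL p n) = evalL x p ^ n
  | 0 => by simp [powL, evalL]
  | n + 1 => by rw [powL, evalL_mulL, evalL_powL x p n, pow_succ']

theorem evalL_eq_zero (x : ℤ) : ∀ {p : List ℤ}, (p.all fun b => decide (b = 0)) = true → evalL x p = 0
  | [], _ => rfl
  | a :: p, h => by
    simp only [List.all_cons, Bool.and_eq_true, decide_eq_true_eq] at h
    rw [evalL, h.1, evalL_eq_zero x h.2]; ring

theorem evalL_eqL (x : ℤ) : ∀ {p q : List ℤ}, eqL p q = true → evalL x p = evalL x q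
  | [], q, h => by rw [evalL_eq_zero x (p := q) h]; rfl
  | a :: p, [], h => by rw [evalL_eq_zero x (p := a :: p) h]; rfl
  | a :: p, b :: q, h => by
    simp only [eqL, Bool.and_eq_true, decide_eq_true_eq] at h
    rw [evalL, evalL, h.1, evalL_eqL x h.2]

/-- One factor: `P` occurring `e` times, with the candidate equal to `P ^ a * S` and `u * S + v * P = R`. -/
structure Fac where
  P : List ℤ
  e : ℕ
  a : ℕ
  R : ℤ
  u : List ℤ
  v : List ℤ
  S : List ℤ

/-- The check of the factors against a candidate and a product. -/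
def chkFacs (K W : List ℤ) (fs : List Fac) : Bool :=
  eqL (fs.foldr (fun f acc => mulL (powL f.P f.e) acc) [1]) W &&
    fs.all fun f => eqL (mulL (powL f.P f.a) f.S) K && eqL (addL (mulL f.u f.S) (mulL f.v f.P)) [f.R]

/-- The value bounding the candidate. -/
def facBound (x : ℤ) (fs : List Fac) : ℤ :=
  fs.foldr (fun f acc => evalL x f.P ^ f.a * f.R ^ f.e * acc) 1

theorem dvd_replace {k S P R u v M : ℤ} {a e : ℕ} (hk : P ^ a * S = k) (hR : u * S + v * P = R)
    (h : k ∣ P ^ e * M) : k ∣ P ^ a * R ^ e * M := by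
  have hS : S ∣ P ^ e * M := (Dvd.intro_left _ hk).trans h
  have h1 : S ∣ (R ^ e - (v * P) ^ e) := by
    refine (?_ : S ∣ R - v * P).trans (sub_dvd_pow_sub_pow _ _ _)
    exact ⟨u, by linear_combination -hR⟩
  have h2 : S ∣ R ^ e * M := by
    have e1 : R ^ e * M = (R ^ e - (v * P) ^ e) * M + v ^ e * (P ^ e * M) := by ring
    rw [e1]
    exact dvd_add (dvd_mul_of_dvd_left h1 _) (dvd_mul_of_dvd_right hS _)
  rw [← hk, mul_assoc]
  exact mul_dvd_mul_left _ h2

/-- A candidate dividing the product divides the bound. -/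
theorem dvd_facBound {K W : List ℤ} {fs : List Fac} (hc : chkFacs K W fs = true) (x : ℤ)
    (h : evalL x K ∣ evalL x W) : evalL x K ∣ facBound x fs := by
  simp only [chkFacs, Bool.and_eq_true, List.all_eq_true] at hc
  obtain ⟨hW, hf⟩ := hc
  rw [← evalL_eqL x hW] at h
  suffices key : ∀ L : List Fac, (∀ f ∈ L, f ∈ fs) → ∀ M : ℤ,
      evalL x K ∣ evalL x (L.foldr (fun f acc => mulL (powL f.P f.e) acc) [1]) * M →
        evalL x K ∣ facBound x L * M by
    simpa using key fs (fun _ h => h) 1 (by simpa using h)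
  intro L
  induction L with
  | nil => intro _ M hM; simpa [facBound, evalL] using hM
  | cons f L ih =>
    intro hmem M hM
    obtain ⟨h1, h2⟩ := hf f (hmem f List.mem_cons_self)
    have e1 := evalL_eqL x h1
    have e2 := evalL_eqL x h2
    rw [evalL_mulL, evalL_powL] at e1
    simp only [evalL_addL, evalL_mulL, evalL, mul_zero, add_zero] at e2
    simp only [List.foldr_cons, evalL_mulL, evalL_powL] at hM
    have h3 := ih (fun g hg => hmem g (List.mem_cons_of_mem _ hg)) (evalL x f.P ^ f.e * M)
      (by convert hM using 1; ring)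
    have h4 := dvd_replace (M := facBound x L * M) (e := f.e) e1 e2 (by convert h3 using 1; ring)
    convert h4 using 1
    simp only [facBound, List.foldr_cons]
    ring

/-- The bound as a coefficient list. -/
def boundL (fs : List Fac) : List ℤ :=
  fs.foldr (fun f acc => mulL (powL f.P f.a) (mulL [f.R ^ f.e] acc)) [1]

theorem evalL_boundL (x : ℤ) : ∀ fs : List Fac, evalL x (boundL fs) = facBound x fs
  | [] => by simp [boundL, facBound, evalL]
  | f :: fs => by
    have ih := evalL_boundL x fs
    simp only [boundL, facBound, List.foldr_cons, evalL_mulL, evalL_powL, evalL] at ih ⊢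
    rw [ih]; ring

theorem abs_evalL_le {x : ℤ} (hx : 1 ≤ x) :
    ∀ p : List ℤ, |evalL x p| ≤ (p.map fun c => |c|).sum * x ^ (p.length - 1)
  | [] => by simp [evalL]
  | [a] => by simp [evalL]
  | a :: b :: p => by
    have ih := abs_evalL_le hx (b :: p)
    have hS : (0 : ℤ) ≤ ((b :: p).map fun c => |c|).sum :=
      List.sum_nonneg fun c hc => by obtain ⟨y, -, rfl⟩ := List.mem_map.1 hc; exact abs_nonneg y
    simp only [List.length_cons, Nat.add_sub_cancel] at ih ⊢
    rw [evalL, List.map_cons, List.sum_cons, add_mul]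
    refine (abs_add_le _ _).trans (add_le_add (le_mul_of_one_le_right (abs_nonneg a) (one_le_pow₀ hx)) ?_)
    rw [abs_mul, abs_of_nonneg (show (0 : ℤ) ≤ x by omega), pow_succ']
    calc x * |evalL x (b :: p)| ≤ x * (((b :: p).map fun c => |c|).sum * x ^ p.length) :=
          mul_le_mul_of_nonneg_left ih (by omega)
      _ = _ := by ring

theorem evalL_ne_zero {x : ℤ} : ∀ {p : List ℤ}, (∀ c ∈ p, |c| < x) → (∃ c ∈ p, c ≠ 0) → evalL x p ≠ 0
  | [], _, h => by simp at h
  | a :: p, hlt, hne => by
    intro h0
    rw [evalL] at h0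
    have ha : a = 0 := by
      have hd : x ∣ a := ⟨-evalL x p, by linear_combination h0⟩
      exact Int.eq_zero_of_abs_lt_dvd hd (hlt a List.mem_cons_self)
    subst ha
    obtain ⟨c, hc, hc0⟩ := hne
    have hx : x ≠ 0 := fun e => absurd (hlt 0 List.mem_cons_self) (by simp [e])
    refine evalL_ne_zero (p := p) (fun c hc => hlt c (List.mem_cons_of_mem _ hc)) ⟨c, ?_, hc0⟩
      ((mul_eq_zero.1 (by linear_combination h0 : x * evalL x p = 0)).resolve_left hx)
    exact (List.mem_cons.1 hc).resolve_left hc0

/-- The bound is nonzero and below `N ^ (D - len)`. -/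
def chkBound (N D len : ℕ) (fs : List Fac) : Bool :=
  (fs.all fun f => decide (f.R ≠ 0) &&
    (decide (f.a = 0) || ((f.P.all fun c => decide (|c| < (N : ℤ))) && f.P.any fun c => decide (c ≠ 0)))) &&
  decide ((boundL fs).length ≤ len + 1) && decide (len ≤ D) &&
  decide (((boundL fs).map fun c => |c|).sum < (N : ℤ) ^ (D - len))

theorem not_dvd_of_chk {K W : List ℤ} {fs : List Fac} {N D len : ℕ} (hc : chkFacs K W fs = true)
    (hb : chkBound N D len fs = true) {x : ℤ} (hN : (N : ℤ) ≤ x) (h1 : 1 ≤ x)
    (hK : x ^ D ≤ evalL x K) : ¬ evalL x K ∣ evalL x W := by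
  intro hd
  simp only [chkBound, Bool.and_eq_true, Bool.or_eq_true, List.all_eq_true, List.any_eq_true,
    decide_eq_true_eq] at hb
  obtain ⟨⟨⟨hne, hlen⟩, hD⟩, hsum⟩ := hb
  have h := dvd_facBound hc x hd
  have hne' : facBound x fs ≠ 0 := by
    clear hlen hsum hc h
    induction fs with
    | nil => simp [facBound]
    | cons f fs ih =>
      obtain ⟨hR, hP⟩ := hne f List.mem_cons_self
      simp only [facBound, List.foldr_cons]
      refine mul_ne_zero (mul_ne_zero ?_ (pow_ne_zero _ hR)) (ih fun g hg => hne g (List.mem_cons_of_mem _ hg))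
      rcases hP with e | ⟨hc1, hc2⟩
      · rw [e, pow_zero]; exact one_ne_zero
      · exact pow_ne_zero _ (evalL_ne_zero (fun c hc => lt_of_lt_of_le (hc1 c hc) hN) hc2)
  have h3 := Int.le_of_dvd (abs_pos.2 hne') ((dvd_abs _ _).2 h)
  rw [← evalL_boundL] at h3
  have h4 : |evalL x (boundL fs)| < x ^ D := by
    calc |evalL x (boundL fs)| ≤ ((boundL fs).map fun c => |c|).sum * x ^ ((boundL fs).length - 1) :=
          abs_evalL_le h1 _
      _ ≤ ((boundL fs).map fun c => |c|).sum * x ^ len := by
          refine mul_le_mul_of_nonneg_left (pow_le_pow_right₀ h1 (by omega)) ?_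
          exact List.sum_nonneg fun c hc => by obtain ⟨y, -, rfl⟩ := List.mem_map.1 hc; exact abs_nonneg y
      _ < x ^ (D - len) * x ^ len :=
          mul_lt_mul_of_pos_right (lt_of_lt_of_le hsum (pow_le_pow_left₀ (Int.natCast_nonneg N) hN _))
            (pow_pos (by omega) _)
      _ = x ^ D := by rw [← pow_add, Nat.sub_add_cancel hD]
  omega

end CfsgLib.EMinDeg
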