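import Cfsg.Agent.Lib.Chev.TwistEndo
import Cfsg.Agent.Lib.Chev.Simple
import Cfsg.Agent.Lib.Chev.DiagOrder

/-!
Root subgroups, torus elements and Weyl elements of a certified Chevalley group, as elements of the group.
-/

set_option autoImplicit false
set_option linter.unusedSectionVars false

namespace CfsgLib.EMinDeg

open Cfsg.Lie CfsgLib.Chev

/-- The group. -/
abbrev Gp (D : ChevalleyDatum) (F : Type*) [Field F] : Type _ := ↥(D.group F)

/-- All commutator terms of two roots lie in a list. -/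
noncomputable def chkTerms (T : Tab) (K : List ℕ) (a b : ℕ) : Bool :=
  decide (a = b) || (decide (b ≠ T.neg a) && (T.commTerms a b).all fun q => decide (q.1 ∈ K))

/-- The value of a cocharacter on a root. -/
noncomputable def pairV (T : Tab) (v : List ℤ) (r : ℕ) : ℤ :=
  ((List.range T.l).map fun i => v.getD i 0 * T.car i r).sum

variable {D : ChevalleyDatum} {T : Tab} {C : Tab.Cover} (h : Cert D T C)
variable {F : Type*} [Field F]

/-- The root subgroup. -/
noncomputable def xr (r : ℕ) : AddChar F (Gp D F) :=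
  if hr : r < T.n then
    { toFun := fun t => ⟨X D r t, Cert.X_mem_group h hr t⟩
      map_zero_eq_one' := Subtype.ext (Cert.X_zero h hr)
      map_add_eq_mul' := fun a b => Subtype.ext (Cert.X_add h hr a b).symm }
  else 1

theorem coe_xr {r : ℕ} (hr : r < T.n) (t : F) : ((xr h r t : Gp D F) : GL D.Idx F) = X D r t := by
  rw [xr, dif_pos hr]; rfl

theorem xr_inv (r : ℕ) (t : F) : (xr h r t : Gp D F)⁻¹ = xr h r (-t) := by
  rw [inv_eq_iff_mul_eq_one, ← AddChar.map_add_eq_mul, add_neg_cancel, AddChar.map_zero_eq_one]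

theorem xr_conj {a b : ℕ} (ha : a < T.n) (hb : b < T.n) (hne : b ≠ a) (hneg : b ≠ T.neg a)
    (hL : ∀ q ∈ T.commTerms a b, q.1 < T.n) (s t : F) :
    xr h a s * xr h b t * (xr h a s)⁻¹ = xr h b t *
      ((T.commTerms a b).map fun c => xr h c.1 ((c.2.1 : F) * s ^ c.2.2.1 * t ^ c.2.2.2)).prod := by
  refine Subtype.ext ?_
  have e := Cert.X_conj h (F := F) ha hb hne hneg (-s) t
  simp only [_root_.neg_neg] at e
  simp only [Subgroup.coe_mul, InvMemClass.coe_inv, coe_xr h ha, coe_xr h hb, Cert.X_inv h ha, e,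
    SubmonoidClass.coe_list_prod, List.map_map]
  congr 2
  refine List.map_congr_left fun c hc => ?_
  rw [Function.comp_apply, coe_xr h (hL c hc)]

theorem xr_comm {a b : ℕ} (ha : a < T.n) (hb : b < T.n) (hchk : chkTerms T [] a b = true) (s t : F) :
    xr h a s * xr h b t = xr h b t * xr h a s := by
  simp only [chkTerms, Bool.or_eq_true, Bool.and_eq_true, decide_eq_true_eq, List.all_eq_true,
    List.not_mem_nil] at hchk
  rcases hchk with rfl | ⟨hneg, hno⟩
  · rw [← AddChar.map_add_eq_mul, ← AddChar.map_add_eq_mul, add_comm]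
  by_cases hne : b = a
  · subst hne; rw [← AddChar.map_add_eq_mul, ← AddChar.map_add_eq_mul, add_comm]
  have e := xr_conj h ha hb hne hneg (fun q hq => (hno q hq).elim) s t
  rw [List.eq_nil_iff_forall_not_mem.2 fun q hq => hno q hq, List.map_nil, List.prod_nil, mul_one,
    mul_inv_eq_iff_eq_mul] at e
  exact e

include h in
theorem charOf_zpow (v : List ℤ) {s : F} (hs : s ≠ 0) (r : ℕ) :
    charOf T (fun i => s ^ v.getD i 0) r = s ^ pairV T v r := by
  rw [charOf, pairV]
  induction T.l with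
  | zero => simp
  | succ n ih =>
    rw [Finset.prod_range_succ, ih, List.range_succ, List.map_append, List.sum_append,
      zpow_add₀ hs, List.map_singleton, List.sum_singleton, ← _root_.zpow_mul]

/-- A torus element. -/
noncomputable def tor (v : List ℤ) (s : Fˣ) : Gp D F :=
  ⟨Cert.torusHom (D := D) (T := T) fun i => s ^ v.getD (i : ℕ) 0,
    Cert.diagonal_le_group h ((Cert.range_torusHom h).le ⟨_, rfl⟩)⟩

theorem tor_conj (v : List ℤ) (s : Fˣ) {r : ℕ} (hr : r < T.n) (t : F) :
    tor h v s * xr h r t * (tor h v s)⁻¹ = xr h r ((s : F) ^ pairV T v r * t) := by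
  have hs : (s : F) ≠ 0 := s.ne_zero
  have hc : ∀ i < T.l, (s : F) ^ v.getD i 0 ≠ 0 := fun i _ => zpow_ne_zero _ hs
  refine Subtype.ext ?_
  rw [Subgroup.coe_mul, Subgroup.coe_mul, InvMemClass.coe_inv, coe_xr h hr, coe_xr h hr,
    mul_inv_eq_iff_eq_mul]
  refine Units.ext ?_
  have e : (((tor h v s : Gp D F) : GL D.Idx F) : Matrix D.Idx D.Idx F) =
      torus D (charOf T fun i => (s : F) ^ v.getD i 0) := by
    refine torus_congr D fun r _ => ?_
    refine Finset.prod_congr rfl fun i hi => ?_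
    simp [Cert.extC, Finset.mem_range.1 hi]
  rw [Units.val_mul, Units.val_mul, Cert.coe_X h, Cert.coe_X h, e,
    Cert.torus_mul_x h (Cert.isChar_charOf h hc) hr, charOf_zpow h v hs]

/-- An element of the Weyl group. -/
noncomputable def wel {w : List ℕ} (hw : WordOK T w) : Gp D F :=
  ⟨nW D F w, Cert.monomial_le_group h (Cert.nW_mem_monomial h hw)⟩

theorem wel_conj {w : List ℕ} (hw : WordOK T w) {r : ℕ} (hr : r < T.n) :
    ∃ c : F, c ≠ 0 ∧ ∀ t, wel h hw * xr h r t * (wel h hw)⁻¹ = xr h (rword T w r) (c * t) := by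
  obtain ⟨c, hc, e⟩ := Cert.Maps_nW h (F := F) hw hr
  refine ⟨c, hc, fun t => Subtype.ext ?_⟩
  rw [Subgroup.coe_mul, Subgroup.coe_mul, InvMemClass.coe_inv, coe_xr h hr,
    coe_xr h (Cert.rword_lt h hw hr)]
  exact e t

end CfsgLib.EMinDeg
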