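import Cfsg.Agent.Lib.EMinDeg.Corner
import Cfsg.Agent.Lib.EMinDeg.Roots

/-!
The weights of an abelian radical and their images under root, torus and Weyl elements.
-/

set_option autoImplicit false
set_option linter.unusedSectionVars false

namespace CfsgLib.EMinDeg

open Module Cfsg.Lie CfsgLib.Chev CfsgLib.GTwoMinDeg

/-- The roots of a radical. -/
abbrev Ix (psi : List ℕ) : Type := {a : ℕ // a ∈ psi}

/-- The root of the radical met by a commutator. -/
noncomputable def tgt (T : Tab) (psi : List ℕ) (g b : ℕ) : Option (ℕ × ℤ) :=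
  match T.commTerms g b with
  | [(k, c, 1, 1)] => if k ∈ psi then some (k, c) else none
  | _ => none

/-- The roots of a radical are roots commuting modulo the killed roots. -/
noncomputable def chkRad (T : Tab) (K psi : List ℕ) : Bool :=
  psi.all fun a => decide (a < T.n) && psi.all fun b => chkTerms T K a b

/-- A root moves the radical into itself in one step. -/
noncomputable def chkMove (T : Tab) (K psi : List ℕ) (g : ℕ) : Bool :=
  decide (g < T.n) && psi.all fun b => decide (b ≠ g) && decide (b ≠ T.neg g) &&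
    match tgt T psi g b with
    | some kc => decide (kc.1 < T.n) && decide (tgt T psi g kc.1 = none)
    | none => (T.commTerms g b).all fun q => decide (q.1 < T.n) && decide (q.1 ∈ K)

variable {F : Type*} [Field F]

/-- A coordinate. -/
def co {psi : List ℕ} (φ : Ix psi → F) (a : ℕ) : F := if ha : a ∈ psi then φ ⟨a, ha⟩ else 0

theorem co_of_mem {psi : List ℕ} (φ : Ix psi → F) {a : ℕ} (ha : a ∈ psi) : co φ a = φ ⟨a, ha⟩ :=
  dif_pos ha

theorem co_val {psi : List ℕ} (φ : Ix psi → F) (a : Ix psi) : co φ a = φ a := co_of_mem φ a.2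

theorem co_ext {psi : List ℕ} {φ χ : Ix psi → F} (h : ∀ a ∈ psi, co φ a = co χ a) : φ = χ :=
  funext fun a => by rw [← co_val φ, ← co_val χ]; exact h a a.2

/-- The effect of a root element on the weights. -/
noncomputable def mv (T : Tab) {psi : List ℕ} (g : ℕ) (s : F) (φ : Ix psi → F) : Ix psi → F := fun b =>
  match tgt T psi g b with
  | some kc => φ b + (kc.2 : F) * (-s) * co φ kc.1
  | none => φ b

theorem tgt_mem {T : Tab} {psi : List ℕ} {g b k : ℕ} {c : ℤ} (e : tgt T psi g b = some (k, c)) :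
    k ∈ psi ∧ T.commTerms g b = [(k, c, 1, 1)] := by
  simp only [tgt] at e
  split at e
  case h_1 k' c' he =>
    split_ifs at e with hk
    simp only [Option.some.injEq, Prod.mk.injEq] at e
    obtain ⟨rfl, rfl⟩ := e
    exact ⟨hk, he⟩
  case h_2 => exact absurd e (by simp)

theorem co_mv_some {T : Tab} {psi : List ℕ} {g b k : ℕ} {c : ℤ} (e : tgt T psi g b = some (k, c))
    (hb : b ∈ psi) (s : F) (φ : Ix psi → F) :
    co (mv T g s φ) b = co φ b + (c : F) * (-s) * co φ k := by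
  rw [co_of_mem _ hb, co_of_mem φ hb, mv]; simp only [e]

theorem co_mv_none {T : Tab} {psi : List ℕ} {g b : ℕ} (e : tgt T psi g b = none) (s : F)
    (φ : Ix psi → F) : co (mv T g s φ) b = co φ b := by
  by_cases hb : b ∈ psi
  · rw [co_of_mem _ hb, co_of_mem φ hb, mv]; simp only [e]
  · rw [co, dif_neg hb, co, dif_neg hb]

theorem mv_mv_neg {T : Tab} {K psi : List ℕ} {g : ℕ} (hg : chkMove T K psi g = true) (s : F)
    (φ : Ix psi → F) : mv T g (-s) (mv T g s φ) = φ := by
  simp only [chkMove, Bool.and_eq_true, decide_eq_true_eq, List.all_eq_true] at hg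
  refine co_ext fun b hb => ?_
  have h2 := (hg.2 b hb).2
  cases e : tgt T psi g b with
  | none => rw [co_mv_none e, co_mv_none e]
  | some kc =>
    obtain ⟨k, c⟩ := kc
    rw [e] at h2
    simp only [Bool.and_eq_true, decide_eq_true_eq] at h2
    rw [co_mv_some e hb, co_mv_some e hb, co_mv_none h2.2]
    ring

theorem mv_injective {T : Tab} {K psi : List ℕ} {g : ℕ} (hg : chkMove T K psi g = true) (s : F) :
    Function.Injective (mv T g s : (Ix psi → F) → Ix psi → F) := fun φ χ e => by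
  rw [← mv_mv_neg hg s φ, e, mv_mv_neg hg s χ]

variable {D : ChevalleyDatum} {T : Tab} {C : Tab.Cover} (h : Cert D T C)
variable {V : Type*} [AddCommGroup V] [Module ℂ V] [FiniteDimensional ℂ V]

/-- An idempotent fixed by the killed roots and commuting with the roots of a list, with the torus
and with the Weyl elements in some letters. -/
structure On (ρ : Representation ℂ (Gp D F) V) (K St J : List ℕ) (E : Module.End ℂ V) : Prop where
  idem : IsIdempotentElem E
  fix : ∀ r ∈ K, ∀ t, ρ (xr h r t) * E = E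
  comm : ∀ r ∈ St, ∀ t, Commute (ρ (xr h r t)) E
  torC : ∀ v s, Commute (ρ (tor h v s)) E
  welC : ∀ (w : List ℕ) (hw : WordOK T w), (∀ i ∈ w, i ∈ J) → Commute (ρ (wel h hw)) E

theorem rho_terms {ρ : Representation ℂ (Gp D F) V} {E : Module.End ℂ V} {K : List ℕ}
    (hK : ∀ r ∈ K, ∀ t, ρ (xr h r t) * E = E) (L : List (ℕ × ℤ × ℕ × ℕ)) (hL : ∀ q ∈ L, q.1 ∈ K)
    (f : ℕ × ℤ × ℕ × ℕ → F) : ρ ((L.map fun c => xr h c.1 (f c)).prod) * E = E := by
  induction L with
  | nil => rw [List.map_nil, List.prod_nil, map_one, one_mul]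
  | cons a l ih =>
    rw [List.map_cons, List.prod_cons, map_mul, mul_assoc, ih fun q hq => hL q (List.mem_cons_of_mem _ hq),
      hK _ (hL a List.mem_cons_self)]

theorem rho_swap {ρ : Representation ℂ (Gp D F) V} {E : Module.End ℂ V} {K : List ℕ}
    (hK : ∀ r ∈ K, ∀ t, ρ (xr h r t) * E = E) {a b : ℕ} (ha : a < T.n) (hb : b < T.n)
    (hca : ∀ t, Commute (ρ (xr h a t)) E) (hKn : ∀ r ∈ K, r < T.n)
    (hchk : chkTerms T K a b = true) (t u : F) :
    ρ (xr h a t) * (ρ (xr h b u) * E) = ρ (xr h b u) * (ρ (xr h a t) * E) := by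
  simp only [chkTerms, Bool.or_eq_true, Bool.and_eq_true, decide_eq_true_eq, List.all_eq_true] at hchk
  rw [← mul_assoc, ← mul_assoc, ← map_mul, ← map_mul]
  rcases hchk with rfl | ⟨hneg, hall⟩
  · rw [← AddChar.map_add_eq_mul, ← AddChar.map_add_eq_mul, add_comm]
  by_cases hne : b = a
  · subst hne; rw [← AddChar.map_add_eq_mul, ← AddChar.map_add_eq_mul, add_comm]
  have e := xr_conj h ha hb hne hneg (fun q hq => hKn _ (hall q hq)) t u
  rw [mul_inv_eq_iff_eq_mul] at e
  rw [e, map_mul, map_mul, mul_assoc (ρ (xr h b u) * _), (hca t).eq, ← mul_assoc, mul_assoc (ρ (xr h b u)),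
    rho_terms h hK _ hall, map_mul, mul_assoc (ρ (xr h b u)), ← (hca t).eq, ← mul_assoc]

/-- The radical as a family of subgroups. -/
noncomputable def mkRad {ρ : Representation ℂ (Gp D F) V} {K psi : List ℕ} {E : Module.End ℂ V}
    (hi : IsIdempotentElem E) (hK : ∀ r ∈ K, ∀ t, ρ (xr h r t) * E = E) (hKn : ∀ r ∈ K, r < T.n)
    (hc : ∀ r ∈ psi, ∀ t, Commute (ρ (xr h r t)) E) (hp : chkRad T K psi = true) :
    Rad ρ (Ix psi) F where
  x a := xr h a
  E := E
  idem := hi
  fixes a t := hc a a.2 t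
  swap a b t u := by
    have hp' := hp
    simp only [chkRad, Bool.and_eq_true, decide_eq_true_eq, List.all_eq_true] at hp'
    exact rho_swap h hK (hp' a a.2).1 (hp' b b.2).1 (hc a a.2) hKn ((hp' a a.2).2 b b.2) t u

section

variable [Fintype F] {ρ : Representation ℂ (Gp D F) V} {K psi : List ℕ} (R : Rad ρ (Ix psi) F)
  (ψ : AddChar F ℂ)

/-- One weight is carried to another. -/
def Reach (φ χ : Ix psi → F) : Prop := ∃ g, cj ρ g (R.Q ψ φ) = R.Q ψ χ

/-- The multiplicity. -/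
noncomputable def mult (φ : Ix psi → F) : ℕ := dm (R.Q ψ φ)

variable {R ψ}

theorem Reach.refl (φ : Ix psi → F) : Reach R ψ φ φ := ⟨1, cj_one ρ _⟩

theorem Reach.trans {φ χ ω : Ix psi → F} (a : Reach R ψ φ χ) (b : Reach R ψ χ ω) : Reach R ψ φ ω := by
  obtain ⟨g, hg⟩ := a
  obtain ⟨g', hg'⟩ := b
  exact ⟨g' * g, by rw [← cj_cj, hg, hg']⟩

theorem Reach.symm {φ χ : Ix psi → F} (a : Reach R ψ φ χ) : Reach R ψ χ φ := by
  obtain ⟨g, hg⟩ := a
  exact ⟨g⁻¹, by rw [← hg, cj_cj, inv_mul_cancel, cj_one]⟩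

theorem Reach.mult_eq (hψ : ψ.IsPrimitive) {φ χ : Ix psi → F} (a : Reach R ψ φ χ) :
    mult R ψ φ = mult R ψ χ := by
  obtain ⟨g, hg⟩ := a
  rw [mult, mult, ← hg, dm_cj ρ g (R.idem_Q hψ φ)]

/-- The hypotheses tying a family to a radical. -/
structure Ties (R : Rad ρ (Ix psi) F) (K : List ℕ) : Prop where
  x_eq : ∀ a, R.x a = xr h a
  fix : ∀ r ∈ K, ∀ t, ρ (xr h r t) * R.E = R.E
  lt : ∀ a ∈ psi, a < T.n

theorem cj_root (hψ : ψ.IsPrimitive) (ht : Ties h R K) {g : ℕ} (hg : chkMove T K psi g = true)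
    (hc : ∀ t, Commute (ρ (xr h g t)) R.E) (s : F) (φ : Ix psi → F) :
    cj ρ (xr h g s) (R.Q ψ φ) = R.Q ψ (mv T g s φ) := by
  refine R.cj_Q hψ (hc s) (mv_injective hg s) (fun φ b u => ?_) φ
  simp only [chkMove, Bool.and_eq_true, decide_eq_true_eq, List.all_eq_true] at hg
  obtain ⟨⟨hne, hneg⟩, h2⟩ := hg.2 b b.2
  have hb := ht.lt b b.2
  rw [ht.x_eq, xr_inv]
  cases e : tgt T psi g b with
  | none =>
    rw [e] at h2
    simp only [List.all_eq_true, Bool.and_eq_true, decide_eq_true_eq] at h2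
    have ec := xr_conj h hg.1 hb hne hneg (fun q hq => (h2 q hq).1) (-s) u
    rw [xr_inv, _root_.neg_neg] at ec
    rw [ec, map_mul, mul_assoc, ← R.E_mul_Q ψ φ, ← mul_assoc (ρ _) R.E,
      rho_terms h ht.fix _ fun q hq => (h2 q hq).2, R.E_mul_Q, ← ht.x_eq, R.rho_mul_Q]
    simp only [mv, e]
  | some kc =>
    obtain ⟨k, c⟩ := kc
    obtain ⟨hk, el⟩ := tgt_mem e
    have ec := xr_conj h hg.1 hb hne hneg (fun q hq => by
      rw [el, List.mem_singleton] at hq; subst hq; exact ht.lt k hk) (-s) u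
    rw [xr_inv, _root_.neg_neg, el] at ec
    rw [ec, List.map_singleton, List.prod_singleton, map_mul, mul_assoc,
      show xr h k = R.x ⟨k, hk⟩ from (ht.x_eq ⟨k, hk⟩).symm, R.rho_mul_Q, mul_smul_comm, ← ht.x_eq,
      R.rho_mul_Q, smul_smul, ← AddChar.map_add_eq_mul]
    simp only [mv, e, co_of_mem φ hk, pow_one]
    congr 2
    ring

theorem reach_root (hψ : ψ.IsPrimitive) (ht : Ties h R K) {g : ℕ} (hg : chkMove T K psi g = true)
    (hc : ∀ t, Commute (ρ (xr h g t)) R.E) (s : F) (φ : Ix psi → F) :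
    Reach R ψ φ (mv T g s φ) := ⟨_, cj_root h hψ ht hg hc s φ⟩

theorem cj_monomial (hψ : ψ.IsPrimitive) (ht : Ties h R K) {g : Gp D F} (hc : Commute (ρ g) R.E)
    {π : Ix psi → Ix psi} (hπ : Function.Injective π) {c : Ix psi → F} (hc0 : ∀ b, c b ≠ 0)
    (hg : ∀ (b : Ix psi) u, g⁻¹ * xr h b u * g = xr h (π b) (c b * u)) (φ : Ix psi → F) :
    cj ρ g (R.Q ψ φ) = R.Q ψ (fun b => c b * φ (π b)) := by
  refine R.cj_Q hψ hc (Φ := fun φ b => c b * φ (π b)) (fun φ χ e => funext fun a => ?_)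
    (fun φ b u => ?_) φ
  · obtain ⟨b, rfl⟩ := Finite.injective_iff_surjective.1 hπ a
    exact mul_left_cancel₀ (hc0 b) (congrFun e b)
  · rw [ht.x_eq, hg, ← ht.x_eq, R.rho_mul_Q]
    congr 2
    ring

theorem cj_tor (hψ : ψ.IsPrimitive) (ht : Ties h R K) (v : List ℤ) (s : Fˣ)
    (hc : Commute (ρ (tor h v s)) R.E) (φ : Ix psi → F) :
    cj ρ (tor h v s) (R.Q ψ φ) = R.Q ψ (fun b => ((s : F) ^ pairV T v b)⁻¹ * φ b) := by
  refine cj_monomial h hψ ht hc (π := id) Function.injective_id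
    (fun b => inv_ne_zero (zpow_ne_zero _ s.ne_zero)) (fun b u => ?_) φ
  have e := tor_conj h v s (ht.lt b b.2) (((s : F) ^ pairV T v b)⁻¹ * u)
  rw [mul_inv_cancel_left₀ (zpow_ne_zero _ s.ne_zero)] at e
  rw [← e]
  simp [mul_assoc]

theorem reach_tor (hψ : ψ.IsPrimitive) (ht : Ties h R K) (v : List ℤ) (s : Fˣ)
    (hc : Commute (ρ (tor h v s)) R.E) (φ : Ix psi → F) :
    Reach R ψ φ (fun b => ((s : F) ^ pairV T v b)⁻¹ * φ b) := ⟨_, cj_tor h hψ ht v s hc φ⟩

/-- A word carries the radical into itself. -/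
noncomputable def chkWord (T : Tab) (J psi w : List ℕ) : Bool :=
  (w.all fun i => decide (i < T.l) && decide (i ∈ J)) &&
    psi.all fun b => decide (rword T w.reverse b ∈ psi)

theorem cj_wel (hψ : ψ.IsPrimitive) (ht : Ties h R K) {w : List ℕ} (hw : WordOK T w)
    (hc : Commute (ρ (wel h hw)) R.E) (hwp : ∀ b ∈ psi, rword T w.reverse b ∈ psi) :
    ∃ c : ℕ → F, (∀ b ∈ psi, c b ≠ 0) ∧ ∀ φ : Ix psi → F, ∃ χ, cj ρ (wel h hw) (R.Q ψ φ) = R.Q ψ χ ∧
      ∀ b ∈ psi, co χ b = c b * co φ (rword T w.reverse b) := by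
  classical
  have hwr : WordOK T w.reverse := fun i hi => hw i (List.mem_reverse.1 hi)
  have hex : ∀ b : Ix psi, ∃ c : F, c ≠ 0 ∧ ∀ u,
      (wel h hw)⁻¹ * xr h b u * wel h hw = xr h (rword T w.reverse b) (c * u) := by
    intro b
    have hb := ht.lt b b.2
    obtain ⟨c, hc0, e⟩ := wel_conj h (F := F) hw (Cert.rword_lt h hwr hb)
    rw [Cert.rword_reverse h hw hb] at e
    refine ⟨c⁻¹, inv_ne_zero hc0, fun u => ?_⟩
    have e' := e (c⁻¹ * u)
    rw [mul_inv_cancel_left₀ hc0] at e'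
    rw [← e']
    simp [mul_assoc]
  choose c hc0 hconj using hex
  refine ⟨fun b => if hb : b ∈ psi then c ⟨b, hb⟩ else 1, fun b hb => by simp [hb, hc0], fun φ => ?_⟩
  refine ⟨fun b => c b * φ ⟨rword T w.reverse b, hwp b b.2⟩, cj_monomial h hψ ht hc
    (π := fun b => ⟨rword T w.reverse b, hwp b b.2⟩) (fun a b e => ?_) hc0 (fun b u => hconj b u) φ,
    fun b hb => ?_⟩
  · have e' := congrArg (fun x : Ix psi => rword T w x.1) e
    simp only [Cert.rword_reverse h hw (ht.lt a a.2), Cert.rword_reverse h hw (ht.lt b b.2)] at e'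
    exact Subtype.ext e'
  · rw [co_of_mem _ hb, co_of_mem φ (hwp b hb)]
    simp only [dif_pos hb]

end

end CfsgLib.EMinDeg
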