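import Cfsg.Agent.Lib.EMinDeg.Radical

/-!
Sequences of root elements parametrising the weights with a given leading coordinate.
-/

set_option autoImplicit false
set_option linter.unusedSectionVars false

namespace CfsgLib.EMinDeg

open Module Cfsg.Lie CfsgLib.Chev CfsgLib.GTwoMinDeg

/-- The root meeting `d` under `g` is outside the allowed coordinates. -/
noncomputable def outside (T : Tab) (psi A : List ℕ) (g d : ℕ) : Bool :=
  match tgt T psi g d with
  | some kc => decide (kc.1 ∉ A)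
  | none => true

/-- A sequence of roots feeding the coordinate `m` into distinct coordinates. -/
noncomputable def chkRun (T : Tab) (K psi A keep : List ℕ) (m : ℕ) : List (ℕ × ℕ) → Bool
  | [] => true
  | e :: r =>
    chkMove T K psi e.1 && decide (e.2 ∈ psi) &&
    (match tgt T psi e.1 e.2 with
      | some kc => decide (kc.1 = m) && decide (kc.2 * kc.2 = 1)
      | none => false) &&
    (psi.all fun d => decide (d ∈ A) || outside T psi A e.1 d) &&
    (keep.all fun d => outside T psi A e.1 d) &&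
    (r.all fun e' => outside T psi A e'.1 e.2 && decide (e'.2 ≠ e.2)) &&
    chkRun T K psi A keep m r

variable {F : Type*} [Field F] {T : Tab} {K psi A keep : List ℕ} {m : ℕ}

/-- The weight reached along a sequence. -/
noncomputable def run (T : Tab) {psi : List ℕ} : List (ℕ × ℕ) → (ℕ → F) → (Ix psi → F) → (Ix psi → F)
  | [], _, φ => φ
  | e :: r, s, φ => mv T e.1 (s e.2) (run T r s φ)

/-- The weight lives on the allowed coordinates. -/
def Supp (A : List ℕ) (φ : Ix psi → F) : Prop := ∀ a ∈ psi, a ∉ A → co φ a = 0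

theorem co_mv_outside {g d : ℕ} (ho : outside T psi A g d = true) (s : F) {φ : Ix psi → F}
    (hφ : Supp A φ) : co (mv T g s φ) d = co φ d := by
  by_cases hd : d ∈ psi
  · cases e : tgt T psi g d with
    | none => exact co_mv_none e s φ
    | some kc =>
      obtain ⟨k, c⟩ := kc
      simp only [outside, e, decide_eq_true_eq] at ho
      rw [co_mv_some e hd, hφ k (tgt_mem e).1 ho, mul_zero, add_zero]
  · rw [co, dif_neg hd, co, dif_neg hd]

theorem supp_mv {g : ℕ} (hcl : psi.all (fun d => decide (d ∈ A) || outside T psi A g d) = true) (s : F)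
    {φ : Ix psi → F} (hφ : Supp A φ) : Supp A (mv T g s φ) := by
  intro a ha haA
  simp only [List.all_eq_true, Bool.or_eq_true, decide_eq_true_eq] at hcl
  rw [co_mv_outside ((hcl a ha).resolve_left haA) s hφ, hφ a ha haA]

theorem chkRun_cons {e : ℕ × ℕ} {r : List (ℕ × ℕ)} (h : chkRun T K psi A keep m (e :: r) = true) :
    chkMove T K psi e.1 = true ∧ e.2 ∈ psi ∧
    (∃ c : ℤ, tgt T psi e.1 e.2 = some (m, c) ∧ c * c = 1) ∧
    psi.all (fun d => decide (d ∈ A) || outside T psi A e.1 d) = true ∧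
    (∀ d ∈ keep, outside T psi A e.1 d = true) ∧
    (∀ e' ∈ r, outside T psi A e'.1 e.2 = true ∧ e'.2 ≠ e.2) ∧ chkRun T K psi A keep m r = true := by
  simp only [chkRun, Bool.and_eq_true, decide_eq_true_eq] at h
  obtain ⟨⟨⟨⟨⟨⟨h1, h2⟩, h3⟩, h4⟩, h5⟩, h6⟩, h7⟩ := h
  refine ⟨h1, h2, ?_, h4, List.all_eq_true.1 h5, ?_, h7⟩
  · cases et : tgt T psi e.1 e.2 with
    | none => rw [et] at h3; exact absurd h3 (by simp)
    | some kc =>
      rw [et] at h3
      simp only [Bool.and_eq_true, decide_eq_true_eq] at h3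
      exact ⟨kc.2, by rw [← h3.1], h3.2⟩
  · simpa only [List.all_eq_true, Bool.and_eq_true, decide_eq_true_eq] using h6

theorem supp_run : ∀ {es : List (ℕ × ℕ)}, chkRun T K psi A keep m es = true → ∀ (s : ℕ → F)
    {φ : Ix psi → F}, Supp A φ → Supp A (run T es s φ)
  | [], _, _, _, hφ => hφ
  | _ :: _, h, s, _, hφ =>
    supp_mv (chkRun_cons h).2.2.2.1 _ (supp_run (chkRun_cons h).2.2.2.2.2.2 s hφ)

theorem run_keep : ∀ {es : List (ℕ × ℕ)}, chkRun T K psi A keep m es = true → ∀ (s : ℕ → F)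
    {φ : Ix psi → F}, Supp A φ → ∀ d ∈ keep, co (run T es s φ) d = co φ d
  | [], _, _, _, _, _, _ => rfl
  | _ :: _, h, s, _, hφ, d, hd => by
    have hr := (chkRun_cons h).2.2.2.2.2.2
    exact (co_mv_outside ((chkRun_cons h).2.2.2.2.1 d hd) _ (supp_run hr s hφ)).trans
      (run_keep hr s hφ d hd)

theorem run_other : ∀ {es : List (ℕ × ℕ)}, chkRun T K psi A keep m es = true → ∀ (s : ℕ → F)
    {φ : Ix psi → F}, Supp A φ → ∀ d, (∀ e' ∈ es, outside T psi A e'.1 d = true) →
      co (run T es s φ) d = co φ d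
  | [], _, _, _, _, _, _ => rfl
  | e :: _, h, s, _, hφ, d, hd => by
    have hr := (chkRun_cons h).2.2.2.2.2.2
    exact (co_mv_outside (hd e List.mem_cons_self) _ (supp_run hr s hφ)).trans
      (run_other hr s hφ d fun e' he' => hd e' (List.mem_cons_of_mem _ he'))

theorem run_congr : ∀ {es : List (ℕ × ℕ)} {s s' : ℕ → F} (φ : Ix psi → F),
    (∀ e ∈ es, s e.2 = s' e.2) → run T es s φ = run T es s' φ
  | [], _, _, _, _ => rfl
  | e :: _, s, s', φ, hs => by
    show mv T e.1 (s e.2) _ = mv T e.1 (s' e.2) _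
    rw [hs e List.mem_cons_self, run_congr φ fun e' he' => hs e' (List.mem_cons_of_mem _ he')]

/-- Different parameters give different weights. -/
theorem run_inj (hm : m ∈ keep) : ∀ {es : List (ℕ × ℕ)}, chkRun T K psi A keep m es = true →
    ∀ {s s' : ℕ → F} {φ χ : Ix psi → F}, Supp A φ → Supp A χ → (∀ e ∈ es, co φ e.2 = co χ e.2) →
      co φ m = co χ m → co φ m ≠ 0 → run T es s φ = run T es s' χ →
      φ = χ ∧ ∀ e ∈ es, s e.2 = s' e.2
  | [], _, _, _, _, _, _, _, _, _, _, e => ⟨e, fun _ he => absurd he List.not_mem_nil⟩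
  | e :: r, h, s, s', φ, χ, hφ, hχ, heq, hmm, hne, erun => by
    obtain ⟨h1, h2, ⟨c, hc, hcc⟩, h4, h5, h6, h7⟩ := chkRun_cons h
    have e1 : co (run T r s φ) e.2 = co φ e.2 := run_other h7 s hφ _ fun e' he' => (h6 e' he').1
    have e2 : co (run T r s' χ) e.2 = co χ e.2 := run_other h7 s' hχ _ fun e' he' => (h6 e' he').1
    have e3 := run_keep h7 s hφ m hm
    have e4 := run_keep h7 s' hχ m hm
    have hs : s e.2 = s' e.2 := by
      have hh := congrArg (fun ω => co ω e.2) erun
      simp only [run, co_mv_some hc h2, e1, e2, e3, e4, heq e List.mem_cons_self, ← hmm] at hh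
      have hc0 : (c : F) ≠ 0 := fun h0 => by
        have h1 := congrArg (fun z : ℤ => (z : F)) hcc
        simp [h0] at h1
      have := mul_right_cancel₀ hne (add_left_cancel hh)
      simpa [hc0] using this
    have e5 : run T r s φ = run T r s' χ := by
      refine mv_injective h1 (s e.2) ?_
      calc mv T e.1 (s e.2) (run T r s φ) = mv T e.1 (s' e.2) (run T r s' χ) := erun
        _ = mv T e.1 (s e.2) (run T r s' χ) := by rw [hs]
    obtain ⟨h8, h9⟩ := run_inj hm h7 hφ hχ (fun e' he' => heq e' (List.mem_cons_of_mem _ he')) hmm hne e5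
    refine ⟨h8, fun e' he' => ?_⟩
    rcases List.mem_cons.1 he' with rfl | he'
    · exact hs
    · exact h9 e' he'

/-- The fed coordinates can be cleared. -/
theorem exists_normal (hm : m ∈ keep) : ∀ {es : List (ℕ × ℕ)}, chkRun T K psi A keep m es = true →
    ∀ {φ : Ix psi → F}, Supp A φ → co φ m ≠ 0 → ∃ (s : ℕ → F) (φ₀ : Ix psi → F),
      run T es s φ₀ = φ ∧ Supp A φ₀ ∧ (∀ d ∈ keep, co φ₀ d = co φ d) ∧ ∀ e ∈ es, co φ₀ e.2 = 0
  | [], _, φ, hφ, _ => ⟨0, φ, rfl, hφ, fun _ _ => rfl, fun _ he => absurd he List.not_mem_nil⟩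
  | e :: r, h, φ, hφ, hne => by
    obtain ⟨h1, h2, ⟨c, hc, hcc⟩, h4, h5, h6, h7⟩ := chkRun_cons h
    have hcc' : (c : F) * c = 1 := by exact_mod_cast congrArg (fun z : ℤ => (z : F)) hcc
    obtain ⟨t, ht⟩ : ∃ t : F, co (mv T e.1 (-t) φ) e.2 = 0 := by
      refine ⟨-((c : F) * co φ e.2 / co φ m), ?_⟩
      rw [co_mv_some hc h2]
      field_simp
      linear_combination (-(co φ e.2)) * hcc'
    set φ₁ := mv T e.1 (-t) φ
    have hφ1 : Supp A φ₁ := supp_mv h4 _ hφ
    have hk : ∀ d ∈ keep, co φ₁ d = co φ d := fun d hd => co_mv_outside (h5 d hd) _ hφ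
    obtain ⟨s, φ₀, hrun, hs0, hkeep, hz⟩ := exists_normal hm h7 hφ1 (by rw [hk m hm]; exact hne)
    refine ⟨Function.update s e.2 t, φ₀, ?_, hs0, fun d hd => (hkeep d hd).trans (hk d hd), ?_⟩
    · show mv T e.1 (Function.update s e.2 t e.2) (run T r (Function.update s e.2 t) φ₀) = φ
      rw [run_congr (s' := s) φ₀ fun e' he' => Function.update_of_ne (h6 e' he').2 _ _, hrun,
        Function.update_self]
      have := mv_mv_neg h1 (-t) φ
      rwa [_root_.neg_neg] at this
    · intro e' he'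
      rcases List.mem_cons.1 he' with rfl | he'
      · rw [← run_other h7 s hs0 _ fun e'' he'' => (h6 e'' he'').1, hrun, ht]
      · exact hz e' he'

theorem nodup_targets : ∀ {es : List (ℕ × ℕ)}, chkRun T K psi A keep m es = true →
    (es.map Prod.snd).Nodup
  | [], _ => List.nodup_nil
  | e :: r, h => by
    obtain ⟨-, -, -, -, -, h6, h7⟩ := chkRun_cons h
    refine List.nodup_cons.2 ⟨fun hin => ?_, nodup_targets h7⟩
    obtain ⟨e', he', ee⟩ := List.mem_map.1 hin
    exact (h6 e' he').2 ee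

theorem chkRun_mem : ∀ {es : List (ℕ × ℕ)}, chkRun T K psi A keep m es = true →
    ∀ e ∈ es, e.2 ∈ psi
  | [], _, _, he => absurd he List.not_mem_nil
  | e :: r, h, e', he => by
    obtain ⟨-, h2, -, -, -, -, h7⟩ := chkRun_cons h
    rcases List.mem_cons.1 he with rfl | he
    · exact h2
    · exact chkRun_mem h7 e' he

/-- Parameters of a sequence. -/
abbrev Par (F : Type*) (es : List (ℕ × ℕ)) : Type _ := {a : ℕ // a ∈ es.map Prod.snd} → F

/-- The extension by zero. -/
def ext0 {es : List (ℕ × ℕ)} (s : Par F es) : ℕ → F := fun a => if ha : a ∈ es.map Prod.snd then s ⟨a, ha⟩ else 0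

theorem ext0_inj {es : List (ℕ × ℕ)} {s s' : Par F es} (h : ∀ e ∈ es, ext0 s e.2 = ext0 s' e.2) : s = s' := by
  funext a
  obtain ⟨e, he, ee⟩ := List.mem_map.1 a.2
  have := h e he
  rw [ext0, ext0, dif_pos (List.mem_map.2 ⟨e, he, rfl⟩), dif_pos (List.mem_map.2 ⟨e, he, rfl⟩)] at this
  rwa [show a = ⟨e.2, List.mem_map.2 ⟨e, he, rfl⟩⟩ from Subtype.ext ee.symm]

theorem card_par [Fintype F] {es : List (ℕ × ℕ)} (h : chkRun T K psi A keep m es = true) :
    Fintype.card (Par F es) = Fintype.card F ^ es.length := by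
  rw [Fintype.card_fun, Fintype.card_of_subtype (es.map Prod.snd).toFinset fun a => List.mem_toFinset,
    List.toFinset_card_of_nodup (nodup_targets h), List.length_map]

variable {D : ChevalleyDatum} {C : Tab.Cover} (h : Cert D T C)
variable {V : Type*} [AddCommGroup V] [Module ℂ V] [FiniteDimensional ℂ V] [Fintype F]
  {ρ : Representation ℂ (Gp D F) V} {R : Rad ρ (Ix psi) F} {ψ : AddChar F ℂ}

theorem reach_run (hψ : ψ.IsPrimitive) (ht : Ties h R K) : ∀ {es : List (ℕ × ℕ)},
    chkRun T K psi A keep m es = true → (∀ e ∈ es, ∀ t, Commute (ρ (xr h e.1 t)) R.E) →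
    ∀ (s : ℕ → F) (φ : Ix psi → F), Reach R ψ φ (run T es s φ)
  | [], _, _, _, φ => Reach.refl φ
  | e :: _, hh, hc, s, φ =>
    (reach_run hψ ht (chkRun_cons hh).2.2.2.2.2.2 (fun e' he' => hc e' (List.mem_cons_of_mem _ he')) s
      φ).trans (reach_root h hψ ht (chkRun_cons hh).1 (hc e List.mem_cons_self) _ _)

end CfsgLib.EMinDeg
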