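import Cfsg.Agent.Lib.EMinDeg.Level

/-!
The descent from one radical to the next: the fixed vectors and the multiplicity of a root.
-/

set_option autoImplicit false
set_option linter.unusedSectionVars false

namespace CfsgLib.EMinDeg

open Module Cfsg.Lie CfsgLib.Chev CfsgLib.GTwoMinDeg

/-- The data of the descent: the test root with a word carrying it to the leading root, the next lists,
and for each coordinate a decomposition of the test root or a cocharacter. -/
structure StepData where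
  g : ℕ
  wg : List ℕ
  St' : List ℕ
  J' : List ℕ
  cert : List (ℕ × Option (ℕ × ℕ) × List ℤ)

/-- The test root moves the coordinate. -/
noncomputable def hits (T : Tab) (psi : List ℕ) (g m : ℕ) : Bool :=
  psi.any fun a => match tgt T psi g a with
    | some kc => decide (kc.1 = m) && decide (kc.2 * kc.2 = 1)
    | none => false

/-- A root fixes a coordinate weight. -/
noncomputable def avoids (T : Tab) (psi : List ℕ) (g m : ℕ) : Bool :=
  psi.all fun a => match tgt T psi g a with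
    | some kc => decide (kc.1 ≠ m)
    | none => true

/-- The check that the test root acts trivially on a fixed coordinate weight. -/
noncomputable def chkTriv (T : Tab) (d : LevData) (g : ℕ) (e : ℕ × Option (ℕ × ℕ) × List ℤ) : Bool :=
  avoids T d.psi g e.1 &&
  match e.2.1 with
  | some ab =>
    decide (ab.1 ∈ d.St) && decide (ab.2 ∈ d.St) && chkMove T d.K d.psi ab.1 && chkMove T d.K d.psi ab.2 &&
    avoids T d.psi ab.1 e.1 && avoids T d.psi ab.2 e.1 && decide (ab.1 < T.n) && decide (ab.2 < T.n) &&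
    decide (ab.2 ≠ ab.1) && decide (ab.2 ≠ T.neg ab.1) &&
    match T.commTerms ab.1 ab.2 with
    | [(k, c, 1, 1)] => decide (k = g) && decide (c * c = 1)
    | _ => false
  | none => decide (pairV T e.2.2 e.1 = 0) && (decide (pairV T e.2.2 g = 1) || decide (pairV T e.2.2 g = -1))

/-- The check of the test root. -/
noncomputable def StepData.chkTest (T : Tab) (d : LevData) (s : StepData) : Bool :=
  decide (s.g ∈ d.St) && decide (s.g < T.n) && chkMove T d.K d.psi s.g &&
  (d.psi.all fun a => decide (a ≤ d.z)) &&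
  (s.St'.all fun r => decide (r ∈ d.St) && chkMove T d.K d.psi r) &&
  (s.J'.all fun i => decide (i ∈ d.J) && decide (i < T.l) && d.psi.all fun b => decide (T.refl i b ∈ d.psi)) &&
  d.cells.all fun e => (e.2.2.all fun p => decide (p.1 < T.n) && chkTerms T [] p.1 s.g) &&
    (hits T d.psi s.g e.1 || s.cert.any fun c => decide (c.1 = e.1) && chkTriv T d s.g c)

/-- The check of the descent. -/
noncomputable def StepData.chk (T : Tab) (d : LevData) (s : StepData) : Bool :=
  s.chkTest T d && (s.wg.all fun i => decide (i < T.l) && decide (i ∈ d.J)) &&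
  decide (rword T s.wg s.g = d.z)

/-- Only decompositions are used. -/
def StepData.onlyDec (s : StepData) : Bool := s.cert.all fun c => c.2.1.isSome

/-- The weighted count for the trace of the test root. -/
noncomputable def hitSum (T : Tab) (d : LevData) (g q : ℕ) : ℕ :=
  (d.cells.map fun e => if hits T d.psi g e.1 then q ^ e.2.2.length else 0).sum

variable {D : ChevalleyDatum} {T : Tab} {C : Tab.Cover} (h : Cert D T C)
variable {F : Type*} [Field F] [Fintype F] [DecidableEq F]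
variable {V : Type*} [AddCommGroup V] [Module ℂ V] [FiniteDimensional ℂ V]
variable {ρ : Representation ℂ (Gp D F) V} {d : LevData} {E : Module.End ℂ V} {ψ : AddChar F ℂ}
  (hd : d.chk T = true) (hE : On h ρ d.K d.St d.J E) (hψ : ψ.IsPrimitive)
  {sd : StepData} (hs : sd.chkTest T d = true)

include hs in
theorem StepData.spec :
    sd.g ∈ d.St ∧ sd.g < T.n ∧ chkMove T d.K d.psi sd.g = true ∧
    (∀ a ∈ d.psi, a ≤ d.z) ∧
    (∀ r ∈ sd.St', r ∈ d.St ∧ chkMove T d.K d.psi r = true) ∧
    (∀ i ∈ sd.J', i ∈ d.J ∧ i < T.l ∧ ∀ b ∈ d.psi, T.refl i b ∈ d.psi) ∧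
    ∀ e ∈ d.cells, (∀ p ∈ e.2.2, p.1 < T.n ∧ chkTerms T [] p.1 sd.g = true) ∧
      (hits T d.psi sd.g e.1 = true ∨ ∃ c ∈ sd.cert, c.1 = e.1 ∧ chkTriv T d sd.g c = true) := by
  simp only [StepData.chkTest, Bool.and_eq_true, Bool.or_eq_true, decide_eq_true_eq, List.all_eq_true,
    List.any_eq_true] at hs
  obtain ⟨⟨⟨⟨⟨⟨h1, h2⟩, h3⟩, h6⟩, h7⟩, h8⟩, h9⟩ := hs
  exact ⟨h1, h2, h3, h6, h7, fun i hi => ⟨(h8 i hi).1.1, (h8 i hi).1.2, (h8 i hi).2⟩, h9⟩

theorem avoids_spec {g m : ℕ} (ha : avoids T d.psi g m = true) {b k : ℕ} {c : ℤ} (hb : b ∈ d.psi)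
    (e : tgt T d.psi g b = some (k, c)) : k ≠ m := by
  simp only [avoids, List.all_eq_true] at ha
  have := ha b hb
  rw [e] at this
  simpa using this

include hψ

theorem cj_avoid {g m : ℕ} (hmv : chkMove T d.K d.psi g = true) (hg : g ∈ d.St)
    (ha : avoids T d.psi g m = true) (t a : F) :
    cj ρ (xr h g t) ((rad h hd hE).Q ψ (unit d.psi m a)) = (rad h hd hE).Q ψ (unit d.psi m a) := by
  rw [cj_root h hψ (ties h hd hE) hmv (fun u => hE.comm g hg u)]
  congr 1
  refine co_ext fun b hb => ?_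
  cases e : tgt T d.psi g b with
  | none => rw [co_mv_none e]
  | some kc =>
    obtain ⟨k, c⟩ := kc
    rw [co_mv_some e hb, co_unit (tgt_mem e).1, if_neg (avoids_spec ha hb e), mul_zero, add_zero]

theorem trivial_on_fixed {c : ℕ × Option (ℕ × ℕ) × List ℤ} (hc : chkTriv T d sd.g c = true)
    (hq : c.2.1.isSome = true ∨ 2 < Fintype.card F) (hg : sd.g ∈ d.St) (hgn : sd.g < T.n)
    (hmg : chkMove T d.K d.psi sd.g = true) {a : F}
    (h1 : dm ((rad h hd hE).Q ψ (unit d.psi c.1 a)) = 1) (t : F) :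
    ρ (xr h sd.g t) * (rad h hd hE).Q ψ (unit d.psi c.1 a) = (rad h hd hE).Q ψ (unit d.psi c.1 a) := by
  set Q := (rad h hd hE).Q ψ (unit d.psi c.1 a) with hQ
  have hi : IsIdempotentElem Q := (rad h hd hE).idem_Q hψ _
  have scal : ∀ x : Gp D F, cj ρ x Q = Q → ρ x * Q = tr (Q * ρ x) • Q := fun x hx => by
    conv_lhs => rw [← hi.eq, ← mul_assoc, (commute_rho_of_cj ρ hx).eq]
    exact sandwich hi h1 _
  simp only [chkTriv, Bool.and_eq_true] at hc
  obtain ⟨hav, hc⟩ := hc
  cases e1 : c.2.1 with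
  | some ab =>
    rw [e1] at hc
    simp only [Bool.and_eq_true, decide_eq_true_eq] at hc
    obtain ⟨⟨⟨⟨⟨⟨⟨⟨⟨⟨ha1, hb1⟩, hma⟩, hmb⟩, hva⟩, hvb⟩, han⟩, hbn⟩, hne⟩, hneg⟩, hk⟩ := hc
    split at hk
    case h_2 => exact absurd hk (by simp)
    case h_1 k cc hterm =>
      simp only [Bool.and_eq_true, decide_eq_true_eq] at hk
      obtain ⟨rfl, hcc⟩ := hk
      have hcc' : (cc : F) * cc = 1 := by exact_mod_cast congrArg (fun z : ℤ => (z : F)) hcc
      have fa := fun u => cj_avoid h hd hE hψ hma ha1 hva u a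
      have fb := fun u => cj_avoid h hd hE hψ hmb hb1 hvb u a
      have ec := xr_conj h han hbn hne hneg (fun q hq => by
        rw [hterm, List.mem_singleton] at hq; subst hq; exact hgn) 1 ((cc : F) * t)
      rw [hterm, List.map_singleton, List.prod_singleton] at ec
      simp only [pow_one, mul_one, ← mul_assoc, hcc', one_mul] at ec
      have e : xr h sd.g t = (xr h ab.2 ((cc : F) * t))⁻¹ *
          (xr h ab.1 1 * xr h ab.2 ((cc : F) * t) * (xr h ab.1 1)⁻¹) := by rw [ec, inv_mul_cancel_left]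
      rw [e, xr_inv, xr_inv, map_mul, map_mul, map_mul]
      set l1 := tr (Q * ρ (xr h ab.1 1))
      set l2 := tr (Q * ρ (xr h ab.1 (-1)))
      set k1 := tr (Q * ρ (xr h ab.2 ((cc : F) * t)))
      set k2 := tr (Q * ρ (xr h ab.2 (-((cc : F) * t))))
      have eA : ρ (xr h ab.1 1) * Q = l1 • Q := scal _ (fa 1)
      have eA' : ρ (xr h ab.1 (-1)) * Q = l2 • Q := scal _ (fa (-1))
      have eB : ρ (xr h ab.2 ((cc : F) * t)) * Q = k1 • Q := scal _ (fb _)
      have eB' : ρ (xr h ab.2 (-((cc : F) * t))) * Q = k2 • Q := scal _ (fb _)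
      have hA : (l2 * l1) • Q = Q := by
        rw [mul_smul, ← eA, ← mul_smul_comm, ← eA', ← mul_assoc, ← map_mul, ← AddChar.map_add_eq_mul,
          add_neg_cancel, AddChar.map_zero_eq_one, map_one, one_mul]
      have hB : (k1 * k2) • Q = Q := by
        rw [mul_smul, ← eB', ← mul_smul_comm, ← eB, ← mul_assoc, ← map_mul, ← AddChar.map_add_eq_mul,
          neg_add_cancel, AddChar.map_zero_eq_one, map_one, one_mul]
      calc ρ (xr h ab.2 (-((cc : F) * t))) * (ρ (xr h ab.1 1) * ρ (xr h ab.2 ((cc : F) * t)) *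
            ρ (xr h ab.1 (-1))) * Q
          = (l2 * (k1 * (l1 * k2))) • Q := by
            simp only [mul_assoc, eA', mul_smul_comm, eB, eA, eB', smul_smul]
        _ = (l2 * l1) • ((k1 * k2) • Q) := by rw [smul_smul]; congr 1; ring
        _ = Q := by rw [hB, hA]
  | none =>
    rw [e1] at hc hq
    simp only [Bool.and_eq_true, Bool.or_eq_true, decide_eq_true_eq] at hc
    obtain ⟨hv0, hv1⟩ := hc
    have hq2 : 2 < Fintype.card F := hq.resolve_left (by simp)
    obtain ⟨s, hs0, hs1⟩ : ∃ s : F, s ≠ 0 ∧ s ≠ 1 := by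
      by_contra hcon
      push Not at hcon
      have h3 : (Finset.univ : Finset F) ⊆ {0, 1} := fun x _ => by
        by_cases hx : x = 0
        · simp [hx]
        · simp [hcon x hx]
      have := (Finset.card_le_card h3).trans Finset.card_le_two
      rw [Finset.card_univ] at this
      omega
    set w : Fˣ := Units.mk0 s hs0
    have hfix : cj ρ (tor h c.2.2 w) Q = Q := by
      rw [hQ, cj_tor h hψ (ties h hd hE) _ _ (hE.torC _ _)]
      congr 1
      funext b
      by_cases hb : (b : ℕ) = c.1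
      · simp [unit, hb, hv0]
      · simp [unit, hb]
    set k := (w : F) ^ pairV T c.2.2 sd.g with hk
    have hk1 : k - 1 ≠ 0 := by
      rw [hk, sub_ne_zero]
      rcases hv1 with e | e <;> simp [e, w, hs1]
    set χ := fun u : F => tr (Q * ρ (xr h sd.g u))
    have hx : ∀ u, ρ (xr h sd.g u) * Q = χ u • Q := fun u =>
      scal _ (cj_avoid h hd hE hψ hmg hg hav u a)
    have hinv : ∀ u, ρ (xr h sd.g (k * u)) * Q = χ u • Q := fun u => by
      rw [← tor_conj h c.2.2 w hgn u, ← cj_rho ρ, ← hfix, ← cj_mul, hfix, hx, cj_smul, hfix]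
    set u := t / (k - 1)
    have hu : ρ (xr h sd.g t) * Q = (χ (-u) * χ u) • Q := by
      rw [show t = k * u + -u by simp only [u]; field_simp; ring, AddChar.map_add_eq_mul, map_mul,
        mul_assoc, hx, mul_smul_comm, hinv, smul_smul]
    have h0 : (χ (-u) * χ u) • Q = Q := by
      rw [mul_smul, ← hx u, ← mul_smul_comm, ← hx (-u), ← mul_assoc, ← map_mul, ← AddChar.map_add_eq_mul,
        add_neg_cancel, AddChar.map_zero_eq_one, map_one, one_mul]
    rw [hu, h0]

include hs in
/-- The trace of the test projection on a cell weight. -/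
theorem tr_cell (i : Fin d.cells.length) (a : Fˣ) (s : Par F d.cells[i].2.2)
    (hq : sd.onlyDec = true ∨ 2 < Fintype.card F) (hb : theMult h hd hE ψ = 1) :
    (Fintype.card F : ℂ) * tr (proj ρ ψ (xr h sd.g) 0 * (rad h hd hE).Q ψ (pt T d i a s)) =
      if hits T d.psi sd.g d.cells[i].1 then 1 else (Fintype.card F : ℂ) := by
  obtain ⟨hg, hgn, hmg, -, -, -, hcell⟩ := StepData.spec hs
  obtain ⟨hm, hc⟩ := cell_mem hd i
  obtain ⟨-, -, -, -, hr, hst, -⟩ := LevData.cell_spec hc
  obtain ⟨hcomm, hcase⟩ := hcell _ (List.getElem_mem i.2)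
  set R := rad h hd hE
  set P := proj ρ ψ (xr h sd.g) 0
  have hmove : ∀ es : List (ℕ × ℕ), (∀ p ∈ es, p ∈ d.cells[i].2.2) →
      chkRun T d.K d.psi (d.below d.cells[i].1) [d.cells[i].1] d.cells[i].1 es = true →
      ∀ (s : ℕ → F) (φ : Ix d.psi → F), tr (P * R.Q ψ (run T es s φ)) = tr (P * R.Q ψ φ) := by
    intro es
    induction es with
    | nil => intros; rfl
    | cons e r ih =>
      intro hsub hrun s φ
      show tr (P * R.Q ψ (mv T e.1 (s e.2) (run T r s φ))) = _
      rw [← cj_root h hψ (ties h hd hE) (chkRun_cons hrun).1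
        (fun u => hE.comm _ (hst e (hsub e List.mem_cons_self)) u)]
      have hP : cj ρ (xr h e.1 (s e.2)) P = P :=
        cj_of_commute ρ (commute_rho_proj ρ ψ (fun u => xr_comm h (hcomm e (hsub e List.mem_cons_self)).1
          hgn (hcomm e (hsub e List.mem_cons_self)).2 _ u) 0)
      conv_lhs => rw [← hP, ← cj_mul, tr_cj]
      exact ih (fun p hp => hsub p (List.mem_cons_of_mem _ hp)) (chkRun_cons hrun).2.2.2.2.2.2 s φ
  rw [pt, hmove _ (fun p hp => hp) hr]
  set Q := R.Q ψ (unit d.psi d.cells[i].1 (a : F))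
  have h1 : dm Q = 1 := by
    rw [← hb]; exact (reach_unit_z h hd hE hψ i a).mult_eq hψ
  have hsum : (Fintype.card F : ℂ) * tr (P * Q) = ∑ u, tr (ρ (xr h sd.g u) * Q) := by
    simp only [P, proj, zero_mul, neg_zero, AddChar.map_zero_eq_one, one_smul, smul_mul_assoc,
      Finset.sum_mul, tr, map_smul, map_sum, smul_eq_mul]
    rw [← mul_assoc, mul_inv_cancel₀ (Nat.cast_ne_zero.mpr Fintype.card_ne_zero), one_mul]
  rw [hsum]
  have hdm : tr Q = 1 := by rw [tr_eq_dm (R.idem_Q hψ _), h1, Nat.cast_one]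
  by_cases hh : hits T d.psi sd.g d.cells[i].1 = true
  · rw [if_pos hh]
    simp only [hits, List.any_eq_true] at hh
    obtain ⟨b, hb', hbt⟩ := hh
    cases et : tgt T d.psi sd.g b with
    | none => rw [et] at hbt; exact absurd hbt (by simp)
    | some kc =>
      obtain ⟨k, c⟩ := kc
      rw [et] at hbt
      simp only [Bool.and_eq_true, decide_eq_true_eq] at hbt
      obtain ⟨rfl, hcc⟩ := hbt
      refine (Finset.sum_eq_single (0 : F) (fun u _ hu => ?_) (fun hh => absurd (Finset.mem_univ _) hh)).trans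
        (by rw [AddChar.map_zero_eq_one, map_one, one_mul, hdm])
      refine tr_rho_mul_eq_zero ρ (R.idem_Q hψ _)
        (cj_root h hψ (ties h hd hE) hmg (fun u => hE.comm _ hg u) u _) (R.Q_orth hψ fun e => ?_)
      have e' := congrArg (fun ω => co ω b) e
      simp only [co_mv_some et hb', co_unit hm, if_true] at e'
      have hc0 : (c : F) ≠ 0 := fun h0 => by
        have h1 := congrArg (fun z : ℤ => (z : F)) hcc
        simp [h0] at h1
      simp [hc0, hu] at e'
  · rw [if_neg hh]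
    obtain ⟨c, hcm, hc1, hct⟩ := hcase.resolve_left hh
    have hq' : c.2.1.isSome = true ∨ 2 < Fintype.card F :=
      hq.imp (fun e => List.all_eq_true.1 e c hcm) id
    have key := fun u => trivial_on_fixed h hd hE hψ hct hq' hg hgn hmg (a := (a : F))
      (by rw [hc1]; exact h1) u
    rw [hc1] at key
    refine (Finset.sum_congr rfl fun u _ => (congrArg tr (key u)).trans hdm).trans ?_
    simp

/-- The leading root's multiplicity. -/
theorem dm_lead (hc : ∀ φ : Ix d.psi → F, φ ≠ 0 → mult (rad h hd hE) ψ φ ≠ 0 →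
      ∃ p : Σ i : Fin d.cells.length, Fˣ × Par F d.cells[i].2.2, pt T d p.1 p.2.1 p.2.2 = φ)
    (hz : ∀ a ∈ d.psi, a ≤ d.z) {N : ℕ} (hN : (d.z, N) ∈ d.expo) :
    dm E = dm (proj ρ ψ (xr h d.z) 0 * E) +
      theMult h hd hE ψ * ((Fintype.card F - 1) * Fintype.card F ^ N) := by
  classical
  obtain ⟨-, -, -, hzm, -, h6, h7, -⟩ := LevData.chk_spec hd
  set R := rad h hd hE
  have h1 : dm E = ∑ φ, mult R ψ φ := R.dm_E hψ
  have h2 : dm (proj ρ ψ (xr h d.z) 0 * E) =
      ∑ φ ∈ Finset.univ.filter (fun φ : Ix d.psi → F => φ ⟨d.z, hzm⟩ = 0), mult R ψ φ :=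
    R.dm_proj_mul hψ ⟨d.z, hzm⟩ 0
  rw [h1, ← Finset.sum_filter_add_sum_filter_not Finset.univ (fun φ : Ix d.psi → F => φ ⟨d.z, hzm⟩ = 0),
    h2, Finset.sum_filter (fun φ : Ix d.psi → F => ¬φ ⟨d.z, hzm⟩ = 0)]
  congr 1
  rw [sum_over_cells hd _ fun φ hφ hne => hc φ hφ fun e => hne (by simp [e]), if_neg (by simp), zero_add]
  obtain ⟨e, he, hee⟩ := List.mem_map.1 hN
  obtain ⟨i, hi, rfl⟩ := List.getElem_of_mem he
  simp only [Prod.mk.injEq] at hee
  rw [Finset.sum_eq_single ⟨i, hi⟩]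
  · have : ∀ (a : Fˣ) s, co (pt T d ⟨i, hi⟩ a s) d.z ≠ 0 := fun a s => by
      have := (pt_lead hd ⟨i, hi⟩ a s).1
      simp only [Fin.getElem_fin, hee.1] at this
      rw [this]; exact a.ne_zero
    simp only [co_of_mem _ hzm, ne_eq] at this
    refine (Finset.sum_congr rfl fun a _ => Finset.sum_congr rfl fun s _ =>
      (if_pos (this a s)).trans (mult_pt h hd hE hψ ⟨i, hi⟩ a s)).trans ?_
    simp only [Finset.sum_const, Finset.card_univ, smul_eq_mul, Fintype.card_units,
      card_cell hd ⟨i, hi⟩]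
    simp only [Fin.getElem_fin, hee.2]
    ring
  · intro j _ hj
    refine Finset.sum_eq_zero fun a _ => Finset.sum_eq_zero fun s _ => if_neg (not_not.2 ?_)
    have hlt : d.cells[j].1 < d.z := by
      refine lt_of_le_of_ne (hz _ (cell_mem hd j).1) fun e => hj ?_
      have hnd : (d.cells.map Prod.fst).Nodup := by rw [h6]; exact h7
      have := (List.Nodup.getElem_inj_iff hnd (i := j.1) (j := i) (hi := by simp) (hj := by simpa using hi)).1
        (by simpa [hee.1] using e)
      exact Fin.ext this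
    exact (co_of_mem _ hzm).symm.trans ((pt_lead hd j a s).2 d.z hzm hlt)
  · exact fun hh => absurd (Finset.mem_univ _) hh

include hs

omit hψ in
include hE in
theorem commute_g (t : F) : Commute (ρ (xr h sd.g t)) E := hE.comm _ (StepData.spec hs).1 t

include hE in
theorem dm_g (hw' : sd.chk T d = true) : dm (proj ρ ψ (xr h sd.g) 0 * E) = dm (proj ρ ψ (xr h d.z) 0 * E) := by
  obtain ⟨-, hgn, -⟩ := StepData.spec hs
  simp only [StepData.chk, Bool.and_eq_true, decide_eq_true_eq, List.all_eq_true] at hw'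
  obtain ⟨⟨-, hw⟩, hwz⟩ := hw'
  have hok : WordOK T sd.wg := fun i hi => (hw i hi).1
  obtain ⟨c, hc0, hc⟩ := wel_conj h (F := F) hok hgn
  have hi : IsIdempotentElem (proj ρ ψ (xr h sd.g) 0 * E) :=
    (isIdempotentElem_proj ρ ψ hψ _ 0).mul_of_commute
      (commute_proj_left ρ ψ (commute_g h hE hs) 0) hE.idem
  rw [← dm_cj ρ (wel h hok) hi, cj_mul, cj_proj hc0 (x' := xr h d.z) (by intro t; rw [hc t, hwz]), zero_div,
    cj_of_commute ρ (hE.welC _ hok fun i hi => (hw i hi).2)]

/-- The fixed vectors of the test root on a level with multiplicity one. -/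
theorem dm_test (hc : ∀ φ : Ix d.psi → F, φ ≠ 0 → mult (rad h hd hE) ψ φ ≠ 0 →
      ∃ p : Σ i : Fin d.cells.length, Fˣ × Par F d.cells[i].2.2, pt T d p.1 p.2.1 p.2.2 = φ)
    (hb : theMult h hd hE ψ = 1) (hq : sd.onlyDec = true ∨ 2 < Fintype.card F)
    (hcm : ∀ t, Commute (ρ (xr h sd.g t)) (nextE h hd hE ψ)) :
    Fintype.card F * dm (proj ρ ψ (xr h sd.g) 0 * E) +
        (Fintype.card F - 1) * ((Fintype.card F - 1) * hitSum T d sd.g (Fintype.card F)) =
      Fintype.card F * dm (proj ρ ψ (xr h sd.g) 0 * nextE h hd hE ψ) +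
        Fintype.card F * ((Fintype.card F - 1) * (d.expo.map fun e => Fintype.card F ^ e.2).sum) := by
  set R := rad h hd hE
  set q := Fintype.card F
  set P := proj ρ ψ (xr h sd.g) 0
  have hP := isIdempotentElem_proj ρ ψ hψ (xr h sd.g) 0
  have t1 : (dm (P * E) : ℂ) = ∑ φ, tr (P * R.Q ψ φ) := by
    rw [← tr_eq_dm (hP.mul_of_commute (commute_proj_left ρ ψ (commute_g h hE hs) 0) hE.idem),
      show E = R.E from rfl, ← R.sum_Q hψ, Finset.mul_sum, tr, map_sum]
  have hzero : ∀ φ : Ix d.psi → F, φ ≠ 0 → tr (P * R.Q ψ φ) ≠ 0 →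
      ∃ p : Σ i : Fin d.cells.length, Fˣ × Par F d.cells[i].2.2, pt T d p.1 p.2.1 p.2.2 = φ :=
    fun φ hφ hne => hc φ hφ fun e => hne (by rw [dm_eq_zero.1 e, mul_zero, tr, map_zero])
  have t2 : (q : ℂ) * dm (P * E) = q * dm (P * nextE h hd hE ψ) +
      ∑ i : Fin d.cells.length, ((q - 1 : ℕ) : ℂ) *
        ((q : ℂ) ^ d.cells[i].2.2.length * if hits T d.psi sd.g d.cells[i].1 then 1 else (q : ℂ)) := by
    rw [t1, sum_over_cells hd _ hzero, mul_add, Finset.mul_sum,
      ← tr_eq_dm (hP.mul_of_commute (commute_proj_left ρ ψ hcm 0) (R.idem_Q hψ 0))]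
    congr 1
    refine Finset.sum_congr rfl fun i _ => ?_
    simp only [Finset.mul_sum]
    simp only [P, R, q, tr_cell h hd hE hψ hs i _ _ hq hb, Finset.sum_const, Finset.card_univ,
      Fintype.card_units, card_cell hd i, nsmul_eq_mul, Nat.cast_pow]
  have hE1 : (d.expo.map fun e => q ^ e.2).sum = ∑ i : Fin d.cells.length, q ^ d.cells[i].2.2.length := by
    rw [LevData.expo, List.map_map, ← Fin.sum_univ_getElem]
    exact Fintype.sum_equiv (finCongr (List.length_map _)) _ _ fun i => by simp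
  have hE2 : hitSum T d sd.g q = ∑ i : Fin d.cells.length,
      if hits T d.psi sd.g d.cells[i].1 then q ^ d.cells[i].2.2.length else 0 := by
    rw [hitSum, ← Fin.sum_univ_getElem]
    exact Fintype.sum_equiv (finCongr (List.length_map _)) _ _ fun i => by simp
  apply Nat.cast_injective (R := ℂ)
  push_cast [hE1, hE2]
  rw [t2, Finset.mul_sum, Finset.mul_sum, Finset.mul_sum, Finset.mul_sum, add_assoc, ← Finset.sum_add_distrib]
  congr 1
  refine Finset.sum_congr rfl fun i _ => ?_
  have hq1 : ((q - 1 : ℕ) : ℂ) = (q : ℂ) - 1 := by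
    rw [Nat.cast_sub (show 1 ≤ q from Fintype.card_pos), Nat.cast_one]
  rw [hq1]
  split_ifs <;> ring

theorem on_next' : On h ρ (d.K ++ d.psi) sd.St' sd.J' (nextE h hd hE ψ) := by
  obtain ⟨-, -, -, -, hSt, hJ, -⟩ := StepData.spec hs
  set R := rad h hd hE
  have ht := ties h hd hE
  refine ⟨R.idem_Q hψ 0, ?_, ?_, ?_, ?_⟩
  · intro r hr t
    rcases List.mem_append.1 hr with hr | hr
    · show _ * R.Q ψ 0 = R.Q ψ 0
      rw [← R.E_mul_Q ψ 0, ← mul_assoc]
      exact congrArg (· * R.Q ψ 0) (hE.fix r hr t)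
    · show _ * R.Q ψ 0 = R.Q ψ 0
      have := R.rho_mul_Q ψ 0 ⟨r, hr⟩ t
      rwa [Pi.zero_apply, zero_mul, AddChar.map_zero_eq_one, one_smul] at this
  · intro r hr t
    refine commute_rho_of_cj ρ ?_
    show cj ρ _ (R.Q ψ 0) = R.Q ψ 0
    rw [cj_root h hψ ht (hSt r hr).2 (fun u => hE.comm r (hSt r hr).1 u)]
    congr 1
    funext b
    simp only [mv]
    split <;> simp [co]
  · intro v s
    refine commute_rho_of_cj ρ ?_
    show cj ρ _ (R.Q ψ 0) = R.Q ψ 0
    rw [cj_tor h hψ ht v s (hE.torC _ _)]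
    congr 1
    funext b
    simp
  · intro w hw hwJ
    refine commute_rho_of_cj ρ ?_
    have hp : ∀ v : List ℕ, (∀ i ∈ v, i ∈ sd.J') → ∀ b ∈ d.psi, rword T v b ∈ d.psi := by
      intro v
      induction v with
      | nil => intro _ b hb; exact hb
      | cons i v ih =>
        intro hv b hb
        exact (hJ i (hv i List.mem_cons_self)).2.2 _ (ih (fun j hj => hv j (List.mem_cons_of_mem _ hj)) b hb)
    obtain ⟨c, -, hcj⟩ := cj_wel h hψ ht hw (hE.welC _ hw fun i hi => (hJ i (hwJ i hi)).1)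
      (fun b hb => hp _ (fun i hi => hwJ i (List.mem_reverse.1 hi)) b hb)
    obtain ⟨χ, hχ, hco⟩ := hcj (0 : Ix d.psi → F)
    show cj ρ _ (R.Q ψ 0) = R.Q ψ 0
    rw [hχ]
    congr 1
    refine co_ext fun b hb => ?_
    rw [hco b hb]
    simp [co]

omit hs in
theorem on_next (hch : sd.chk T d = true) : On h ρ (d.K ++ d.psi) sd.St' sd.J' (nextE h hd hE ψ) := by
  simp only [StepData.chk, Bool.and_eq_true] at hch
  exact on_next' h hd hE hψ hch.1.1

omit hs in
/-- The descent. -/
theorem descend (hch : sd.chk T d = true) {B N N' : ℕ} (hB : BigAt h hd hE ψ B) (hN : (d.z, N) ∈ d.expo)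
    (hcur : dm E = dm (proj ρ ψ (xr h d.z) 0 * E) + (Fintype.card F - 1) * Fintype.card F ^ N)
    (hNN : Fintype.card F * Fintype.card F ^ N = Fintype.card F * Fintype.card F ^ N' +
      (Fintype.card F - 1) * hitSum T d sd.g (Fintype.card F)) :
    B ≤ dm E ∨
      ((∀ φ : Ix d.psi → F, φ ≠ 0 → mult (rad h hd hE) ψ φ ≠ 0 →
        ∃ p : Σ i : Fin d.cells.length, Fˣ × Par F d.cells[i].2.2, pt T d p.1 p.2.1 p.2.2 = φ) ∧
      dm E = dm (nextE h hd hE ψ) + (Fintype.card F - 1) * (d.expo.map fun e => Fintype.card F ^ e.2).sum ∧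
      ((sd.onlyDec = true ∨ 2 < Fintype.card F) → sd.g ∈ sd.St' →
        dm (nextE h hd hE ψ) = dm (proj ρ ψ (xr h sd.g) 0 * nextE h hd hE ψ) +
          (Fintype.card F - 1) * Fintype.card F ^ N')) := by
  have hs : sd.chkTest T d = true := by
    simp only [StepData.chk, Bool.and_eq_true] at hch
    exact hch.1.1
  rcases big_or_cells h hd hE hψ hB with hbig | hc
  · exact Or.inl hbig
  refine Or.inr ⟨hc, ?_⟩
  have hq2 : 1 < Fintype.card F := Fintype.one_lt_card
  have h1 := dm_lead h hd hE hψ hc (StepData.spec hs).2.2.2.1 hN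
  have hb : theMult h hd hE ψ = 1 := by
    have h2 : theMult h hd hE ψ * ((Fintype.card F - 1) * Fintype.card F ^ N) =
        1 * ((Fintype.card F - 1) * Fintype.card F ^ N) := by rw [one_mul]; omega
    exact Nat.eq_of_mul_eq_mul_right (Nat.mul_pos (by omega) (Nat.pow_pos (by omega))) h2
  have h2 := dm_eq_cells h hd hE hψ hc
  rw [hb, one_mul] at h2
  refine ⟨h2, fun hq hgm => ?_⟩
  have h3 := dm_test h hd hE hψ hs hc hb hq (fun t => (on_next' h hd hE hψ hs).comm _ hgm t)
  rw [dm_g h hE hψ hs hch] at h3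
  set q := Fintype.card F
  set S := (d.expo.map fun e => q ^ e.2).sum
  apply Nat.eq_of_mul_eq_mul_left (show 0 < q by omega)
  zify [show 1 ≤ q by omega] at h2 h3 hcur hNN ⊢
  linear_combination (-(q : ℤ)) * h2 + (q : ℤ) * hcur + h3 + ((q : ℤ) - 1) * hNN

end CfsgLib.EMinDeg
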